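import Cfsg.Agent.S3.M
import Cfsg.Agent.H7.PGV1

/-! Automorphisms of order 3 of Suzuki groups with solvable centralizer. -/

set_option autoImplicit false
set_option linter.unusedSectionVars false

namespace CfH5.S3

open Cfsg CfH9 CfH7 CfH8 CfH1 CfFT Subgroup
open T3 (nmI nmS pp2 odd2)
open scoped commutatorElement IsMulCommutative

universe u

variable {G : Type u} [Group G] [Finite G] {K L Q R Z D : Subgroup G} {w y : G} {n : ℕ}

theorem SzQ.eq_three (h : SzQ L Q Z D w n) (h0 : Zc(L) = ⊥) (hR : Nat.card R = 3) (h1 : R ≤ Nm(L)) (h2 : R ≤ Nm(Q))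
    (h3 : ¬ 3 ∣ Nat.card L) (hs : Sol (L ⊓ Cz(R))) : n = 3 := by
  haveI := Fact.mk Nat.prime_three
  have one : ∀ {x}, x ∈ L → x ∈ Cz(L) → x = 1 := fun a b => mem_bot.1 (h0 ▸ mi a b)
  have pR : IsPGroup 3 R := IsPGroup.of_card (n := 1) (by simpa using hR)
  have sR := sol_of_isPGroup pR
  have cop : ∀ {X}, X ≤ L → Cop R X := fun {X} e => by
    rw [Cop, hR]; exact (Nat.prime_three.coprime_iff_not_dvd).2 fun d => h3 (d.trans (card_dvd_of_le e))
  have z2 : ∀ {z}, z ∈ Z → z * z = 1 := fun hz => one (h.ZL' (mul_mem hz hz)) (h.sqZ _ hz)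
  have nZ : R ≤ Nm(Z) := fun r hr => mem_normalizer_of_cj_le (cj_le_iff_forall.2 fun z hz =>
    have := conj_mem_of_mem_normalizer (h2 hr) (h.ZQ hz)
    h.inv _ (h.QL this) (le_normalizer this) (by rw [conj_mul, z2 hz]; simp))
  have eZ : EAb 2 Z := ⟨ab_of_le_Cz fun z hz => mem_centralizer_iff.2 fun x hx =>
    (commutatorElement_eq_one_iff_mul_comm.1 (one (h.ZL' (cm_mem hz hx)) (h.cZ z hz x (h.ZQ hx)))).symm,
    fun z hz => by rw [pow_two, z2 hz]⟩
  have cZ : Nat.card Z = 2 ^ n := by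
    rw [← h.cardZ, ← CfH1.card_inf_mul_relIndex Cz(L) Z, show Cz(L) ⊓ Z = ⊥ from
      eq_bot_iff.2 fun g hg => one (h.ZL' hg.2) hg.1]
    simp
  have cit : ∀ {g z}, g ∈ L → Odd (orderOf g) → z ∈ Z → z ≠ 1 → g ∈ Cx(z) → g = 1 := fun hg o hz z1 e =>
    eq_one_of_odd' o h.syl.pgrp (h.cit' hg hz (fun k => z1 (one (h.ZL' hz) k)) e)
  have nB : R ≤ Nm(Nm(Q) ⊓ L) := nmI (h2.trans le_normalizer) h1
  obtain ⟨g, hg, g1⟩ : ∃ g ∈ L ⊓ Cz(R), g ∉ Nm(Q) := by
    by_contra! k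
    have m1 := card_modEq_card_inf_Cz pR h1
    have m2 := card_modEq_card_inf_Cz pR nB
    rw [show Nm(Q) ⊓ L ⊓ Cz(R) = L ⊓ Cz(R) from le_antisymm (inf_le_inf_right _ inf_le_right)
      fun g hg => mi (mi (k g hg) hg.1) hg.2] at m2
    have m3 := (Nat.modEq_iff_dvd' (card_le_of_le inf_le_right)).1 (m2.trans m1.symm)
    rw [← CfH1.card_inf_mul_relIndex Nm(Q) L, h.idx, mul_add, mul_one, Nat.add_sub_cancel, ← pow_add] at m3
    rcases (Nat.Prime.dvd_mul Nat.prime_three).1 m3 with d | d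
    · exact h3 (d.trans (card_dvd_of_le inf_le_right))
    · exact absurd (Nat.prime_three.dvd_of_dvd_pow d) (by decide)
  have m := card_modEq_card_inf_Cz pR nZ
  have V2 : Nat.card (Z ⊓ Cz(R) : Subgroup G) = 2 := by
    obtain ⟨k, rfl⟩ := h.odd
    rw [cZ, Nat.ModEq, pow_succ, pow_mul, Nat.mul_mod, Nat.pow_mod] at m
    simp only [Nat.reducePow, Nat.reduceMod, one_pow, Nat.reduceMul] at m
    by_contra k
    have eV := elemAb_of_le (inf_le_left (b := Cz(R))) eZ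
    have l : Z ⊓ Cz(R) ≤ L ⊓ Cz(R) := inf_le_inf_right _ h.ZL'
    have nc := not_cyc eV (by omega)
    have o := le_bot_iff.1 (le_of_noncyclic eV.1 (l.trans (nm_O _)) (cop2 (elemAb_isPGroup eV) (odd_O _)) nc
      fun z hz z1 x hx => cit (O_le _ hx.1).1 (OddS.ord (odd_O _) hx.1) hz.1 z1 hx.2)
    have c := chP_iff.1 (chP_of_sol hs o)
    obtain ⟨z, hz, z1⟩ := exists_ne_one_of_ne_bot (A := Op 2 (L ⊓ Cz(R))) fun e => nc (by
      rw [e, Cz_bot, inf_top_eq] at c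
      exact le_bot_iff.1 (l.trans c) ▸ cyc_bot)
    have l2 := (sylIn_pCoreOf_le (sylIn_inf_centralizer h1 (cop le_rfl) (.inl sR) h.syl h2)).trans inf_le_left
    exact g1 (h.ti g hg.1 z (l2 hz) (fun k => z1 (one (h.QL (l2 hz)) k))
      (le_normalizer (l2 (conj_mem_of_mem_normalizer (le_normalizer_pCoreOf _ hg) hz))))
  have sB : Sol (Nm(Q) ⊓ L) := sol_of_qb inf_le_left (sol_of_isPGroup h.syl.pgrp) (OddS.sol (by
    rw [OddS, card_qb inf_le_left, ← Nat.not_even_iff_odd, even_iff_two_dvd]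
    exact (h.syl.mono (le_inf le_normalizer h.QL) inf_le_right).not_dvd_relIndex))
  obtain ⟨H, hH, nH⟩ := coprime_hall_exists {2}ᶜ nB (cop inf_le_right) sB
  have oH := odd2 (pi_compl_iff.1 hH.pi)
  have HL := hH.le.trans inf_le_right
  have H0 : H ≠ ⊥ := by
    obtain ⟨d, hd, d1⟩ := h.exists_D
    obtain ⟨b, -, e⟩ := hH.exists_cj_le sB (pi_compl_iff.2 (pp2 h.Hodd)) (h.HL.trans (inf_comm _ _).le)
    exact ne_bot_of_mem (e (conj_mem_cj b hd)) (by simpa using d1)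
  have HC : H ⊓ Cz(R) = ⊥ := eq_bot_iff.2 fun x hx => by
    obtain ⟨⟨v, hv⟩, v1, e⟩ := (Nat.card_eq_two_iff' (1 : (Z ⊓ Cz(R) : Subgroup G))).1 V2
    have v1 : v ≠ 1 := fun e => v1 (Subtype.ext e)
    refine cit (HL hx.1) (OddS.ord oH hx.1) hv.1 v1 (mem_Cx'.2 (congrArg Subtype.val (e ⟨_, mi
      (h.nmZ (HL hx.1) (hH.le hx.1).1 hv.1) (mul_mem (mul_mem hx.2 hv.2) (inv_mem hx.2))⟩ fun e' => v1 ?_)))
    simpa using congrArg Subtype.val e'
  have fr : Frob (H ⊔ R) H R := ⟨⟨rfl, nH, Cop.inf_eq_bot (cop HL).symm⟩, H0, fun e => by simp [e] at hR,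
    fun x hx x1 => by rwa [← Cz_zpowers, CfFT.zpowers_eq_of_card_prime (hR ▸ Nat.prime_three) hx x1]⟩
  obtain ⟨x, hx, x1⟩ := exists_ne_one_of_ne_bot H0
  have := fr.wielandt_card (sup_le (fun x hx => mem_normalizer_of_cj_le (cj_le_iff_forall.2 fun z hz =>
    h.nmZ (HL hx) (hH.le hx).1 hz)) nZ) (cop2 (elemAb_isPGroup eZ) (sup_comm H R ▸ BS.Bn.oddS_sup
      (by rw [OddS, hR]; decide) oH nH)) (sol_of_isPGroup (elemAb_isPGroup eZ)) (eq_bot_iff.2 fun z hz =>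
        by_contra fun z1 => x1 (cit (HL hx) (OddS.ord oH hx) hz.1 z1 (le_Cx_iff.2 hz.2 hx)))
  rw [cZ, V2, hR] at this
  exact Nat.pow_right_injective le_rfl this

theorem mem_Nm_of_sol {p : ℕ} [Fact p.Prime] (hK : IsComponent K) (hy : y ^ p = 1) (hs : Sol Cx(y)) : y ∈ Nm(K) := by
  by_contra h
  by_cases e : (yH hK hy h).range = ⊥
  · refine qs_not_le_centralizer hK.2 fun k hk => ?_
    have := y_dec_Cz hK hy h hk
    rw [show (k * y) ^ p = 1 from mem_bot.1 (e ▸ ⟨⟨k, hk⟩, rfl⟩), mul_one] at this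
    simpa using inv_mem this
  · haveI := (nontrivial_iff_ne_bot _).2 e
    exact quasisimple_not_isSolvable (quasisimple_of_surjective hK.2 (yH hK hy h).rangeRestrict_surjective)
      (CfH8.isSolvable_of_le hs (by rintro _ ⟨k, rfl⟩; exact mem_Cx.2 (y_comm' hK hy h k.2).symm))

theorem SzQ.eq_three' (h : SzQ K Q Z D w n) (h3 : ¬ 3 ∣ Nat.card K) (hy : orderOf y = 3) (hn : y ∈ Nm(K))
    (hs : Sol Cx(y)) : n = 3 := by
  haveI := Fact.mk Nat.prime_three
  have hR : Nat.card (zpowers y) = 3 := by rw [Nat.card_zpowers, hy]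
  have nK : K ≤ Nm(Zc(K)) := le_normalizer.trans (Nm_le_Nm_Zc K)
  have nR := zpowers_le.2 hn
  have nR' := nR.trans (Nm_le_Nm_Zc K)
  have sR : Sol (zpowers y) := (Cyc.ab inferInstance).nil.sol
  have cop : Cop (zpowers y) K := by rw [Cop, hR]; exact (Nat.prime_three.coprime_iff_not_dvd).2 h3
  have pf := qs_perfect h.qs
  have q : IsQuasisimple (qb Zc(K) K) := qs_map ((qs_subgroupOf_iff nK).2 h.qs) _ fun e =>
    qs_not_le_centralizer h.qs (((qb_eq_bot_iff nK).1 e).trans inf_le_right)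
  have h3' : ¬ 3 ∣ Nat.card (qb Zc(K) K) := fun d => h3 (d.trans (card_qb_dvd nK))
  have s : Sol (qb Zc(K) K ⊓ Cz(qb Zc(K) (zpowers y))) := by
    rw [← qb_Cz nK nR' nR (cop.mono le_rfl inf_le_left) (.inl sR), Cz_zpowers]
    exact sol_qb (CfH8.isSolvable_of_le hs inf_le_right)
  have hR' := (card_qb_prime (hR ▸ Nat.prime_three) nR').resolve_left fun e => by
    rw [e, Cz_bot, inf_top_eq] at s
    exact quasisimple_not_isSolvable q s
  obtain ⟨Q', hQ, nQ⟩ := exists_invariant_sylIn 2 (qb_le_Nm (Q := Zc(K)) nR) cop.qb (.inl (sol_qb sR))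
  obtain ⟨Z', D', w', n', h'⟩ := (ks_of h3').szQ q le_rfl hQ
  have z : Zc(qb Zc(K) K) = ⊥ := eq_bot_iff.2 fun x hx => by
    obtain ⟨g, hg, rfl⟩ := mem_qb.1 hx.1
    refine nmQuot_eq_one_iff.2 (mi hg (CfH7.mem_Cz_of_perfect pf (le_normalizer hg) fun k hk => ?_))
    have := (qb_le_Cz_iff (zpowers_le.2 g.2) nK).1 (qb_zpowers g ▸ zpowers_le.2 hx.2)
    exact (commutator_comm _ K ▸ this : ⁅K, zpowers (g : G)⁆ ≤ Zc(K)) (commutator_mem_commutator hk (mem_zpowers _)) |>.2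
  obtain rfl := h'.eq_three z (hR'.trans hR) (qb_le_Nm nR) nQ h3' s
  have c := h'.cardL
  rw [← inf_relIndex_left, z, relIndex_bot_left, card_qb nK, inf_relIndex_left, h.cardL] at c
  obtain ⟨k, rfl⟩ := h.odd
  by_contra e
  have := h.three
  have l : 2 ^ 5 ≤ 2 ^ (2 * k + 1) := Nat.pow_le_pow_right two_pos (by omega)
  generalize 2 ^ (2 * k + 1) = q at c l
  obtain ⟨r, rfl⟩ : ∃ r, q = r + 1 := ⟨q - 1, by omega⟩
  have : 31 ≤ r := by omega
  simp only [Nat.add_sub_cancel] at c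
  norm_num at c
  have := Nat.mul_le_mul (Nat.mul_le_mul (Nat.mul_le_mul l l) this) (Nat.add_le_add_right (Nat.mul_le_mul l l) 1)
  omega

theorem component_three (hK : IsComponent K) (h3 : ¬ 3 ∣ Nat.card K) (hy : orderOf y = 3) (hs : Sol Cx(y)) :
    (∃ (F : Type) (_ : Field F) (_ : Fintype F), Fintype.card F = 8 ∧ Nonempty (K ⧸ center K ≃* Lie.Sz F 4)) ∧
      y ∈ Nm(K) ∧ (pCore 2 G = ⊥ → IsSimpleGroup K) := by
  haveI := Fact.mk Nat.prime_three
  have hn := mem_Nm_of_sol hK (hy ▸ pow_orderOf_eq_one y) hs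
  haveI := hK.2.2
  obtain ⟨F, _, _, m, hm, hF, ⟨e⟩⟩ := suzuki_of_three (K ⧸ center K) inferInstance (fun hc =>
    quasisimple_not_isSolvable (quasisimple_of_surjective hK.2 (QuotientGroup.mk'_surjective (center K)))
      inferInstance) fun d => h3 (d.trans (card_quotient_dvd_card (center K)))
  obtain ⟨Q, hQ⟩ := exists_sylIn 2 K
  obtain ⟨Z, D, w, h⟩ := exists_szQ' hK.2 (QuotientGroup.mk'_surjective (center K)) (fun x => by
    rw [QuotientGroup.mk'_apply, QuotientGroup.eq_one_iff, mem_center_iff, mem_centralizer_iff]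
    exact ⟨fun h g hg => congrArg Subtype.val (h ⟨g, hg⟩), fun h g => Subtype.ext (h g g.2)⟩) hm hF e hQ
  obtain rfl : m = 1 := by have := h.eq_three' h3 hy hn hs; omega
  refine ⟨⟨F, _, _, hF, ⟨e⟩⟩, hn, fun h0 => ?_⟩
  have l : Zc(K) ≤ Op 2 K := le_pCoreOf inf_le_left (le_normalizer.trans (Nm_le_Nm_Zc K))
    (hQ.pgrp.to_le fun x hx => h.ZQ (h.ZL x hx.1 hx.2))
  have l2 := (isComponentOf_iff.1 (isComponentOf_top_iff.2 hK)).1.pCoreOf_le (p := 2)
  rw [pCoreOf_top, h0] at l2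
  have z : center K = ⊥ := (map_eq_bot_iff_of_injective _ K.subtype_injective).1
    (map_subtype_center K ▸ le_bot_iff.1 (l.trans l2))
  exact ((QuotientGroup.quotientMulEquivOfEq z).trans QuotientGroup.quotientBot).symm.isSimpleGroup

end CfH5.S3
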