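import Cfsg.Agent.H1.Sz
import Cfsg.Agent.H7.Sz2
import Cfsg.Agent.OD.Helper5x42f6e07c5a

/-! More facts on the Suzuki groups in Bruhat coordinates. -/

set_option autoImplicit false
set_option linter.unusedSectionVars false

namespace CfH1.SzD

open Cfsg Subgroup CfH9 CfH7 CfH8
open scoped commutatorElement

variable {L : Type*} [Group L] {F : Type*} [Field F] [CharP F 2] (D : SzD L F)

/-- the centre of the Sylow subgroup -/
def Z0 : Subgroup L where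
  carrier := {g | ∃ b, g = D.t 0 b}
  one_mem' := ⟨0, D.t_zero.symm⟩
  mul_mem' := by rintro _ _ ⟨b, rfl⟩ ⟨d, rfl⟩; exact ⟨b + d, by rw [D.t_mul]; simp⟩
  inv_mem' := by rintro _ ⟨b, rfl⟩; exact ⟨b, by rw [D.t_inv]; simp⟩

theorem t0_mul (b d : F) : D.t 0 b * D.t 0 d = D.t 0 (b + d) := by rw [D.t_mul]; simp

theorem t_comm (a b c d : F) : ⁅D.t a b, D.t c d⁆ = D.t 0 (D.θ a * c + D.θ c * a) := by
  rw [commutatorElement_def, D.t_inv, D.t_inv, D.t_mul, D.t_mul, D.t_mul]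
  congr 1
  · grind
  · simp only [map_add]; grind

theorem cit {g : L} {b : F} (hb : b ≠ 0) (e : g * D.t 0 b * g⁻¹ = D.t 0 b) : g ∈ D.T := by
  obtain ⟨_, ⟨a, c, rfl⟩, μ, rfl⟩ := D.mem_B_of_conj (D.t_mem 0 b) (fun h => hb (D.t_eq_one h).2)
    (by rw [e]; exact D.T_le_B (D.t_mem 0 b))
  have e1 : D.t a c * (D.h μ * D.t 0 b * (D.h μ)⁻¹) * (D.t a c)⁻¹ = D.t 0 b := by
    refine Eq.trans ?_ e; group
  rw [D.h_t0, D.t_inv, D.t_mul, D.t_mul] at e1
  have e2 := (D.t_inj e1).2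
  have h1 : D.θ μ ≠ 0 := by simp
  have e3 : b / D.θ μ = b := by
    simp only [add_zero, mul_zero] at e2; grind
  have e4 : D.θ μ = D.θ 1 := by
    rw [map_one]; field_simp at e3; exact e3.symm
  have e5 : μ = 1 := Units.ext (D.θ.injective e4)
  simp [e5, D.t_mem]

variable [Finite F] [Finite L]

theorem card_Z0 : Nat.card D.Z0 = Nat.card F :=
  (Nat.card_congr (Equiv.ofBijective (fun b => (⟨D.t 0 b, b, rfl⟩ : D.Z0))
    ⟨fun _ _ e => (D.t_inj (congrArg Subtype.val e)).2, by rintro ⟨_, b, rfl⟩; exact ⟨b, rfl⟩⟩)).symm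

theorem card_T : Nat.card D.T = Nat.card F * Nat.card F := by
  rw [← Nat.card_prod]
  exact (Nat.card_congr (Equiv.ofBijective (fun x : F × F => (⟨D.t x.1 x.2, D.t_mem _ _⟩ : D.T))
    ⟨fun _ _ e => Prod.ext (D.t_inj (congrArg Subtype.val e)).1 (D.t_inj (congrArg Subtype.val e)).2,
      by rintro ⟨_, a, b, rfl⟩; exact ⟨(a, b), rfl⟩⟩)).symm

theorem card_H : Nat.card D.h.range = Nat.card F - 1 := by
  rw [← Nat.card_units]
  exact (Nat.card_congr (MonoidHom.ofInjective ((injective_iff_map_eq_one _).2 fun _ => D.h_inj)).toEquiv).symm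

theorem T_inf_H {g : L} (h1 : g ∈ D.T) (h2 : g ∈ D.h.range) : g = 1 := by
  obtain ⟨μ, rfl⟩ := h2
  obtain ⟨a, b, e⟩ := inv_mem h1
  rw [(D.th_inj a b μ (by rw [← e, inv_mul_cancel])).2.2, map_one]

theorem card_B : Nat.card D.B = Nat.card F * Nat.card F * (Nat.card F - 1) := by
  rw [← D.card_T, ← D.card_H, ← Nat.card_prod]
  refine (Nat.card_congr (Equiv.ofBijective (fun x : D.T × D.h.range =>
    (⟨x.1 * x.2, mul_mem (D.T_le_B x.1.2) (by obtain ⟨μ, e⟩ := x.2.2; rw [← e]; exact D.h_mem μ)⟩ : D.B))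
    ⟨fun x y e => ?_, by rintro ⟨_, u, hu, μ, rfl⟩; exact ⟨(⟨u, hu⟩, ⟨_, μ, rfl⟩), rfl⟩⟩)).symm
  have e : (x.1 : L) * x.2 = y.1 * y.2 := congrArg Subtype.val e
  have e1 : (y.1 : L)⁻¹ * x.1 = y.2 * (x.2 : L)⁻¹ := by
    rw [inv_mul_eq_iff_eq_mul, ← mul_assoc, ← e, mul_inv_cancel_right]
  have e2 := D.T_inf_H (mul_mem (inv_mem y.1.2) x.1.2) (e1 ▸ mul_mem y.2.2 (inv_mem x.2.2))
  refine Prod.ext (Subtype.ext (inv_mul_eq_one.1 e2).symm) (Subtype.ext ?_)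
  exact (mul_inv_eq_one.1 (e1 ▸ e2)).symm

theorem index_B : D.B.index = Nat.card F * Nat.card F + 1 := by
  haveI : Finite D.T := Nat.finite_of_card_ne_zero (by rw [D.card_T]; simp [Nat.card_pos.ne'])
  rw [← D.card_T, ← Finite.card_option]
  refine (Nat.card_congr (Equiv.ofBijective (fun x : Option D.T =>
    (x.elim ((1 : L) : L ⧸ D.B) fun u => ((u * D.w : L) : L ⧸ D.B))) ⟨?_, fun x => ?_⟩)).symm
  · have k : ∀ u : D.T, ((1 : L) : L ⧸ D.B) ≠ ((u * D.w : L) : L ⧸ D.B) := fun u e => by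
      have := QuotientGroup.eq.1 e
      rw [inv_one, one_mul] at this
      exact D.w_not_mem ((mul_mem_cancel_left (D.T_le_B u.2)).1 this)
    rintro (_ | u) (_ | v) e
    · rfl
    · exact absurd e (k v)
    · exact absurd e.symm (k u)
    · have := QuotientGroup.eq.1 e
      rw [mul_inv_rev, D.w_inv, mul_assoc, ← mul_assoc _ (v : L), ← mul_assoc] at this
      rw [Subtype.ext (inv_mul_eq_one.1 (D.ti' (mul_mem (inv_mem u.2) v.2) this))]
  · obtain ⟨g, rfl⟩ := QuotientGroup.mk_surjective x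
    by_cases hg : g ∈ D.B
    · exact ⟨none, QuotientGroup.eq.2 (by simpa using hg)⟩
    · obtain ⟨u, hu, b, hb, rfl⟩ := D.bruhat' hg
      exact ⟨some ⟨u, hu⟩, QuotientGroup.eq.2 (by simpa [mul_assoc] using hb)⟩

/-- the image of `v ↦ v + θ v` -/
def T0 : AddSubgroup F := (AddMonoidHom.id F + D.θ.toAddMonoidHom).range

theorem T0_two {x y : F} (hx : x ∉ D.T0) (hy : y ∉ D.T0) : x + y ∈ D.T0 := by
  have h1 : Nat.card (AddMonoidHom.id F + D.θ.toAddMonoidHom).ker = 2 := by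
    rw [Nat.card_eq_two_iff' 0]
    refine ⟨⟨1, by simp [AddMonoidHom.mem_ker, CharTwo.add_self_eq_zero]⟩,
      fun e => one_ne_zero (congrArg Subtype.val e), ?_⟩
    rintro ⟨v, hv⟩ h0
    have e : D.θ v = v := by
      have : v + D.θ v = 0 := hv
      grind
    have := D.sq v
    rw [e, e] at this
    have h0 : v ≠ 0 := fun e => h0 (Subtype.ext e)
    exact Subtype.ext (mul_left_cancel₀ h0 (by rw [← pow_two, ← this, mul_one]))
  have h2 := AddSubgroup.card_mul_index D.T0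
  have h3 := (AddMonoidHom.id F + D.θ.toAddMonoidHom).ker.card_mul_index
  rw [AddSubgroup.index_ker, h1] at h3
  have h4 : D.T0.index = 2 := by
    have : 0 < Nat.card D.T0 := Nat.card_pos
    exact Nat.eq_of_mul_eq_mul_left this (by rw [h2, mul_comm]; exact h3.symm)
  rw [AddSubgroup.add_mem_iff_of_index_two h4]
  simp [hx, hy]

theorem mem_of_T0 {U : Subgroup L} {a b : F} (h : ∀ y ∈ D.T, ⁅D.t a b, y⁆ ∈ U) {v : F} (hv : v ∈ D.T0) :
    D.t 0 (D.θ a * a * v) ∈ U := by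
  obtain ⟨c, rfl⟩ := hv
  have := h _ (D.t_mem (a * c) 0)
  rw [D.t_comm, map_mul] at this
  convert this using 2
  simp; ring

theorem comm1 {U : Subgroup L} {a b : F} (ha : a ≠ 0) (h : ∀ y ∈ D.T, ⁅D.t a b, y⁆ ∈ U) {c d : F}
    (hc : D.t 0 c ∉ U) (hd : D.t 0 d ∉ U) : D.t 0 (c + d) ∈ U := by
  have h0 : D.θ a * a ≠ 0 := by simpa using ha
  have k : ∀ c, D.t 0 c ∉ U → c / (D.θ a * a) ∉ D.T0 := fun c hc e =>
    hc (by simpa [mul_div_cancel₀ _ h0] using D.mem_of_T0 h e)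
  have := D.mem_of_T0 h (D.T0_two (k c hc) (k d hd))
  rwa [← add_div, mul_div_cancel₀ _ h0] at this

theorem comm2 {U : Subgroup L} {a b a' b' : F} (ha : a ≠ 0) (ha' : a' ≠ 0) (hn : a ≠ a')
    (h : ∀ y ∈ D.T, ⁅D.t a b, y⁆ ∈ U) (h' : ∀ y ∈ D.T, ⁅D.t a' b', y⁆ ∈ U) (c : F) : D.t 0 c ∈ U := by
  by_contra hc
  have h0 : D.θ a * a ≠ 0 := by simpa using ha
  have h0' : D.θ a' * a' ≠ 0 := by simpa using ha'
  -- `V` is the subgroup of the `v` with `t 0 v ∈ U`; it is invariant under `γ`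
  set γ := D.θ a * a / (D.θ a' * a') with hγ
  have k1 : ∀ v, D.t 0 v ∈ U → D.t 0 (γ * v) ∈ U := fun v hv => by
    by_cases e : v / (D.θ a' * a') ∈ D.T0
    · have := D.mem_of_T0 h e
      rwa [show D.θ a * a * (v / (D.θ a' * a')) = γ * v by rw [hγ]; ring] at this
    · exfalso
      have e' : c / (D.θ a' * a') ∉ D.T0 := fun e =>
        hc (by simpa [mul_div_cancel₀ _ h0'] using D.mem_of_T0 h' e)
      have := D.mem_of_T0 h' (D.T0_two e e')
      rw [← add_div, mul_div_cancel₀ _ h0', ← D.t0_mul] at this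
      exact hc ((mul_mem_cancel_left hv).1 this)
  have k2 : ∀ δ : F, δ ≠ 0 → (∀ v, D.t 0 v ∈ U → D.t 0 (δ * v) ∈ U) → ∀ v, D.t 0 (δ * v) ∈ U → D.t 0 v ∈ U := by
    intro δ hδ k v hv
    obtain ⟨w, hw⟩ := Finite.surjective_of_injective (α := {v // D.t 0 v ∈ U}) (f := fun x : {v // D.t 0 v ∈ U} =>
      (⟨δ * x.1, k _ x.2⟩ : {v // D.t 0 v ∈ U}))
      (fun x y e => Subtype.ext (mul_left_cancel₀ hδ (congrArg Subtype.val e))) ⟨_, hv⟩
    rw [← mul_left_cancel₀ hδ (congrArg Subtype.val hw)]; exact w.2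
  have g0 : γ ≠ 0 := div_ne_zero h0 h0'
  have g1 : 1 + γ ≠ 0 := fun e => hn (D.mul_θ_inj (by
    have : γ = 1 := by grind
    rwa [hγ, div_eq_one_iff_eq h0'] at this))
  refine hc (k2 _ g1 (fun v hv => ?_) c ?_)
  · rw [add_mul, one_mul, ← D.t0_mul]; exact mul_mem hv (k1 v hv)
  · rw [add_mul, one_mul]
    exact D.comm1 ha h hc fun e => hc (k2 γ g0 k1 c e)

theorem aut_w {β : MulAut L} (hT : ∀ u ∈ D.T, β u ∈ D.T) : β D.w ∉ D.B := fun h => by
  have h1 : D.T.map β.toMonoidHom = D.T :=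
    eq_of_le_of_card_ge (map_le_iff_le_comap.2 hT) (card_map_of_injective β.injective).ge
  obtain ⟨v, hv, e⟩ := h1.ge (D.B_conj_mem h (hT _ (D.t_mem 0 1)))
  have : v = D.w * D.t 0 1 * D.w := β.injective (by
    rw [map_mul, map_mul]; refine Eq.trans e ?_; rw [← map_inv, D.w_inv])
  exact D.t01_ne (D.ti' (D.t_mem 0 1) (D.T_le_B (this ▸ hv)))

theorem aut_w' {β : MulAut L} {u b : L} (hu : u ∈ D.T) (hb : b ∈ D.B) (e : β D.w = u * D.w * b) :
    D.w * (MulAut.conj u⁻¹ * β) D.w ∈ D.B := by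
  rw [MulAut.mul_apply, e, MulAut.conj_apply]
  have := mul_mem hb (D.T_le_B hu)
  convert this using 1
  calc _ = D.w * D.w * (b * u) := by group
    _ = _ := by rw [D.w_w, one_mul]

include D in
theorem aut_inner' (hF : ∃ x : F, x ^ 2 ≠ x) (ho : Odd (Nat.card (F ≃+* F))) {α : MulAut L} {k : L}
    (hα : α * α = MulAut.conj k) : ∃ g, α = MulAut.conj g := by
  obtain ⟨g, -, hg⟩ := (D.sylIn_T.map_surj (f := α.toMonoidHom) α.surjective).conj D.sylIn_T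
  have hT : ∀ u ∈ D.T, (MulAut.conj g * α) u ∈ D.T := fun u hu =>
    hg ▸ conj_mem_cj g (mem_map_of_mem α.toMonoidHom hu)
  obtain ⟨u, hu, b, hb, e⟩ := D.bruhat' (D.aut_w hT)
  obtain ⟨k, hk⟩ := D.aut_inner_aux hF ho (φ := MulAut.conj u⁻¹ * (MulAut.conj g * α))
    (fun v hv => D.B_conj_mem (inv_mem (D.T_le_B hu)) (hT v hv)) (k := u⁻¹ * g * α (u⁻¹ * g) * k)
    (D.aut_w' hu hb e) (by
      ext x
      have : α (α x) = k * x * k⁻¹ := by rw [← MulAut.mul_apply, hα]; rfl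
      simp [this, mul_assoc])
  refine ⟨g⁻¹ * u * k, ?_⟩
  rw [map_mul, ← hk, map_mul, map_inv, map_inv]; group

theorem aut_odd (hF : ∃ x : F, x ^ 2 ≠ x) {φ : MulAut L} (ho : Odd (orderOf φ))
    (hZ : ∀ b, φ (D.t 0 b) = D.t 0 b) : φ = 1 := by
  have c : ∀ u ∈ D.T, ∀ b, u * D.t 0 b * u⁻¹ = D.t 0 b := by
    rintro _ ⟨a, c, rfl⟩ b
    rw [D.t_inv, D.t_mul, D.t_mul]; congr 1 <;> grind
  have hT : ∀ u ∈ D.T, φ u ∈ D.T := fun u hu => D.cit one_ne_zero (by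
    nth_rw 1 [← hZ 1]
    rw [← map_inv, ← map_mul, ← map_mul, c u hu, hZ])
  obtain ⟨u, hu, b, hb, e⟩ := D.bruhat' (D.aut_w hT)
  have h1 := D.aut_w' hu hb e
  have h2 : ∀ v ∈ D.T, (MulAut.conj u⁻¹ * φ) v ∈ D.T := fun v hv =>
    D.B_conj_mem (inv_mem (D.T_le_B hu)) (hT v hv)
  have h3 : ∀ b, (MulAut.conj u⁻¹ * φ) (D.t 0 b) = D.t 0 b := fun b => by
    rw [MulAut.mul_apply, hZ, MulAut.conj_apply, c _ (inv_mem hu)]
  have h4 : ∀ μ, (MulAut.conj u⁻¹ * φ) (D.h μ) = D.h μ := fun μ => by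
    obtain ⟨ν, hν⟩ := D.aut_H h2 h1 μ
    have := congrArg (MulAut.conj u⁻¹ * φ) (D.h_t0 μ 1)
    rw [map_mul, map_mul, map_inv _ (D.h μ), hν, h3, h3, D.h_t0] at this
    have := (D.t_inj this).2
    rw [div_eq_div_iff (by simp) (by simp), one_mul, one_mul] at this
    rw [hν, Units.ext (D.θ.injective this)]
  have h5 := D.aut_eq_one_of_B _ (by
    rintro _ ⟨v, hv, ν, rfl⟩; rw [map_mul, D.aut_fix_T hF _ h2 h3 h4 v hv, h4]) h1
  have h6 : φ = MulAut.conj u := by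
    rw [map_inv] at h5; exact (inv_mul_eq_one.1 h5).symm
  refine eq_one_of_pow_four ?_ ho
  rw [h6, ← map_pow, show 4 = 2 ^ 2 by rfl, D.pow_four hu, map_one]

end CfH1.SzD
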