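import Cfsg.Agent.S3.A
import Cfsg.Agent.FT.BG5

/-! Quasisimple subgroups whose central quotient is a Suzuki group, in ambient form. -/

set_option autoImplicit false
set_option linter.unusedSectionVars false

namespace CfH5.S3

open Cfsg CfH9 CfH7 CfH8 CfH1 CfFT Subgroup
open scoped commutatorElement IsMulCommutative

variable {G : Type*} [Group G]

/-- `L / Z(L)` is `Sz(2 ^ n)`, `Q` is a Sylow `2`-subgroup, `Z`, `H` are the preimages of the centre of the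
Sylow subgroup and of a torus -/
structure SzQ0 (L Q Z H : Subgroup G) (w : G) (n : ℕ) : Prop where
  qs : IsQuasisimple L
  odd : Odd n
  three : 3 ≤ n
  syl : SylIn 2 Q L
  ZL : ∀ x ∈ L, x ∈ Cz(L) → x ∈ Z
  ZQ : Z ≤ Q
  HL : H ≤ L ⊓ Nm(Q)
  sq : ∀ x ∈ Q, x * x ∈ Z
  inv : ∀ x ∈ L, x ∈ Nm(Q) → x * x ∈ Cz(L) → x ∈ Z
  sqZ : ∀ x ∈ Z, x * x ∈ Cz(L)
  cZ : ∀ z ∈ Z, ∀ x ∈ Q, ⁅z, x⁆ ∈ Cz(L)
  der : ∀ x ∈ Q, ∀ y ∈ Q, ⁅x, y⁆ ∈ Z
  sq_inj : ∀ x ∈ Q, ∀ y ∈ Q, x * x * (y * y)⁻¹ ∈ Cz(L) → x * y⁻¹ ∈ Z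
  cardZ : (Cz(L)).relIndex Z = 2 ^ n
  cardQ : Z.relIndex Q = 2 ^ n
  cardH : (Cz(L)).relIndex H = 2 ^ n - 1
  cardL : (Cz(L)).relIndex L = 2 ^ n * 2 ^ n * (2 ^ n - 1) * (2 ^ n * 2 ^ n + 1)
  idx : (Nm(Q)).relIndex L = 2 ^ n * 2 ^ n + 1
  trans : ∀ x ∈ Z, x ∉ Cz(L) → ∀ y ∈ Z, y ∉ Cz(L) → ∃ h ∈ H, h * x * h⁻¹ * y⁻¹ ∈ Cz(L)
  cit : ∀ g ∈ L, ∀ z ∈ Z, z ∉ Cz(L) → g * z * g⁻¹ * z⁻¹ ∈ Cz(L) → g ∈ Q
  ti : ∀ g ∈ L, ∀ z ∈ Q, z ∉ Cz(L) → g * z * g⁻¹ ∈ Nm(Q) → g ∈ Nm(Q)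
  max : ∀ Y, Q ≤ Y → Y ≤ L → ¬ Y ≤ Nm(Q) → Y = L
  HQ : ∀ h ∈ H, h ∈ Q → h ∈ Cz(L)
  Hpow : ∀ h ∈ H, h ^ (2 ^ n - 1) ∈ Cz(L)
  Hab : Ab H
  wL : w ∈ L
  ww : w * w ∈ Cz(L)
  wH : ∀ h ∈ H, w * h * w⁻¹ * h ∈ Cz(L)
  wQ : w ∉ Nm(Q)
  inner : ∀ g ∈ Nm(L), ∀ k ∈ L, k⁻¹ * (g * g) ∈ Cz(L) → ∃ l ∈ L, l⁻¹ * g ∈ Cz(L)
  odd_cent : ∀ g ∈ Nm(L), Odd (orderOf g) → (∀ z ∈ Z, g * z * g⁻¹ * z⁻¹ ∈ Cz(L)) → g ∈ Cz(L)
  comm1 : ∀ x ∈ Q, x ∉ Z → ∀ U : Subgroup G, Zc(L) ≤ U → (∀ y ∈ Q, ⁅x, y⁆ ∈ U) →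
    ∀ a ∈ Z, ∀ b ∈ Z, a ∉ U → b ∉ U → a * b ∈ U
  comm2 : ∀ x ∈ Q, x ∉ Z → ∀ x' ∈ Q, x' ∉ Z → x * x'⁻¹ ∉ Z → ∀ U : Subgroup G, Zc(L) ≤ U →
    (∀ y ∈ Q, ⁅x, y⁆ ∈ U) → (∀ y ∈ Q, ⁅x', y⁆ ∈ U) → Z ≤ U

/-- the same with a torus of odd order -/
structure SzQ (L Q Z H : Subgroup G) (w : G) (n : ℕ) : Prop extends SzQ0 L Q Z H w n where
  Hodd : OddS H

theorem mem_der_of_center' [Finite G] {p : ℕ} [hp : Fact p.Prime] {S : Subgroup G} {z : G} (hS : SylIn p S ⊤)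
    (hz : z ∈ S) (hz' : z ∈ center G) (hz'' : z ∈ _root_.commutator G) : z ∈ ⁅S, S⁆ := by
  have h1 := Abelianization.commutator_subset_ker
    (MonoidHom.transfer (Abelianization.of : S →* _)) hz''
  rw [MonoidHom.mem_ker, MonoidHom.transfer_eq_pow _ z fun k g _ => by
    rw [mul_assoc, ← mem_center_iff.1 (pow_mem hz' k), inv_mul_cancel_left]] at h1
  have h2 := mem_map_of_mem S.subtype ((QuotientGroup.eq_one_iff _).1 h1)
  rw [commutator_def, map_commutator, map_subtype_top] at h2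
  obtain ⟨k, hk⟩ := isPGroup_iff_mem.1 hS.pgrp z hz
  exact CfH1.mem_of_pow_mem_of_coprime h2 (Nat.Coprime.of_dvd_left (orderOf_dvd_of_pow_eq_one hk)
    (Nat.Coprime.pow_left k ((hp.out.coprime_iff_not_dvd).2 (sylIn_top_iff.1 hS).2)))

/-- ambient form -/
theorem mem_der_of_Zc [Finite G] {p : ℕ} [hp : Fact p.Prime] {S L : Subgroup G} {z : G} (hS : SylIn p S L)
    (hL : ⁅L, L⁆ = L) (hz : z ∈ S) (hz' : z ∈ Cz(L)) : z ∈ ⁅S, S⁆ := by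
  have := mem_der_of_center' (z := ⟨z, hS.le hz⟩) hS.subgroupOf_top hz
    (mem_center_iff.2 fun g => Subtype.ext (mem_centralizer_iff.1 hz' g g.2)) (by
      rw [commutator_def, ← subgroupOf_self, ← CfH7.subgroupOf_commutator le_rfl le_rfl, hL]; simp)
  rwa [← CfH7.subgroupOf_commutator hS.le hS.le, mem_subgroupOf] at this

section
variable {L : Subgroup G} {X : Type*} [Group X] (f : L →* X)

open Classical in
noncomputable def pr (g : G) : X := if h : g ∈ L then f ⟨g, h⟩ else 1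

def pb (S : Subgroup X) : Subgroup G := (S.comap f).map L.subtype

variable {f} {x y g : G} {S T : Subgroup X}

theorem pr_eq (h : x ∈ L) : pr f x = f ⟨x, h⟩ := dif_pos h
theorem pr_mul (hx : x ∈ L) (hy : y ∈ L) : pr f (x * y) = pr f x * pr f y := by
  rw [pr_eq hx, pr_eq hy, pr_eq (mul_mem hx hy), ← map_mul]; rfl
theorem pr_inv (hx : x ∈ L) : pr f x⁻¹ = (pr f x)⁻¹ := by
  rw [pr_eq hx, pr_eq (inv_mem hx), ← map_inv]; rfl
theorem pr_pow (hx : x ∈ L) (k : ℕ) : pr f (x ^ k) = pr f x ^ k := by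
  rw [pr_eq hx, pr_eq (pow_mem hx k), ← map_pow]; rfl
theorem pr_cj (hg : g ∈ L) (hx : x ∈ L) : pr f (g * x * g⁻¹) = pr f g * pr f x * (pr f g)⁻¹ := by
  rw [pr_mul (mul_mem hg hx) (inv_mem hg), pr_mul hg hx, pr_inv hg]
theorem pr_comm (hx : x ∈ L) (hy : y ∈ L) : pr f ⁅x, y⁆ = ⁅pr f x, pr f y⁆ := by
  rw [commutatorElement_def, pr_mul (mul_mem (mul_mem hx hy) (inv_mem hx)) (inv_mem hy), pr_cj hx hy, pr_inv hy,
    commutatorElement_def]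
theorem cm_mem {K : Subgroup G} (hx : x ∈ K) (hy : y ∈ K) : ⁅x, y⁆ ∈ K :=
  mul_mem (mul_mem (mul_mem hx hy) (inv_mem hx)) (inv_mem hy)
theorem mem_pb : x ∈ pb f S ↔ x ∈ L ∧ pr f x ∈ S :=
  ⟨by rintro ⟨⟨y, hy⟩, h, rfl⟩; exact ⟨hy, by rwa [coe_subtype, pr_eq hy]⟩,
    fun ⟨h, h'⟩ => ⟨⟨x, h⟩, by rwa [pr_eq h] at h', rfl⟩⟩
theorem pb_le : pb f S ≤ L := map_subtype_le _
theorem pr_surj (hf : Function.Surjective f) (z : X) : ∃ x ∈ L, pr f x = z := by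
  obtain ⟨⟨x, hx⟩, rfl⟩ := hf z
  exact ⟨x, hx, pr_eq hx⟩
theorem relIndex_pb (hf : Function.Surjective f) : (pb f S).relIndex (pb f T) = S.relIndex T := by
  rw [pb, pb, relIndex_map_map_of_injective _ _ L.subtype_injective, relIndex_comap,
    map_comap_eq_self_of_surjective hf]
theorem pb_top : pb f ⊤ = L := by rw [pb, comap_top, map_subtype_top]
theorem mem_Nm_pb [Finite G] [Finite X] (hf : Function.Surjective f) (hg : g ∈ L) :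
    g ∈ Nm(pb f S) ↔ pr f g ∈ Nm(S) := by
  refine ⟨fun h => mem_normalizer_of_conj_mem fun s hs => ?_, fun h => mem_normalizer_of_conj_mem fun s hs => ?_⟩
  · obtain ⟨x, hx, rfl⟩ := pr_surj hf s
    rw [← pr_cj hg hx]
    exact (mem_pb.1 (conj_mem_of_mem_normalizer h (mem_pb.2 ⟨hx, hs⟩))).2
  · obtain ⟨h1, h2⟩ := mem_pb.1 hs
    exact mem_pb.2 ⟨mul_mem (mul_mem hg h1) (inv_mem hg), by
      rw [pr_cj hg h1]; exact conj_mem_of_mem_normalizer h h2⟩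

theorem exists_aut (hf : Function.Surjective f) (hk : ∀ x ∈ L, pr f x = 1 ↔ x ∈ Cz(L)) (hg : g ∈ Nm(L)) :
    ∃ φ : MulAut X, ∀ x ∈ L, φ (pr f x) = pr f (g * x * g⁻¹) := by
  let c : L ≃* L := L.normalizerMonoidHom ⟨g, hg⟩
  have hc : ∀ x : L, (c x : G) = g * x * g⁻¹ := fun x => rfl
  have k : ∀ x : L, x ∈ f.ker ↔ (x : G) ∈ Cz(L) := fun x => by rw [← hk x x.2, pr_eq x.2]; rfl
  have h1 : f.ker.map (c : L →* L) = f.ker := by
    ext x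
    rw [show f.ker.map (c : L →* L) = f.ker.map c.toMonoidHom from rfl, mem_map_equiv, k, k, ← conj_mem_cj_iff (g := g), cj_eq_of_mem_normalizer (mem_Nm_Cz hg), ← hc]
    simp
  let e := QuotientGroup.quotientKerEquivOfSurjective f hf
  refine ⟨e.symm.trans ((QuotientGroup.congr _ _ c h1).trans e), fun x hx => ?_⟩
  have : e.symm (pr f x) = ((⟨x, hx⟩ : L) : L ⧸ f.ker) := by rw [MulEquiv.symm_apply_eq, pr_eq hx]; rfl
  rw [MulEquiv.trans_apply, this, pr_eq (conj_mem_of_mem_normalizer hg hx)]; rfl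

end

/-- `[g, L] ≤ C(L)` forces `g ∈ C(L)` for perfect `L` -/
theorem mem_Cz_of_perfect {L : Subgroup G} (hL : ⁅L, L⁆ = L) {g : G} (hg : g ∈ Nm(L))
    (h : ∀ x ∈ L, g * x * g⁻¹ * x⁻¹ ∈ Cz(L)) : g ∈ Cz(L) := by
  have h1 : ⁅L, zpowers g⁆ ≤ Cz(L) := commutator_le_of_le_secCz (zpowers_le.2 (mem_secCz.2 ⟨mem_Nm_Cz hg,
    fun r hr => by simpa [commutatorElement_def, mul_assoc] using inv_mem (h r hr)⟩))
  rw [Subgroup.commutator_comm] at h1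
  exact zpowers_le.1 (comm_eq_bot_left.1 (commutator_eq_bot_of_perfect hL (comm_eq_bot_left.2 h1)))

variable [Finite G]

theorem center_two {L : Subgroup G} {X : Type*} [Group X] {f : L →* X} (hL : ⁅L, L⁆ = L)
    (hk : ∀ x ∈ L, pr f x = 1 ↔ x ∈ Cz(L))
    (hc : ∀ r : ℕ, r.Prime → r ≠ 2 → ∀ R : Subgroup X, IsPGroup r R → IsCyclic R) : IsPGroup 2 Zc(L) := by
  haveI : Fact (Nat.Prime 2) := ⟨Nat.prime_two⟩
  refine pi_singleton_iff.1 (pi_of_forall_sylIn fun r hr h2 P hP => ?_)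
  haveI := Fact.mk hr
  obtain ⟨R, hR, hPR⟩ := exists_sylIn_ge hP.pgrp (hP.le.trans inf_le_left)
  let φ := (f.comp (inclusion hR.le)).rangeRestrict
  haveI := hc r hr h2 _ (hR.pgrp.of_surjective φ (MonoidHom.rangeRestrict_surjective _))
  have h1 : Ab R := φ.isMulCommutative_of_isCyclic_of_ker_le_center fun x hx => mem_center_iff.2 fun y =>
    Subtype.ext (mem_centralizer_iff.1 ((hk x (hR.le x.2)).1 (by
      rw [pr_eq (hR.le x.2)]; exact congrArg Subtype.val hx)) y (hR.le y.2))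
  refine eq_bot_iff.2 fun z hz => ?_
  have := mem_der_of_Zc hR hL (hPR hz) (hP.le hz).2
  rwa [ab_iff_comm.1 h1] at this

theorem exists_szQ_aux {L : Subgroup G} (hL : IsQuasisimple L) {X : Type*} [Group X] [Finite X] [IsSimpleGroup X]
    {f : L →* X} (hf : Function.Surjective f) (hk : ∀ x ∈ L, pr f x = 1 ↔ x ∈ Cz(L)) {F : Type} [Field F]
    [Fintype F] [CharP F 2] {m : ℕ} (hm : 1 ≤ m) (hF : Fintype.card F = 2 ^ (2 * m + 1)) (D : SzD X F)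
    (h2 : IsPGroup 2 Zc(L)) : ∃ w, SzQ0 L (pb f D.T) (pb f D.Z0) (pb f D.h.range) w (2 * m + 1) := by
  haveI : Fact (Nat.Prime 2) := ⟨Nat.prime_two⟩
  obtain ⟨w, wL, hw⟩ := pr_surj hf D.w
  have cF : Nat.card F = 2 ^ (2 * m + 1) := by rw [Nat.card_eq_fintype_card, hF]
  have hF' : ∃ x : F, x ^ 2 ≠ x := by
    by_contra! h
    have h3 : Fintype.card F ≤ 2 := by
      classical
      have : (Finset.univ : Finset F) ⊆ {0, 1} := fun x _ => by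
        have : x * (x - 1) = 0 := by linear_combination h x
        simpa [sub_eq_zero] using this
      exact (Finset.card_le_card this).trans Finset.card_le_two
    have : 2 ^ 3 ≤ 2 ^ (2 * m + 1) := Nat.pow_le_pow_right two_pos (by omega)
    omega
  have nm : ∀ g ∈ L, g ∈ Nm(pb f D.T) ↔ pr f g ∈ D.B := fun g hg =>
    (mem_Nm_pb hf hg).trans ⟨fun h => D.Nm_le_B h, fun h => D.B_le_Nm h⟩
  have ri : ∀ S : Subgroup X, (Cz(L)).relIndex (pb f S) = Nat.card S := fun S => by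
    rw [← relIndex_bot_left, ← relIndex_pb hf, ← inf_relIndex_right, ← inf_relIndex_right (pb f ⊥)]
    congr 1; ext x
    exact ⟨fun ⟨a, b⟩ => ⟨mem_pb.2 ⟨pb_le b, (hk x (pb_le b)).2 a⟩, b⟩,
      fun ⟨a, b⟩ => ⟨(hk x (pb_le b)).1 (mem_pb.1 a).2, b⟩⟩
  have ZT : D.Z0 ≤ D.T := by rintro _ ⟨b, rfl⟩; exact D.t_mem 0 b
  have mo : ∀ {S T : Subgroup X}, S ≤ T → pb f S ≤ pb f T := fun h => map_mono (comap_mono h)
  have k4 : ∀ {g z : G}, g ∈ L → z ∈ L → ∀ {y}, y ∈ L → (g * z * g⁻¹ * y⁻¹ ∈ Cz(L) ↔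
      pr f g * pr f z * (pr f g)⁻¹ = pr f y) := fun {g z} hg hz {y} hy => by
    have := mul_mem (mul_mem hg hz) (inv_mem hg)
    rw [← hk _ (mul_mem this (inv_mem hy)), pr_mul this (inv_mem hy), pr_cj hg hz, pr_inv hy, mul_inv_eq_one]
  have zz : ∀ z ∈ pb f D.Z0, z ∉ Cz(L) → z ∈ L ∧ ∃ b, b ≠ 0 ∧ pr f z = D.t 0 b := fun z hz h => by
    obtain ⟨a, b, e⟩ := mem_pb.1 hz
    exact ⟨a, b, fun e' => h ((hk z a).1 (by rw [e, e', D.t_zero])), e⟩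
  have qq : ∀ x ∈ pb f D.T, x ∉ pb f D.Z0 → x ∈ L ∧ ∃ a b, a ≠ 0 ∧ pr f x = D.t a b := fun x hx h => by
    obtain ⟨h1, a, b, e⟩ := mem_pb.1 hx
    exact ⟨h1, a, b, fun e' => h (mem_pb.2 ⟨h1, b, by rw [e, e']⟩), e⟩
  have uu : ∀ U : Subgroup G, Zc(L) ≤ U → ∀ x ∈ L, (x ∈ U ↔ pr f x ∈ (U.subgroupOf L).map f) := fun U hU x hx =>
    ⟨fun h => ⟨⟨x, hx⟩, h, (pr_eq hx).symm⟩, fun ⟨y, hy, e⟩ => by
      have h0 := mul_mem (inv_mem y.2) hx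
      have : (y : G)⁻¹ * x ∈ U := hU ⟨h0, (hk _ h0).1 (by
        rw [pr_mul (inv_mem y.2) hx, pr_inv y.2, pr_eq y.2, ← e]; simp)⟩
      exact (mul_mem_cancel_left (inv_mem (show (y : G) ∈ U from hy))).1 this⟩
  have cc : ∀ U : Subgroup G, Zc(L) ≤ U → ∀ x ∈ L, (∀ y ∈ pb f D.T, ⁅x, y⁆ ∈ U) →
      ∀ y ∈ D.T, ⁅pr f x, y⁆ ∈ (U.subgroupOf L).map f := fun U hU x hx h y hy => by
    obtain ⟨v, hv, rfl⟩ := pr_surj hf y
    rw [← pr_comm hx hv, ← uu U hU _ (cm_mem hx hv)]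
    exact h v (mem_pb.2 ⟨hv, hy⟩)
  have cB : Nat.card X = _ := (D.card_B ▸ D.index_B ▸ D.B.card_mul_index).symm
  refine ⟨w, hL, odd_two_mul_add_one m, by omega, sylIn_of_not_dvd pb_le (isPGroup_iff_mem.2 fun x hx => ?_) ?_,
    fun x hx h => mem_pb.2 ⟨hx, by rw [(hk x hx).2 h]; exact one_mem _⟩, mo ZT,
    fun h hh => ⟨pb_le hh, (nm h (pb_le hh)).2 ?_⟩, fun x hx => ?_, fun x hx h1 h => ?_, fun x hx => ?_,
    fun z hz x hx => ?_, fun x hx y hy => ?_, fun x hx y hy h => ?_, by rw [ri, D.card_Z0, cF], ?_,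
    by rw [ri, D.card_H, cF], ?_, ?_, fun x hx x1 y hy y1 => ?_, fun g hg z hz z1 h => ?_,
    fun g hg z hz z1 h => ?_, fun Y h1 h2 h3 => ?_, fun h hh hq => ?_, fun h hh => ?_, ?_, wL, ?_, fun h hh => ?_,
    fun h => D.w_not_mem (hw ▸ (nm w wL).1 h), fun g hg k hk' h => ?_, fun g hg ho h => ?_,
    fun x hx x1 U hU h a ha b hb a1 b1 => ?_, fun x hx x1 y hy y1 e U hU h h' z hz => ?_⟩
  · obtain ⟨h1, h⟩ := mem_pb.1 hx
    obtain ⟨k, e⟩ := isPGroup_iff_mem.1 h2 (x ^ 2 ^ 2) ⟨pow_mem h1 _, (hk _ (pow_mem h1 _)).1 (by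
      rw [pr_pow h1, D.pow_four h])⟩
    exact ⟨2 + k, by rw [pow_add, pow_mul, e]⟩
  · have := D.sylIn_T.not_dvd_relIndex
    rwa [← relIndex_pb hf, pb_top] at this
  · obtain ⟨μ, e⟩ := (mem_pb.1 hh).2
    rw [← e]; exact D.h_mem μ
  · obtain ⟨h1, a, b, e⟩ := mem_pb.1 hx
    exact mem_pb.2 ⟨mul_mem h1 h1, _, by rw [pr_mul h1 h1, e, D.t_sq]⟩
  · have := (hk _ (mul_mem hx hx)).2 h
    rw [pr_mul hx hx] at this
    exact mem_pb.2 ⟨hx, D.exists_t0 (D.mem_T_of_pow ((nm x hx).1 h1) (k := 1) (by simpa [pow_two] using this)) this⟩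
  · obtain ⟨h1, b, e⟩ := mem_pb.1 hx
    rw [← hk _ (mul_mem h1 h1), pr_mul h1 h1, e, D.t0_sq]
  · obtain ⟨h1, b, e⟩ := mem_pb.1 hz
    obtain ⟨h3, a, c, e'⟩ := mem_pb.1 hx
    rw [← hk _ (cm_mem h1 h3), pr_comm h1 h3, e, e', D.t_comm]
    simp [D.t_zero]
  · obtain ⟨h1, b, d, e⟩ := mem_pb.1 hy
    obtain ⟨h3, a, c, e'⟩ := mem_pb.1 hx
    exact mem_pb.2 ⟨cm_mem h3 h1, _, by rw [pr_comm h3 h1, e, e', D.t_comm]⟩
  · obtain ⟨h1, b, d, e⟩ := mem_pb.1 hy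
    obtain ⟨h3, a, c, e'⟩ := mem_pb.1 hx
    rw [← hk _ (mul_mem (mul_mem h3 h3) (inv_mem (mul_mem h1 h1))), pr_mul (mul_mem h3 h3) (inv_mem (mul_mem h1 h1)),
      pr_inv (mul_mem h1 h1), pr_mul h1 h1, pr_mul h3 h3, e, e', mul_inv_eq_one, D.t_sq, D.t_sq] at h
    obtain rfl := D.mul_θ_inj (D.t_inj h).2
    exact mem_pb.2 ⟨mul_mem h3 (inv_mem h1), _, by
      rw [pr_mul h3 (inv_mem h1), pr_inv h1, e, e', D.t_inv, D.t_mul, CharTwo.add_self_eq_zero]⟩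
  · rw [relIndex_pb hf]
    have := CfH9.card_mul_relIndex ZT
    rw [D.card_Z0, D.card_T, cF] at this
    exact Nat.eq_of_mul_eq_mul_left (by positivity) this
  · nth_rw 2 [← pb_top (f := f)]
    rw [ri, card_top, cB, cF]
  · rw [← cF, ← D.index_B, ← relIndex_top_right, ← relIndex_pb hf, pb_top, ← inf_relIndex_right,
      ← inf_relIndex_right (pb f D.B)]
    congr 1; ext x
    exact ⟨fun ⟨a, b⟩ => ⟨mem_pb.2 ⟨b, (nm x b).1 a⟩, b⟩, fun ⟨a, b⟩ => ⟨(nm x b).2 (mem_pb.1 a).2, b⟩⟩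
  · obtain ⟨h1, b, b0, e⟩ := zz x hx x1
    obtain ⟨h3, c, c0, e'⟩ := zz y hy y1
    obtain ⟨μ, hμ⟩ := D.exists_θ (div_ne_zero b0 c0)
    obtain ⟨h, hh, e3⟩ := pr_surj hf (D.h μ)
    refine ⟨h, mem_pb.2 ⟨hh, μ, e3.symm⟩, (k4 hh h1 h3).2 ?_⟩
    rw [e3, e, e', D.h_t0, hμ]; congr 1; field_simp
  · obtain ⟨h1, b, b0, e⟩ := zz z hz z1
    rw [k4 hg h1 h1, e] at h
    exact mem_pb.2 ⟨hg, D.cit b0 h⟩
  · obtain ⟨h1, h3⟩ := mem_pb.1 hz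
    rw [nm _ (mul_mem (mul_mem hg h1) (inv_mem hg)), pr_cj hg h1] at h
    exact (nm g hg).2 (D.mem_B_of_conj h3 (fun e => z1 ((hk z h1).1 e)) h)
  · have hU : Zc(L) ≤ Y := fun x hx => h1 (mem_pb.2 ⟨hx.1, by rw [(hk x hx.1).2 hx.2]; exact one_mem _⟩)
    have := D.eq_top_of_not_le (Y := (Y.subgroupOf L).map f) (fun u hu => by
      obtain ⟨v, hv, rfl⟩ := pr_surj hf u
      exact (uu Y hU v hv).1 (h1 (mem_pb.2 ⟨hv, hu⟩)))
      fun h => h3 fun y hy => (nm y (h2 hy)).2 (h ((uu Y hU y (h2 hy)).1 hy))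
    exact le_antisymm h2 fun x hx => (uu Y hU x hx).2 (this ▸ mem_top _)
  · exact (hk h (pb_le hh)).1 (D.T_inf_H (mem_pb.1 hq).2 (mem_pb.1 hh).2)
  · obtain ⟨h1, μ, e⟩ := mem_pb.1 hh
    rw [← hk _ (pow_mem h1 _), pr_pow h1, ← e, ← map_pow, ← cF, ← Nat.card_units, pow_card_eq_one', map_one]
  · let φ := (f.comp (inclusion (pb_le (f := f) (S := D.h.range)))).codRestrict D.h.range fun x =>
      pr_eq (f := f) (pb_le x.2) ▸ (mem_pb.1 x.2).2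
    haveI : IsCyclic D.h.range := isCyclic_of_surjective _ D.h.rangeRestrict_surjective
    exact φ.isMulCommutative_of_isCyclic_of_ker_le_center fun x hx => mem_center_iff.2 fun y =>
      Subtype.ext (mem_centralizer_iff.1 ((hk x (pb_le x.2)).1 (by
        rw [pr_eq (pb_le x.2)]; exact congrArg Subtype.val hx)) y (pb_le y.2))
  · rw [← hk _ (mul_mem wL wL), pr_mul wL wL, hw, D.w_w]
  · obtain ⟨h1, μ, e⟩ := mem_pb.1 hh
    have := (k4 wL h1 (inv_mem h1)).2 (by rw [pr_inv h1, hw, ← e, D.w_inv, D.w_h, map_inv])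
    rwa [inv_inv] at this
  · obtain ⟨φ, hφ⟩ := exists_aut hf hk hg
    obtain ⟨l, hl⟩ := D.aut_inner' hF' (by rw [CfH3.card_ringAut 2 _ hF]; exact odd_two_mul_add_one m)
      (α := φ) (k := pr f k) (by
        ext x
        obtain ⟨v, hv, rfl⟩ := pr_surj hf x
        rw [MulAut.mul_apply, hφ v hv, hφ _ (conj_mem_of_mem_normalizer hg hv), MulAut.conj_apply, ← pr_cj hk' hv]
        congr 1
        calc _ = k * (k⁻¹ * (g * g) * v * (k⁻¹ * (g * g))⁻¹) * k⁻¹ := by group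
          _ = _ := by rw [conj_eq_of_mem_centralizer h hv])
    obtain ⟨l, hl', rfl⟩ := pr_surj hf l
    refine ⟨l, hl', mem_Cz_of_perfect (qs_perfect hL) (mul_mem (inv_mem (le_normalizer hl')) hg) fun x hx => ?_⟩
    have := (k4 (inv_mem hl') (conj_mem_of_mem_normalizer hg hx) hx).2 (by
      rw [← hφ x hx, hl, pr_inv hl', MulAut.conj_apply]; group)
    convert this using 1; group
  · obtain ⟨φ, hφ⟩ := exists_aut hf hk hg
    have k1 : ∀ j : ℕ, ∀ x ∈ L, (φ ^ j) (pr f x) = pr f (g ^ j * x * (g ^ j)⁻¹) := fun j => by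
      induction j with
      | zero => simp
      | succ j ih =>
        intro x hx
        rw [pow_succ', MulAut.mul_apply, ih x hx, hφ _ (conj_mem_of_mem_normalizer (pow_mem hg j) hx)]
        congr 1; rw [pow_succ']; group
    have := D.aut_odd hF' (φ := φ) (ho.of_dvd_nat (orderOf_dvd_of_pow_eq_one (by
      ext x
      obtain ⟨v, hv, rfl⟩ := pr_surj hf x
      rw [k1 _ v hv, pow_orderOf_eq_one]; simp))) fun b => by
        obtain ⟨v, hv, e⟩ := pr_surj hf (D.t 0 b)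
        have h1 := conj_mem_of_mem_normalizer hg hv
        have := (hk _ (mul_mem h1 (inv_mem hv))).2 (h v (mem_pb.2 ⟨hv, b, e⟩))
        rw [pr_mul h1 (inv_mem hv), pr_inv hv, mul_inv_eq_one] at this
        rw [← e, hφ v hv, this]
    refine mem_Cz_of_perfect (qs_perfect hL) hg fun x hx => ?_
    have h1 := conj_mem_of_mem_normalizer hg hx
    rw [← hk _ (mul_mem h1 (inv_mem hx)), pr_mul h1 (inv_mem hx), pr_inv hx, ← hφ x hx, this]; simp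
  · obtain ⟨h1, c, d, c0, e⟩ := qq x hx x1
    obtain ⟨h3, u, e1⟩ := mem_pb.1 ha
    obtain ⟨h4, v, e2⟩ := mem_pb.1 hb
    rw [uu U hU _ h3, e1] at a1
    rw [uu U hU _ h4, e2] at b1
    rw [uu U hU _ (mul_mem h3 h4), pr_mul h3 h4, e1, e2, D.t0_mul]
    exact D.comm1 c0 (e ▸ cc U hU x h1 h) a1 b1
  · obtain ⟨h1, c, d, c0, e1⟩ := qq x hx x1
    obtain ⟨h3, c', d', c0', e2⟩ := qq y hy y1
    obtain ⟨h4, v, e3⟩ := mem_pb.1 hz
    rw [uu U hU _ h4, e3]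
    exact D.comm2 c0 c0' (fun e' => e (mem_pb.2 ⟨mul_mem h1 (inv_mem h3), _, by
      rw [pr_mul h1 (inv_mem h3), pr_inv h3, e1, e2, e', D.t_inv, D.t_mul, CharTwo.add_self_eq_zero]⟩))
      (e1 ▸ cc U hU x h1 h) (e2 ▸ cc U hU y h3 h') v

theorem SzQ0.szQ {L Q Z H : Subgroup G} {w : G} {n : ℕ} (h : SzQ0 L Q Z H w n) : SzQ L Q Z (Op' 2 H) w n := by
  haveI : Fact (Nat.Prime 2) := ⟨Nat.prime_two⟩
  have l := pPrimeCoreOf_le (p := 2) H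
  have d := h.Hab.nil.dp_Op (p := 2)
  have c : Op 2 H ≤ Cz(L) := fun x hx => h.HQ x (pCoreOf_le H hx) (h.syl.le_of_le_Nm' (isPGroup_pCoreOf H)
    ((pCoreOf_le H).trans (h.HL.trans inf_le_left)) ((pCoreOf_le H).trans (h.HL.trans inf_le_right)) hx)
  have nm : H ≤ Nm(Cz(L)) := h.HL.trans (inf_le_left.trans (le_normalizer.trans (Nm_le_Nm_Cz L)))
  refine ⟨⟨h.qs, h.odd, h.three, h.syl, h.ZL, h.ZQ, l.trans h.HL, h.sq, h.inv, h.sqZ, h.cZ, h.der, h.sq_inj,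
    h.cardZ, h.cardQ, ?_, h.cardL, h.idx, fun x hx x1 y hy y1 => ?_, h.cit, h.ti, h.max,
    fun a ha => h.HQ a (l ha), fun a ha => h.Hpow a (l ha), comm_of_le h.Hab l, h.wL, h.ww,
    fun a ha => h.wH a (l ha), h.wQ, h.inner, h.odd_cent, h.comm1, h.comm2⟩,
    Nat.coprime_two_right.1 (pp_Op' H)⟩
  · rw [← h.cardH, ← relIndex_sup_Nm nm, ← relIndex_sup_Nm (l.trans nm)]
    congr 1
    refine le_antisymm (sup_le_sup_left l _) (sup_le le_sup_left ?_)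
    exact d.sup.ge.trans (sup_le_sup_right c _)
  · obtain ⟨g, hg, e⟩ := h.trans x hx x1 y hy y1
    obtain ⟨a, ha, b, hb, rfl⟩ := d.symm.mem.1 hg
    refine ⟨a, ha, ?_⟩
    rwa [mul_inv_rev, mul_assoc a, mul_assoc a, ← mul_assoc (b * x),
      conj_eq_of_mem_centralizer (c hb) (h.syl.le (h.ZQ hx)), ← mul_assoc] at e

theorem exists_szQ' {L Q : Subgroup G} (hL : IsQuasisimple L) {X : Type*} [Group X] [IsSimpleGroup X]
    {f : L →* X} (hf : Function.Surjective f) (hk : ∀ x : L, f x = 1 ↔ (x : G) ∈ Cz(L)) {F : Type} [Field F]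
    [Fintype F] {m : ℕ} (hm : 1 ≤ m) (hF : Fintype.card F = 2 ^ (2 * m + 1)) (e : X ≃* Lie.Sz F (2 ^ (m + 1)))
    (hQ : SylIn 2 Q L) : ∃ Z H w, SzQ L Q Z H w (2 * m + 1) := by
  haveI : Fact (Nat.Prime 2) := ⟨Nat.prime_two⟩
  haveI := Finite.of_surjective f hf
  haveI : CharP F 2 := by
    obtain ⟨p, hp⟩ := CharP.exists F
    obtain ⟨n, hpp, hn⟩ := FiniteField.card F p
    have : p = 2 := (Nat.prime_dvd_prime_iff_eq hpp Nat.prime_two).1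
      (hpp.dvd_of_dvd_pow (n := 2 * m + 1) (by rw [← hF, hn]; exact dvd_pow_self _ n.ne_zero))
    exact this ▸ hp
  obtain ⟨D⟩ := Suz.nonempty_szD hF
  have hk' : ∀ x ∈ L, pr f x = 1 ↔ x ∈ Cz(L) := fun x hx => by rw [pr_eq hx, hk]
  obtain ⟨ρ, hρ⟩ := exists_szM F (m + 1)
  haveI := Finite.of_equiv _ e.toEquiv
  have h2 := center_two (qs_perfect hL) hk' fun r hr h2 R hR => by
    haveI := Fact.mk hr
    haveI := hρ.cyc (hR.map e.toMonoidHom) (oddS_of_isPGroup h2 (hR.map _))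
    exact isCyclic_of_surjective _ (R.equivMapOfInjective e.toMonoidHom e.injective).symm.surjective
  obtain ⟨g, -, hg⟩ := (D.map e.symm).sylIn_T.conj (H := ⊤) (T := (Q.subgroupOf L).map f)
    (hQ.subgroupOf_top.map_surj hf)
  let D' := (D.map e.symm).map (MulAut.conj g)
  have h3 : D'.T = (Q.subgroupOf L).map f := by
    rw [← hg]; ext x
    exact ⟨by rintro ⟨a, b, rfl⟩; exact ⟨_, ⟨a, b, rfl⟩, rfl⟩, by rintro ⟨_, ⟨a, b, rfl⟩, rfl⟩; exact ⟨a, b, rfl⟩⟩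
  obtain ⟨w, hw⟩ := exists_szQ_aux hL hf hk' hm hF D' h2
  have h4 : pb f D'.T = Q := hQ.eq_of_le hw.syl.pgrp pb_le fun x hx =>
    mem_pb.2 ⟨hQ.le hx, h3 ▸ ⟨⟨x, hQ.le hx⟩, hx, (pr_eq _).symm⟩⟩
  exact ⟨_, _, w, (h4 ▸ hw).szQ⟩

theorem exists_szQ {L Q : Subgroup G} (hL : IsQuasisimple L) (h : Lie.IsoSuzuki (L ⧸ center L))
    (hQ : SylIn 2 Q L) : ∃ Z H w n, SzQ L Q Z H w n := by
  obtain ⟨F, _, _, m, hm, hF, ⟨e⟩⟩ := h
  haveI := hL.2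
  obtain ⟨Z, H, w, h⟩ := exists_szQ' hL (QuotientGroup.mk'_surjective (center L)) (fun x => by
    rw [QuotientGroup.mk'_apply, QuotientGroup.eq_one_iff, mem_center_iff, mem_centralizer_iff]
    exact ⟨fun h g hg => congrArg Subtype.val (h ⟨g, hg⟩), fun h g => Subtype.ext (h g g.2)⟩) hm hF e hQ
  exact ⟨Z, H, w, _, h⟩

end CfH5.S3
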