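import Cfsg.Agent.S3.B
import Cfsg.Agent.T3.B
import Cfsg.Agent.H9.Invert

/-! Strongly closed elementary abelian 2-subgroups; components. -/

set_option autoImplicit false
set_option linter.unusedSectionVars false

namespace CfH5.S3

open Cfsg CfH9 CfH7 CfH8 CfH1 CfFT Subgroup
open T3 (nmI nmS pp2 odd2)
open scoped commutatorElement IsMulCommutative

universe u

variable {G : Type u} [Group G] [Finite G] {A B H K L M N Q T Y Z D : Subgroup G} {a b g t w x y : G} {n : ℕ}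

instance : Fact (Nat.Prime 2) := ⟨Nat.prime_two⟩

theorem OddS.sol (h : OddS H) : Sol H := solvable_of_odd h
theorem odd_O (H : Subgroup G) : OddS (Op' 2 H) := odd2 (pp_Op' H)
theorem le_O (h1 : Y ≤ H) (h2 : H ≤ Nm(Y)) (h : OddS Y) : Y ≤ Op' 2 H := le_pPrimeCoreOf h1 h2 (pp2 h)
theorem O_le (H : Subgroup G) : Op' 2 H ≤ H := pPrimeCoreOf_le H
theorem nm_O (H : Subgroup G) : H ≤ Nm(Op' 2 H) := le_normalizer_pPrimeCoreOf H
theorem cop2 (h : IsPGroup 2 A) (ho : OddS Y) : Cop A Y := ((pp2 ho).cop h).symm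
theorem OddS.ord (h : OddS H) (hx : x ∈ H) : Odd (orderOf x) := odd_orderOf_of_coprime (pp2 h) hx

theorem eq_one_of_odd (h : Odd (orderOf x)) {k : ℕ} (e : x ^ 2 ^ k = 1) : x = 1 :=
  orderOf_eq_one_iff.1 ((Nat.Coprime.pow_right k (Nat.coprime_two_right.2 h)).eq_one_of_dvd (orderOf_dvd_of_pow_eq_one e))

theorem eq_one_of_odd' (h : Odd (orderOf x)) (hQ : IsPGroup 2 Q) (hx : x ∈ Q) : x = 1 :=
  let ⟨_, e⟩ := isPGroup_iff_mem.1 hQ x hx; eq_one_of_odd h e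

theorem eq_one_of_inv (h : Odd (orderOf x)) (e : x⁻¹ = x) : x = 1 :=
  eq_one_of_odd h (k := 1) (by rw [pow_one, pow_two]; nth_rw 1 [← e]; simp)

/-- the simple sections of `H` are known -/
def KS (H : Subgroup G) : Prop :=
  ¬ 3 ∣ Nat.card H ∧ ∀ (X : Type u) [Group X] [Finite X] [IsSimpleGroup X], Nat.card X ≤ Nat.card H →
    ¬ IsMulCommutative X → ¬ 3 ∣ Nat.card X → Lie.IsoSuzuki X

theorem KS.of_dvd {G' : Type u} [Group G'] [Finite G'] {K : Subgroup G'} (h : KS H)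
    (e : Nat.card K ∣ Nat.card H) : KS K :=
  ⟨fun d => h.1 (d.trans e), fun X _ _ _ l => h.2 X (l.trans (Nat.le_of_dvd Nat.card_pos e))⟩
theorem KS.mono (h : KS H) (e : K ≤ H) : KS K := h.of_dvd (card_dvd_of_le e)
theorem KS.qb (h : KS H) (e : H ≤ Nm(N)) : KS (qb N H) := h.of_dvd (card_qb_dvd e)

theorem KS.szQ (h : KS H) (hL : IsQuasisimple L) (e : L ≤ H) (hQ : SylIn 2 Q L) :
    ∃ Z D w n, SzQ L Q Z D w n := by
  haveI := hL.2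
  have d := (card_quotient_dvd_card (center L)).trans (card_dvd_of_le e)
  refine exists_szQ hL (h.2 _ (Nat.le_of_dvd Nat.card_pos d) (fun hc => ?_) fun d' => h.1 (d'.trans d)) hQ
  exact quasisimple_not_isSolvable (quasisimple_of_surjective hL (QuotientGroup.mk'_surjective (center L)))
    inferInstance

/-- conjugates of elements of `A` -/
def Dj (A H : Subgroup G) (u : G) : Prop := ∃ a ∈ A, ∃ g ∈ H, g * a * g⁻¹ = u

theorem dj_self (ha : a ∈ A) : Dj A H a := ⟨a, ha, 1, one_mem _, by simp⟩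
theorem Dj.conj (h : Dj A H x) (hg : g ∈ H) : Dj A H (g * x * g⁻¹) := by
  obtain ⟨a, ha, k, hk, rfl⟩ := h
  exact ⟨a, ha, g * k, mul_mem hg hk, by group⟩
theorem Dj.of_conj (h : Dj A H (g * x * g⁻¹)) (hg : g ∈ H) : Dj A H x := by
  simpa [mul_assoc] using h.conj (inv_mem hg)

structure SCl (A H : Subgroup G) : Prop where
  le : A ≤ H
  ab : EAb 2 A
  sc : ∀ T, T ≤ H → IsPGroup 2 T → A ≤ T → ∀ u ∈ T, Dj A H u → u ∈ A

namespace SCl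
variable (h : SCl A H)
include h

theorem pA : IsPGroup 2 A := elemAb_isPGroup h.ab
theorem cz : A ≤ Cz(A) := elemAb_le_Cz h.ab
theorem sq (ha : a ∈ A) : a * a = 1 := by rw [← pow_two]; exact h.ab.2 a ha
theorem inv (ha : a ∈ A) : a⁻¹ = a := inv_eq_of_mul_eq_one_right (h.sq ha)
theorem comm (ha : a ∈ A) (hb : b ∈ A) : a * b = b * a := comm_iff.1 h.ab.1 a ha b hb
theorem dsq (hx : Dj A H x) : x * x = 1 := by
  obtain ⟨a, ha, g, -, rfl⟩ := hx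
  rw [conj_mul, h.sq ha]; simp
theorem dinv (hx : Dj A H x) : x⁻¹ = x := inv_eq_of_mul_eq_one_right (h.dsq hx)
theorem dmem (hx : Dj A H x) : x ∈ H := by
  obtain ⟨a, ha, g, hg, rfl⟩ := hx
  exact mul_mem (mul_mem hg (h.le ha)) (inv_mem hg)
theorem dp (hx : Dj A H x) : IsPGroup 2 (zpowers x) := isPGroup_zpowers (k := 1) (by simpa [pow_two] using h.dsq hx)

theorem mono (h1 : A ≤ K) (h2 : K ≤ H) : SCl A K :=
  ⟨h1, h.ab, fun T t1 t2 t3 u hu ⟨a, ha, g, hg, e⟩ => h.sc T (t1.trans h2) t2 t3 u hu ⟨a, ha, g, h2 hg, e⟩⟩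

theorem nm (h1 : T ≤ H) (h2 : IsPGroup 2 T) (h3 : A ≤ T) : T ≤ Nm(A) := fun _ hg =>
  mem_normalizer_of_conj_mem fun _ ha => h.sc T h1 h2 h3 _ (mul_mem (mul_mem hg (h3 ha)) (inv_mem hg))
    ((dj_self ha).conj (h1 hg))

theorem nm' (h1 : T ≤ H) (h2 : IsPGroup 2 T) (h3 : A ≤ Nm(T)) : T ≤ Nm(A) :=
  le_sup_right.trans (h.nm (sup_le h.le h1) (isPGroup_sup h.pA h2 h3) le_sup_left)

theorem mem_of_nm (h1 : T ≤ H) (h2 : IsPGroup 2 T) (h3 : T ≤ Nm(A)) (hx : x ∈ T) (d : Dj A H x) : x ∈ A :=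
  h.sc _ (sup_le h1 h.le) (isPGroup_sup h2 h.pA h3) le_sup_right x (mem_sup_left hx) d

theorem dmem_of_nm (d : Dj A H x) (hx : x ∈ Nm(A)) : x ∈ A :=
  h.mem_of_nm (zpowers_le.2 (h.dmem d)) (h.dp d) (zpowers_le.2 hx) (mem_zpowers x) d

theorem exists_cj (h1 : A ≤ Y) (h2 : Y ≤ H) (h3 : B ≤ Y) (h4 : IsPGroup 2 B) :
    ∃ y ∈ Y, cj y B ≤ Nm(A) ∧ ∀ u ∈ B, Dj A H u → y * u * y⁻¹ ∈ A := by
  obtain ⟨T, hT, hAT⟩ := exists_sylIn_ge h.pA h1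
  obtain ⟨y, hy, e⟩ := hT.exists_cj_le h4 h3
  exact ⟨y, hy, e.trans (h.nm (hT.le.trans h2) hT.pgrp hAT), fun u hu d =>
    h.sc T (hT.le.trans h2) hT.pgrp hAT _ (e (conj_mem_cj y hu)) (d.conj (h2 hy))⟩

theorem exists_conj (h1 : A ≤ Y) (h2 : Y ≤ H) (hx : x ∈ Y) (d : Dj A H x) : ∃ y ∈ Y, y * x * y⁻¹ ∈ A :=
  let ⟨y, hy, _, e⟩ := h.exists_cj h1 h2 (zpowers_le.2 hx) (h.dp d); ⟨y, hy, e x (mem_zpowers x) d⟩

theorem dmul (h1 : T ≤ H) (h2 : IsPGroup 2 T) (hx : x ∈ T) (hy : y ∈ T) (d : Dj A H x) (d' : Dj A H y) :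
    x * y = y * x ∧ Dj A H (x * y) := by
  obtain ⟨g, hg, -, e⟩ := h.exists_cj h.le le_rfl h1 h2
  have := h.comm (e x hx d) (e y hy d')
  rw [conj_mul, conj_mul] at this
  refine ⟨by simpa using this, Dj.of_conj (dj_self ?_) hg⟩
  rw [← conj_mul]; exact mul_mem (e x hx d) (e y hy d')

theorem dmul' (e : x * y = y * x) (d : Dj A H x) (d' : Dj A H y) : Dj A H (x * y) :=
  (h.dmul (sup_le (zpowers_le.2 (h.dmem d)) (zpowers_le.2 (h.dmem d'))) (isPGroup_sup (h.dp d) (h.dp d')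
    (zpowers_le.2 (Cz_le_Nm _ (Cz_zpowers y ▸ mem_Cx.2 e)))) (mem_sup_left (mem_zpowers x))
    (mem_sup_right (mem_zpowers y)) d d').2

theorem exists_Nm (h1 : A ≤ Y) (h2 : Y ≤ H) (hg : g ∈ H) (h3 : cj g A ≤ Y) : ∃ y ∈ Y, y * g ∈ Nm(A) := by
  obtain ⟨y, hy, -, e⟩ := h.exists_cj h1 h2 h3 (isPGroup_cj h.pA g)
  refine ⟨y, hy, mem_normalizer_of_conj_mem fun a ha => ?_⟩
  simpa [mul_assoc] using e _ (conj_mem_cj g ha) ((dj_self ha).conj hg)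

theorem fus (hB : B ≤ A) (hg : g ∈ H) (e : cj g B ≤ A) :
    ∃ k ∈ H ⊓ Nm(A), ∀ b ∈ B, k * b * k⁻¹ = g * b * g⁻¹ := by
  obtain ⟨y, hy, e'⟩ := h.exists_Nm (Y := H ⊓ Cz(cj g B)) (le_inf h.le (h.cz.trans (Cz_anti e))) inf_le_left hg
    (le_inf (CfFT.cj_le_of_mem h.le hg) (cj_centralizer g B ▸ cj_mono g (h.cz.trans (Cz_anti hB))))
  refine ⟨y * g, ⟨mul_mem hy.1 hg, e'⟩, fun b hb => ?_⟩
  rw [← conj_eq_of_mem_centralizer hy.2 (conj_mem_cj g hb)]; group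

theorem fus' (ha : a ∈ A) (hg : g ∈ H) (e : g * a * g⁻¹ ∈ A) : ∃ k ∈ H ⊓ Nm(A), k * a * k⁻¹ = g * a * g⁻¹ :=
  let ⟨k, hk, e'⟩ := h.fus (zpowers_le.2 ha) hg (by rwa [cj_zpowers, zpowers_le]); ⟨k, hk, e' a (mem_zpowers a)⟩

theorem cj (hg : g ∈ H) : SCl (cj g A) H := by
  refine ⟨CfFT.cj_le_of_mem h.le hg, eab_cj h.ab g, fun T t1 t2 t3 u hu ⟨a, ha, k, hk, e⟩ => mem_cj.2 ?_⟩
  refine h.sc _ (CfFT.cj_le_of_mem t1 (inv_mem hg)) (isPGroup_cj t2 g⁻¹) (cj_le_iff.1 t3) _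
    (by simpa using conj_mem_cj g⁻¹ hu) ⟨_, mem_cj.1 ha, g⁻¹ * k * g, mul_mem (mul_mem (inv_mem hg) hk) hg, ?_⟩
  rw [← e]; group

theorem sub (h1 : B ≤ A) (h2 : H ⊓ Nm(A) ≤ Nm(B)) : SCl B H := by
  refine ⟨h1.trans h.le, elemAb_of_le h1 h.ab, fun T t1 t2 t3 u hu ⟨b, hb, g, hg, e⟩ => ?_⟩
  have d : Dj A H u := ⟨b, h1 hb, g, hg, e⟩
  obtain ⟨y, hy, e'⟩ := h.exists_conj (Y := H ⊓ Cz(B)) (le_inf h.le (h.cz.trans (Cz_anti h1))) inf_le_left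
    ⟨t1 hu, mem_centralizer_iff.2 fun c hc => (h.dmul t1 t2 (t3 hc) hu (dj_self (h1 hc)) d).1⟩ d
  obtain ⟨k, hk, e''⟩ := h.fus' (h1 hb) (mul_mem hy.1 hg) (by rw [← e] at e'; convert e' using 1; group)
  have := conj_mem_of_mem_normalizer' (Cz_le_Nm _ hy.2) (conj_mem_of_mem_normalizer (h2 hk) hb)
  rw [e''] at this
  convert this using 1; rw [← e]; group

theorem inf (h1 : Y ≤ H) (hT : SylIn 2 T Y) (h2 : T ≤ Nm(A)) : SCl (A ⊓ Y) Y := by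
  refine ⟨inf_le_right, elemAb_of_le inf_le_left h.ab, fun R t1 t2 t3 u hu ⟨b, hb, g, hg, e⟩ => ?_⟩
  obtain ⟨y, hy, e'⟩ := hT.exists_cj_le t2 t1
  have k : ∀ v ∈ R, Dj A H v → y * v * y⁻¹ ∈ A ⊓ Y := fun v hv d =>
    ⟨h.mem_of_nm (hT.le.trans h1) hT.pgrp h2 (e' (conj_mem_cj y hv)) (d.conj (h1 hy)), hT.le (e' (conj_mem_cj y hv))⟩
  simpa [mul_assoc] using conj_mem_of_mem_normalizer' (mem_normalizer_of_conj_mem fun v hv =>
    k v (t3 hv) (dj_self hv.1)) (k u hu ⟨b, hb.1, g, h1 hg, e⟩)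

theorem qb (ho : OddS N) (h1 : H ≤ Nm(N)) (h2 : N ≤ H) : SCl (qb N A) (qb N H) := by
  refine ⟨qb_mono h.le, elemAb_qb h.ab, fun R t1 t2 t3 u hu ⟨b, hb, g, hg, e⟩ => ?_⟩
  replace hb := mem_qb.1 hb
  replace hg := mem_qb.1 hg
  obtain ⟨b, hb, rfl⟩ := hb
  obtain ⟨g, hg, rfl⟩ := hg
  have p1 : qp N R ≤ H := (qp_le_iff h1 h2).2 t1
  have p2 : A ≤ qp N R := (qb_le_iff (h.le.trans h1)).1 t3
  obtain ⟨T, hT, hAT⟩ := exists_sylIn_ge h.pA p2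
  have e1 : CfH8.qb N T = R := ((sylIn_qb (qp_le R) hT).eq_of_le t2 (qb_qp R).ge
    ((qb_mono hT.le).trans (qb_qp R).le)).symm
  have d : Dj A H ((g : G) * b * (g : G)⁻¹) := (dj_self hb).conj hg
  obtain ⟨y, hy, e'⟩ := h.exists_conj p2 p1 (mem_qp.2 ⟨(g * b * g⁻¹).2, by
    rw [← e, ← map_inv, ← map_mul, ← map_mul] at hu; exact hu⟩) d
  obtain ⟨y1, y2⟩ := mem_qp.1 hy
  have := conj_mem_of_mem_normalizer' (qb_le_Nm (h.nm (hT.le.trans p1) hT.pgrp hAT) (e1 ▸ y2))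
    (nmQuot_mem_qb (Q := N) (g := ⟨y, y1⟩ * (g * b * g⁻¹) * ⟨y, y1⟩⁻¹) e')
  simpa [← e, mul_assoc] using this

theorem res_le : pResidualOf 2 (nclo A H) ≤ Cz(Op 2 H) := by
  have n1 := le_normalizer_pCoreOf (p := 2) H
  have n2 := h.nm' (pCoreOf_le H) (isPGroup_pCoreOf H) (h.le.trans n1)
  have n3 := nmI (right_le_Nm_nclo A H) n1
  have l : nclo (A ⊓ Op 2 H) H ≤ Op 2 H := nclo_le n1 inf_le_right
  have c : A ≤ Cz(nclo (A ⊓ Op 2 H) H) := le_Cz_comm (nclo_le_iff'.2 fun g hg x hx => by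
    obtain ⟨a, ha, rfl⟩ := mem_cj'.1 hx
    exact h.cz (h.mem_of_nm (pCoreOf_le H) (isPGroup_pCoreOf H) n2 (conj_mem_of_mem_normalizer (n1 hg) ha.2)
      ((dj_self ha.1).conj hg)))
  exact pResidualOf_le_Cz_of_le (isPGroup_pCoreOf H) ((nclo_le_of_le h.le).trans n1)
    (commutator_nclo_le n1 (right_le_Nm_nclo _ H) (h.le.trans (right_le_Nm_nclo _ H))
      ((le_inf (comm_le_right n2) (comm_le_left (h.le.trans n1))).trans (le_nclo _ H)))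
    (nclo_le_Cz (right_le_Nm_nclo _ H) c)

end SCl

/-- `L` is a component of `H` -/
structure Cp (L H : Subgroup G) : Prop where
  sn : SubnIn L H
  qs : IsQuasisimple L

namespace Cp
variable (h : Cp L H)
include h

theorem le : L ≤ H := h.sn.le
theorem perf : ⁅L, L⁆ = L := qs_perfect h.qs
theorem cj (hg : g ∈ Nm(H)) : Cp (cj g L) H :=
  ⟨cj_eq_of_mem_normalizer hg ▸ h.sn.map _, qs_map_of_injective h.qs (MulAut.conj g).injective⟩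
theorem mono (h1 : L ≤ K) (h2 : K ≤ H) : Cp L K := ⟨h.sn.mono_right h1 h2, h.qs⟩
theorem le_or (hK : SubnIn K H) : L ≤ K ∨ K ≤ Cz(L) :=
  (qs_le_or_commutator_eq_bot h.qs H K h.sn hK).imp_right comm_eq_bot_left.1
theorem eq_or (hK : Cp K H) : K = L ∨ K ≤ Cz(L) :=
  (h.le_or hK.sn).imp_left fun e => ((qs_subnIn hK.qs (h.sn.mono_right e hK.le)).resolve_left fun e' =>
    qs_not_le_centralizer h.qs (e'.trans (Cz_anti e))).symm
theorem eq_of_mem (hK : Cp K H) (h1 : x ∈ K) (h2 : x ∉ Cz(L)) : K = L := (h.eq_or hK).resolve_right fun e => h2 (e h1)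
theorem mem_Nm (hg : g ∈ Nm(H)) (h1 : x ∈ L) (h2 : g * x * g⁻¹ ∉ Cz(L)) : g ∈ Nm(L) :=
  mem_normalizer_iff_cj.2 (h.eq_of_mem (h.cj hg) (conj_mem_cj g h1) h2)
theorem mem_Nm' (hg : g ∈ Nm(H)) (h1 : x ∈ L) (h2 : x ∉ Cz(L)) (h3 : g ∈ Cx(x)) : g ∈ Nm(L) :=
  h.mem_Nm hg h1 (by rwa [mem_Cx'.1 h3])
theorem cz_sol (h1 : N ≤ H) (h2 : L ≤ Nm(N)) (hs : Sol N) : N ≤ Cz(L) :=
  ((h.mono le_sup_left (sup_le h.le h1)).le_or (subnIn_of_normal le_sup_right (sup_le h2 le_normalizer))).resolve_left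
    (qs_not_le_of_isSolvable h.qs hs)
theorem lay : L ≤ layerOf H := le_layerOf h.sn h.qs

end Cp

theorem mem_Fit_of_Cz (hy : y ∈ H) (h1 : y ∈ Cz(Fit H)) (h2 : ∀ L, Cp L H → y ∈ Cz(L)) : y ∈ Fit H := by
  have n := nmI (le_normalizer (H := H)) ((le_normalizer.trans (normalizer_le_normalizer_fstarOf H)).trans
    (Nm_le_Nm_Cz _))
  refine le_fittingOf inf_le_left n (ab_of_le_Cz (inf_le_right.trans (Cz_anti
    (inf_centralizer_fstarOf_le H)))).nil ⟨hy, ?_⟩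
  rw [fstarOf_eq, Cz_sup]
  exact ⟨le_Cx_iff.1 (layerOf_le_iff.2 fun K a b => le_Cx_iff.2 (h2 K ⟨a, b⟩)), h1⟩

theorem mem_O_of_Cz (hy : y ∈ H) (ho : Odd (orderOf y)) (h0 : y ∈ Cz(Op 2 H)) (h1 : y ∈ Cz(Op' 2 H))
    (h2 : ∀ L, Cp L H → y ∈ Cz(L)) : y ∈ Op' 2 H :=
  zpowers_le.1 (le_pPrimeCoreOf_of_le_fittingOf (card_zpowers_coprime (Nat.coprime_two_right.2 ho))
    (zpowers_le.2 (mem_Fit_of_Cz hy (Cz_anti (fittingOf_le_sup (p := 2) H) (by rw [Cz_sup]; exact ⟨h0, h1⟩)) h2)))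

end CfH5.S3
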