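import Cfsg.Agent.S3.C
import Cfsg.Agent.H1.PGrp

/-! The action of a strongly closed elementary abelian 2-subgroup on a Suzuki component. -/

set_option autoImplicit false
set_option linter.unusedSectionVars false

namespace CfH5.S3

open Cfsg CfH9 CfH7 CfH8 CfH1 CfFT Subgroup
open T3 (nmI nmS pp2 odd2)
open scoped commutatorElement IsMulCommutative

universe u

variable {G : Type u} [Group G] [Finite G] {A B C H K L M N Q T W Y Z D : Subgroup G} {a b g t w x y z : G} {n : ℕ}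

theorem cover (s : Finset G) (h : ∀ z ∈ Z, ∃ x ∈ s, x * z ∈ C) : C.relIndex Z ≤ s.card := by
  classical
  choose! f hf using h
  rw [← Nat.card_eq_finsetCard]
  refine Nat.card_le_card_of_injective (α := Z ⧸ C.subgroupOf Z) (fun q => ⟨f q.out, (hf _ q.out.2).1⟩)
    fun q r e => ?_
  rw [← q.out_eq, ← r.out_eq]
  refine QuotientGroup.eq.2 ?_
  have e' : f q.out = f r.out := congrArg Subtype.val e
  simpa [e', mul_assoc, mem_subgroupOf] using mul_mem (inv_mem (hf _ q.out.2).2) (hf _ r.out.2).2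

theorem exists_out (l : List G) (h : l.length < C.relIndex Z) : ∃ z ∈ Z, ∀ x ∈ l, x * z ∉ C := by
  classical
  by_contra! h'
  exact ((cover l.toFinset fun z hz => let ⟨x, a, b⟩ := h' z hz; ⟨x, List.mem_toFinset.2 a, b⟩).trans
    l.toFinset_card_le).not_gt h

theorem mul_mem_two (h : W.relIndex Z = 2) (hx : x ∈ Z) (hy : y ∈ Z) : x * y ∈ W ↔ (x ∈ W ↔ y ∈ W) :=
  mul_mem_iff_of_index_two (H := W.subgroupOf Z) h (a := ⟨x, hx⟩) (b := ⟨y, hy⟩)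

theorem swap_mem (hx : x ∈ Nm(C)) (h : x * y⁻¹ ∈ C) : x⁻¹ * y ∈ C := by
  simpa [mul_assoc] using conj_mem_of_mem_normalizer' hx (inv_mem h)

theorem hyp_or (hA : EAb 2 A) (hB : B ≤ A) (ha : a ∈ A) (h : A ≤ B ⊔ zpowers a) (hx : x ∈ A) : x ∈ B ∨ x * a ∈ B := by
  obtain ⟨b, hb, _, ⟨k, rfl⟩, rfl⟩ := (mem_sup_of_le_Nm' (zpowers_le.2 (le_Nm_of_ab hA.1 hB ha))).1 (h hx)
  have e : ∀ j : ℤ, a ^ (j + j) = 1 := fun j => by rw [← two_mul, zpow_mul, zpow_ofNat, hA.2 a ha, one_zpow]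
  obtain ⟨j, rfl | rfl⟩ := Int.even_or_odd' k
  · left; simpa [two_mul, e] using hb
  · right; simpa [two_mul, zpow_add_one, e, mul_assoc, ← pow_two, hA.2 a ha] using hb

theorem hyp_mul (hA : EAb 2 A) (hB : B ≤ A) (ha : a ∈ A) (h : A ≤ B ⊔ zpowers a) (hx : x ∈ A) (hy : y ∈ A)
    (h1 : x ∉ B) (h2 : y ∉ B) : x * y ∈ B := by
  have := mul_mem ((hyp_or hA hB ha h hx).resolve_left h1) ((hyp_or hA hB ha h hy).resolve_left h2)
  rwa [← comm_iff.1 hA.1 a ha y hy, mul_assoc, ← mul_assoc a, ← pow_two, hA.2 a ha, one_mul] at this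

namespace SzQ
variable (h : SzQ L Q Z D w n)
include h

theorem QL : Q ≤ L := h.syl.le
theorem ZL' : Z ≤ L := h.ZQ.trans h.QL
theorem DL : D ≤ L := h.HL.trans inf_le_left
theorem eight : 8 ≤ 2 ^ n := Nat.pow_le_pow_right (n := 2) two_pos h.three
theorem nmC : L ≤ Nm(Cz(L)) := le_normalizer.trans (Nm_le_Nm_Cz L)
theorem outZ (x : G) : ∃ z ∈ Z, z ∉ Cz(L) ∧ x * z ∉ Cz(L) := by
  obtain ⟨z, hz, e⟩ := exists_out (C := Cz(L)) (Z := Z) [1, x] (by rw [h.cardZ]; have := h.eight; simp; omega)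
  exact ⟨z, hz, by simpa using e⟩
theorem outQ (x y u : G) : ∃ z ∈ Q, z ∉ Z ∧ x * z ∉ Z ∧ y * z ∉ Z ∧ u * z ∉ Z := by
  obtain ⟨z, hz, e⟩ := exists_out (C := Z) (Z := Q) [1, x, y, u] (by rw [h.cardQ]; have := h.eight; simp; omega)
  exact ⟨z, hz, by simpa using e⟩
theorem sq_not (hx : x ∈ Q) (h1 : x ∉ Z) : x * x ∉ Cz(L) := fun e => h1 (h.inv x (h.QL hx) (le_normalizer hx) e)
theorem moves (hz : z ∈ Z) (h1 : z ∉ Cz(L)) : ∃ d ∈ D, d * z * d⁻¹ * z⁻¹ ∉ Cz(L) := by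
  obtain ⟨y, hy, y1, y2⟩ := h.outZ z⁻¹
  obtain ⟨d, hd, e⟩ := h.trans z hz h1 y hy y1
  exact ⟨d, hd, fun e' => y2 (swap_mem (h.nmC (h.ZL' hz)) (by simpa [mul_assoc] using mul_mem (inv_mem e') e))⟩
theorem transQ (hx : x ∈ Q) (h1 : x ∉ Z) (hy : y ∈ Q) (h2 : y ∉ Z) : ∃ d ∈ D, d * x * d⁻¹ * y⁻¹ ∈ Z := by
  obtain ⟨d, hd, e⟩ := h.trans _ (h.sq x hx) (h.sq_not hx h1) _ (h.sq y hy) (h.sq_not hy h2)
  exact ⟨d, hd, h.sq_inj _ (conj_mem_of_mem_normalizer (h.HL hd).2 hx) y hy (by rwa [conj_mul])⟩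
theorem nmZ (hg : g ∈ L) (h1 : g ∈ Nm(Q)) (hz : z ∈ Z) : g * z * g⁻¹ ∈ Z :=
  h.inv _ (mul_mem (mul_mem hg (h.ZL' hz)) (inv_mem hg)) (le_normalizer (conj_mem_of_mem_normalizer h1 (h.ZQ hz)))
    (by rw [conj_mul]; exact conj_mem_of_mem_normalizer (h.nmC hg) (h.sqZ z hz))

theorem center_bot (hA : EAb 2 A) (h1 : A ≤ Z) (h2 : ∀ z ∈ Z, ∃ a ∈ A, a⁻¹ * z ∈ Cz(L)) (h3 : Q ≤ Cz(A))
    (h4 : D ≤ Nm(A)) : Zc(L) = ⊥ := by
  have c1 : Z ≤ Cz(Q) := fun z hz => by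
    obtain ⟨a, ha, e⟩ := h2 z hz
    simpa using mul_mem (le_Cz_comm h3 ha) (Cz_anti h.QL e)
  have dp := dp_comm_Cz hA.1 h4 (cop2 (elemAb_isPGroup hA) h.Hodd).symm
  have c2 : A ⊓ Cz(D) ≤ Cz(L) := fun a ha => by
    by_contra e
    obtain ⟨d, hd, e'⟩ := h.moves (h1 ha.1) e
    exact e' (by rw [conj_eq_of_mem_centralizer (le_Cz_comm (zpowers_le.2 ha.2) hd) (mem_zpowers a)]; simp)
  by_contra hne
  obtain ⟨c, hc, c1'⟩ := exists_ne_one_of_ne_bot hne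
  obtain ⟨W, w1, w2, w3⟩ := exists_relIndex_prime_ge (h.syl.pgrp.to_le h.ZQ) (lt_of_le_of_ne (dp.right_le.trans h1)
    fun e => c1' (by
      have : c ∈ ⁅A, D⁆ := e ▸ h.ZL c hc.1 hc.2
      exact mem_bot.1 (dp.inf ▸ mi (mi (dp.right_le this) (Cz_anti h.DL hc.2)) this)))
  have s1 : ∀ z ∈ Z, z * z ∈ W := fun z hz => (mul_mem_two w3 hz hz).2 Iff.rfl
  have s2 : ∀ x ∈ Q, ∀ y ∈ Q, x * y * (x * y) = ⁅y, x⁆ * (x * x * (y * y)) := fun x hx y hy => by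
    have := conj_eq_of_mem_centralizer (le_Cz_comm c1 hx) (h.der y hy x hx)
    nth_rw 1 [← this]; simp [commutatorElement_def, mul_assoc]
  by_cases hs : ∀ x ∈ Q, x * x ∈ W
  · have k1 : ⁅Q, Q⁆ ≤ W := commutator_le.2 fun y hy x hx =>
      (mul_mem_cancel_right (mul_mem (hs x hx) (hs y hy))).1 (s2 x hx y hy ▸ hs _ (mul_mem hx hy))
    have k2 : ∀ z ∈ Z, z ∈ Cz(L) → z ∈ W := fun z hz e => k1 (mem_der_of_Zc h.syl (qs_perfect h.qs) (h.ZQ hz) e)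
    refine absurd (relIndex_eq_one.2 fun z hz => ?_ : W.relIndex Z = 1) (by omega)
    obtain ⟨a, ha, e⟩ := h2 z hz
    obtain ⟨u, hu, v, hv, rfl⟩ := dp.mem.1 ha
    simpa [mul_assoc] using mul_mem (mul_mem (k2 u (h1 hu.1) (c2 hu)) (w1 hv)) (k2 _ (mul_mem (inv_mem (h1 ha)) hz) e)
  push Not at hs
  obtain ⟨x, hx, x1⟩ := hs
  have x2 : x ∉ Z := fun e => x1 (s1 x e)
  have s3 : ∀ y ∈ Q, y ∉ Z → y * y ∉ W := fun y hy y1 e => x1 (by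
    obtain ⟨d, hd, e1⟩ := h.transQ hy y1 hx x2
    obtain ⟨a, ha, e2⟩ := h2 _ (h.sq y hy)
    have e3 : d * (y * y) * d⁻¹ * (y * y)⁻¹ ∈ W := by
      have := conj_eq_of_mem_centralizer (le_Cz_comm (zpowers_le.2 e2) (h.DL hd)) (mem_zpowers _)
      have e4 : d * (y * y) * d⁻¹ = d * a * d⁻¹ * (a⁻¹ * (y * y)) := by rw [← this]; group
      rw [e4]
      simpa [commutatorElement_def, mul_assoc] using inv_mem (w1 (commutator_mem_commutator ha hd))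
    have e5 := s2 _ (h.ZQ e1) x hx
    rw [inv_mul_cancel_right, conj_mul, commutatorElement_eq_one_iff_mul_comm.2
      (mem_centralizer_iff.1 (c1 e1) x hx), one_mul] at e5
    exact (mul_mem_cancel_left (s1 _ e1)).1 (e5 ▸ (mul_mem_cancel_right (inv_mem e)).1 e3))
  have s4 : ∀ y ∈ Q, y ∉ Z → x * y ∉ Z → ⁅y, x⁆ ∉ W := fun y hy y1 y2 e => s3 _ (mul_mem hx hy) y2 (by
    rw [s2 x hx y hy]
    exact mul_mem e ((mul_mem_two w3 (h.sq x hx) (h.sq y hy)).2 (iff_of_false x1 (s3 y hy y1))))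
  obtain ⟨y, hy, y1, y2, -⟩ := h.outQ x 1 1
  obtain ⟨u, hu, u1, u2, u3, u4⟩ := h.outQ x y (x * y)
  refine s4 _ (mul_mem hy hu) u3 (by rwa [← mul_assoc]) ?_
  have := conj_eq_of_mem_centralizer (le_Cz_comm c1 hy) (h.der u hu x hx)
  rw [show ⁅y * u, x⁆ = ⁅u, x⁆ * ⁅y, x⁆ by rw [← this]; simp [commutatorElement_def, mul_assoc]]
  exact (mul_mem_two w3 (h.der u hu x hx) (h.der y hy x hx)).2 (iff_of_false (s4 u hu u1 u2) (s4 y hy y1 y2))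

end SzQ

/-- the action of `A` on the component `L` -/
structure CD (A L Q Z D : Subgroup G) (w : G) (n : ℕ) : Prop extends SzQ L Q Z D w n where
  nL : A ≤ Nm(L)
  dec : ∀ a ∈ A, ∃ z ∈ Z, z⁻¹ * a ∈ Cz(L)
  nA : L ⊓ Nm(Q) ≤ Nm(A)
  AZ : A ⊓ L ≤ Z
  cov : ¬ A ≤ Cz(L) → ∀ z ∈ Z, ∃ a ∈ A ⊓ L, a⁻¹ * z ∈ Cz(L)

theorem SCl.cd (h : SCl A H) (hK : KS H) (hL : Cp L H) (hT : SylIn 2 T H) (hA : A ≤ T) :
    ∃ Z D w n, CD A L (T ⊓ L) Z D w n := by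
  obtain ⟨Z, D, w, n, s⟩ := hK.szQ hL.qs hL.le (hL.sn.sylIn_inf hT)
  have nT := h.nm hT.le hT.pgrp hA
  have nL : A ≤ Nm(L) := fun a ha => by
    obtain ⟨x, hx, x1, -⟩ := s.outQ 1 1 1
    by_contra e
    have c := (hL.eq_or (hL.cj (le_normalizer (h.le ha)))).resolve_left fun e' => e (mem_normalizer_iff_cj.2 e')
    have e1 := h.sq (mul_mem (conj_mem_of_mem_normalizer (nT hx.1) ha) (inv_mem ha))
    have e2 := mem_centralizer_iff.1 (c (conj_mem_cj a (inv_mem hx.2))) x hx.2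
    refine s.sq_not hx x1 ?_
    have e3 : x * x * (a * x⁻¹ * a⁻¹ * (a * x⁻¹ * a⁻¹)) = 1 := by
      rw [← e1, mul_assoc, ← mul_assoc x (a * x⁻¹ * a⁻¹), e2]; group
    rw [eq_inv_of_mul_eq_one_left e3]
    exact inv_mem (c (mul_mem (conj_mem_cj a (inv_mem hx.2)) (conj_mem_cj a (inv_mem hx.2))))
  have dec : ∀ a ∈ A, ∃ z ∈ Z, z⁻¹ * a ∈ Cz(L) := fun a ha => by
    obtain ⟨l, hl, e⟩ := s.inner a (nL ha) 1 (one_mem _) (by rw [h.sq ha]; simp)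
    refine ⟨l, s.inv l hl ?_ ?_, e⟩
    · simpa using mul_mem (mem_Nm_inf (le_normalizer (hA ha)) (nL ha)) (inv_mem (Cz_le_Nm _ (Cz_anti s.QL e)))
    · have e1 := mem_centralizer_iff.1 e l hl
      have : l * l = (l⁻¹ * a * (l⁻¹ * a))⁻¹ := by
        refine eq_inv_of_mul_eq_one_left ?_
        rw [mul_assoc, ← mul_assoc l (l⁻¹ * a), e1, ← h.sq ha]; group
      exact this ▸ inv_mem (mul_mem e e)
  have nA : L ⊓ Nm(T ⊓ L) ≤ Nm(A) := fun g hg => mem_normalizer_of_conj_mem fun a ha => by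
    obtain ⟨z, hz, e⟩ := dec a ha
    refine h.sc T hT.le hT.pgrp hA _ ?_ ((dj_self ha).conj (hL.le hg.1))
    have := conj_eq_of_mem_centralizer (le_Cz_comm (zpowers_le.2 e) hg.1) (mem_zpowers _)
    rw [show g * a * g⁻¹ = g * z * g⁻¹ * (z⁻¹ * a) by rw [← this]; group]
    exact mul_mem (conj_mem_of_mem_normalizer hg.2 (s.ZQ hz)).1 (mul_mem (inv_mem (s.ZQ hz).1) (hA ha))
  have AZ : A ⊓ L ≤ Z := fun a ha => s.inv a ha.2 (le_normalizer (mi (hA ha.1) ha.2)) (by rw [h.sq ha.1]; simp)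
  refine ⟨Z, D, w, n, s, nL, dec, nA, AZ, fun hn z hz => ?_⟩
  obtain ⟨a, ha, a1⟩ := SetLike.not_le_iff_exists.1 hn
  obtain ⟨u, hu, e⟩ := dec a ha
  obtain ⟨d, hd, e1⟩ := s.moves hu fun e' => a1 (by simpa using mul_mem e' e)
  have e2 : d * u * d⁻¹ * u⁻¹ ∈ A ⊓ L := mi (by
    have := conj_eq_of_mem_centralizer (le_Cz_comm (zpowers_le.2 e) (s.DL hd)) (mem_zpowers _)
    rw [show d * u * d⁻¹ * u⁻¹ = d * a * d⁻¹ * a⁻¹ by
      rw [show a = u * (u⁻¹ * a) by simp, ← conj_mul, this]; group]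
    exact mul_mem (conj_mem_of_mem_normalizer (nA (s.HL hd)) ha) (inv_mem ha))
    (mul_mem (mul_mem (mul_mem (s.DL hd) (s.ZL' hu)) (inv_mem (s.DL hd))) (inv_mem (s.ZL' hu)))
  by_cases z1 : z ∈ Cz(L)
  · exact ⟨1, one_mem _, by simpa using z1⟩
  obtain ⟨k, hk, e3⟩ := s.trans _ (AZ e2) e1 z hz z1
  have e4 := conj_mem_of_mem_normalizer (mem_Nm_inf (nA (s.HL hk)) (le_normalizer (s.DL hk))) e2
  exact ⟨_, e4, swap_mem (s.nmC e4.2) e3⟩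

theorem SCl.cd' (h : SCl A H) (hK : KS H) (hL : Cp L H) : ∃ Q Z D w n, CD A L Q Z D w n :=
  let ⟨_, hT, hA⟩ := exists_sylIn_ge h.pA h.le; ⟨_, h.cd hK hL hT hA⟩

namespace CD
variable (h : CD A L Q Z D w n)
include h

theorem split (hn : ¬ A ≤ Cz(L)) (ha : a ∈ A) : ∃ u ∈ A ⊓ L, u⁻¹ * a ∈ A ⊓ Cz(L) := by
  obtain ⟨z, hz, e⟩ := h.dec a ha
  obtain ⟨u, hu, e'⟩ := h.cov hn z hz
  exact ⟨u, hu, mi (mul_mem (inv_mem (mi1 hu)) ha) (by simpa [mul_assoc] using mul_mem e' e)⟩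

theorem exists_nc (hn : ¬ A ≤ Cz(L)) (x : G) : ∃ a ∈ A ⊓ L, a ∉ Cz(L) ∧ x * a ∉ Cz(L) := by
  obtain ⟨z, hz, z1, z2⟩ := h.outZ x
  obtain ⟨a, ha, e⟩ := h.cov hn z hz
  exact ⟨a, ha, fun e' => z1 (by simpa using mul_mem e' e), fun e' => z2 (by simpa [mul_assoc] using mul_mem e' e)⟩

theorem hyp (hA : EAb 2 A) (hB : B ≤ A) (ha : a ∈ A) (e : A ≤ B ⊔ zpowers a) (hn : ¬ A ≤ Cz(L)) :
    ∃ b ∈ B ⊓ L, b ∉ Cz(L) := by
  by_contra! k
  obtain ⟨u, hu, u1, -⟩ := h.exists_nc hn 1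
  obtain ⟨v, hv, v1, v2⟩ := h.exists_nc hn u
  exact v2 (k _ ⟨hyp_mul hA hB ha e hu.1 hv.1 (fun b => u1 (k u ⟨b, hu.2⟩)) fun b => v1 (k v ⟨b, hv.2⟩),
    mul_mem hu.2 hv.2⟩)

theorem le_nclo (hn : ¬ A ≤ Cz(L)) : L ≤ nclo (A ⊓ L) L := by
  obtain ⟨u, hu, u1, -⟩ := h.exists_nc hn 1
  exact (qs_normal h.qs (right_le_Nm_nclo _ L)).resolve_left fun e => u1 (e ⟨hu.2, CfH7.le_nclo _ _ hu⟩)

theorem le_sup : A ≤ Q ⊔ Cz(L) := fun a ha => by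
  obtain ⟨z, hz, e⟩ := h.dec a ha
  simpa using mul_mem (mem_sup_left (h.ZQ hz)) (mem_sup_right e)

theorem relIndex (hn : ¬ A ≤ Cz(L)) : (Cz(L)).relIndex A = 2 ^ n := by
  have n1 := h.nL.trans (Nm_le_Nm_Cz L)
  rw [← h.cardZ, ← relIndex_sup_Nm n1, ← relIndex_sup_Nm (h.ZL'.trans h.nmC)]
  congr 1
  refine le_antisymm (sup_le le_sup_left fun a ha => ?_) (sup_le le_sup_left fun z hz => ?_)
  · obtain ⟨z, hz, e⟩ := h.dec a ha
    simpa using mul_mem (mem_sup_right hz) (mem_sup_left e)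
  · obtain ⟨a, ha, e⟩ := h.cov hn z hz
    simpa using mul_mem (mem_sup_right ha.1) (mem_sup_left e)

theorem trA (ha : a ∈ A) (a1 : a ∉ Cz(L)) (hb : b ∈ A) (b1 : b ∉ Cz(L)) :
    ∃ d ∈ D, d * a * d⁻¹ * b⁻¹ ∈ A ⊓ Cz(L) := by
  obtain ⟨u, hu, e⟩ := h.dec a ha
  obtain ⟨v, hv, e'⟩ := h.dec b hb
  obtain ⟨d, hd, k⟩ := h.trans u hu (fun c => a1 (by simpa using mul_mem c e)) v hv
    fun c => b1 (by simpa using mul_mem c e')
  refine ⟨d, hd, mi (mul_mem (conj_mem_of_mem_normalizer (h.nA (h.HL hd)) ha) (inv_mem hb)) ?_⟩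
  have := conj_eq_of_mem_centralizer (le_Cz_comm (zpowers_le.2 e) (h.DL hd)) (mem_zpowers _)
  have e1 := mul_mem k (conj_mem_of_mem_normalizer (h.nmC (h.ZL' hv)) (mul_mem e (inv_mem e')))
  rw [show a = u * (u⁻¹ * a) by simp, ← conj_mul, this]
  convert e1 using 1; group

/-- an element of odd order inducing an inner automorphism that centralizes an involution -/
theorem odd_mem (hx : x ∈ L ⊔ Cz(L)) (ho : Odd (orderOf x)) (hb : b ∈ A ⊓ L) (b1 : b ∉ Cz(L))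
    (e : x ∈ Cx(b)) : x ∈ Cz(L) := by
  obtain ⟨l, hl, c, hc, rfl⟩ := (mem_sup_of_le_Nm h.nmC).1 hx
  have k : l ∈ Q := h.cit l hl b (h.AZ hb) b1 (by
    have := mem_Cx'.1 e
    rw [mul_inv_rev, mul_assoc l, mul_assoc l, ← mul_assoc (c * b), conj_eq_of_mem_centralizer hc hb.2,
      ← mul_assoc] at this
    rw [this]; simp)
  obtain ⟨j, e1⟩ := isPGroup_iff_mem.1 h.syl.pgrp l k
  refine CfH1.mem_of_pow_mem_of_coprime (n := 2 ^ j) ?_ (Nat.Coprime.pow_right j (Nat.coprime_two_right.2 ho))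
  rw [(show Commute l c from mem_centralizer_iff.1 hc l hl).mul_pow, e1, one_mul]
  exact pow_mem hc _

end CD

end CfH5.S3
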