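import Cfsg.Agent.S3.D

/-! Groups with known simple sections and a strongly closed elementary abelian 2-subgroup. -/

set_option autoImplicit false
set_option linter.unusedSectionVars false

namespace CfH5.S3

open Cfsg CfH9 CfH7 CfH8 CfH1 CfFT Subgroup
open T3 (nmI nmS pp2 odd2)
open scoped commutatorElement IsMulCommutative

universe u

variable {G : Type u} [Group G] [Finite G] {A B C H K L M N Q T W Y Z D : Subgroup G} {a b g t w x y z : G} {n : ℕ}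

theorem relIndex_qp (hA : A ≤ Nm(N)) (X : Subgroup (NQ N)) : (qp N X).relIndex A = X.relIndex (qb N A) := by
  nth_rw 1 [← map_subgroupOf_eq_of_le hA]
  rw [qp, relIndex_map_map_of_injective _ _ (subtype_injective _), relIndex_comap, qb]

namespace SCl
variable (h : SCl A H) (hK : KS H)
include h

theorem odd_eq_one (hc : A ≤ Cz(Op' 2 H)) (hy : y ∈ nclo A H) (ho : Odd (orderOf y)) (ha : a ∈ A)
    (hi : a * y * a⁻¹ = y⁻¹) (h2 : ∀ L, Cp L H → y ∈ Cz(L)) : y = 1 :=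
  eq_one_of_inv ho (hi.symm.trans (conj_eq_of_mem_centralizer (hc ha) (mem_O_of_Cz (nclo_le_of_le h.le hy) ho
    (h.res_le (mem_pResidualOf hy (Nat.coprime_two_right.2 ho))) (nclo_le_Cz (nm_O H) hc hy) h2)))

include hK

theorem odd_le_Cz (hc : A ≤ Cz(Op' 2 H)) (h1 : Y ≤ H) (ho : OddS Y) (hn : A ≤ Nm(Y)) : Y ≤ Cz(A) := by
  refine le_of_cocyclic h.ab.1 hn (cop2 h.pA ho) fun B hB ⟨a, ha, e⟩ y hy => Cz_anti e ?_
  rw [Cz_sup, Cz_zpowers]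
  refine mi hy.2 (mem_Cx'.2 (mul_inv_eq_one.1 ?_))
  have u1 : y * a * y⁻¹ * a⁻¹ ∈ Y := by
    simpa [mul_assoc] using mul_mem (mi1 hy) (conj_mem_of_mem_normalizer (hn ha) (inv_mem (mi1 hy)))
  have k : ∀ L, Cp L H → ¬ A ≤ Cz(L) → y ∈ Nm(L) ∧ y * a * y⁻¹ * a⁻¹ ∈ Cz(L) := fun L hL e' => by
    obtain ⟨Q, Z, D, w, n, c⟩ := h.cd' hK hL
    obtain ⟨b, hb, b1⟩ := c.hyp h.ab hB ha e e'
    have y1 := hL.mem_Nm' (le_normalizer (h1 hy.1)) hb.2 b1 (Cz_le_Cx hb.1 hy.2)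
    have a1 := (c.le_sup.trans (sup_le_sup_right c.QL _)) ha
    have a2 := Cz_le_Cx (hB hb.1) (h.cz ha)
    have y2 := Cz_le_Cx hb.1 hy.2
    exact ⟨y1, c.odd_mem (mul_mem (conj_mem_of_mem_normalizer (mem_Nm_sup y1 (mem_Nm_Cz y1)) a1) (inv_mem a1))
      (OddS.ord ho u1) ⟨hB hb.1, hb.2⟩ b1 (mul_mem (mul_mem (mul_mem y2 a2) (inv_mem y2)) (inv_mem a2))⟩
  refine h.odd_eq_one hc (mul_mem (cj_le_nclo (h1 hy.1) (conj_mem_cj y ha)) (inv_mem (le_nclo A H ha)))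
    (OddS.ord ho u1) ha (by simp [h.inv ha, mul_assoc, h.sq ha]) fun L hL => ?_
  by_cases e' : A ≤ Cz(L)
  · refine mul_mem ?_ (inv_mem (e' ha))
    by_cases e'' : A ≤ Cz(CfH9.cj y⁻¹ L)
    · exact mem_cj_inv.1 (cj_centralizer y⁻¹ L ▸ e'' ha)
    · have := cj_eq_of_mem_normalizer (k _ (hL.cj (le_normalizer (inv_mem (h1 hy.1)))) e'').1
      rw [cj_cj_inv] at this
      exact absurd (this ▸ e') e''
  · exact (k L hL e').2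

theorem odd_eq_bot (hO : Op' 2 H = ⊥) (h1 : Y ≤ H) (ho : OddS Y) (hn : H ⊓ Cz(A) ≤ Nm(Y)) : Y = ⊥ := by
  have c := h.odd_le_Cz hK (by rw [hO, Cz_bot]; exact le_top) h1 ho ((le_inf h.le h.cz).trans hn)
  have n1 := le_normalizer_pCoreOf (p := 2) H
  have c2 := comm_eq_bot_right.1 (thompson_AxB (isPGroup_pCoreOf H) h.pA (pp2 ho) (h.le.trans n1) (h1.trans n1)
    (comm_eq_bot_right.2 c) (comm_eq_bot_left.2 (le_Cz_of_Nm ((inf_le_inf_right _ (pCoreOf_le H)).trans hn)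
      (nmI (h1.trans n1) (c.trans ((Cz_le_Nm _).trans (Nm_le_Nm_Cz A))))
      (cop2 ((isPGroup_pCoreOf H).to_le inf_le_left) ho).inf_eq_bot)))
  refine eq_bot_iff.2 fun y hy => hO ▸ mem_O_of_Cz (h1 hy) (OddS.ord ho hy) (c2 hy) (by rw [hO, Cz_bot]; trivial) fun L hL => ?_
  by_cases e : A ≤ Cz(L)
  · exact hL.cz_sol h1 ((le_inf hL.le (le_Cz_comm e)).trans hn) (OddS.sol ho) hy
  obtain ⟨Q, Z, D, w, n, d⟩ := h.cd' hK hL
  obtain ⟨b, hb, b1, -⟩ := d.exists_nc e 1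
  have y1 := hL.mem_Nm' (le_normalizer (h1 hy)) hb.2 b1 (Cz_le_Cx hb.1 (c hy))
  refine d.odd_cent y y1 (OddS.ord ho hy) fun z hz => ?_
  obtain ⟨a, ha, e'⟩ := d.cov e z hz
  have := conj_mem_of_mem_normalizer (d.nmC ha.2) (mul_mem (conj_mem_of_mem_normalizer (mem_Nm_Cz y1) e') (inv_mem e'))
  rw [← conj_mul (b := y), conj_eq_of_mem_centralizer (c hy) (inv_mem (mi1 ha))] at this
  simpa [mul_assoc] using this

theorem odd_le_O (h1 : Y ≤ H) (ho : OddS Y) (hn : H ⊓ Cz(A) ≤ Nm(Y)) : Y ≤ Op' 2 H := by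
  refine (qb_eq_bot_iff (h1.trans (nm_O H))).1 ((h.qb (odd_O H) (nm_O H) (O_le H)).odd_eq_bot (hK.qb (nm_O H))
    (Op'_qb_Op' H) (qb_mono h1) (ho.qb (h1.trans (nm_O H))) ?_)
  rw [← qb_Cz_coprime (nm_O H) (O_le H) (h.le.trans (nm_O H)) (cop2 h.pA (odd_O H)) (.inl (sol_of_isPGroup h.pA))]
  exact qb_le_Nm hn

theorem gen (hc : A ≤ Cz(Op' 2 H)) (h1 : H ⊓ Nm(A) ≤ M) (h2 : ∀ L, Cp L H → ¬ A ≤ Cz(L) → L ≤ M) : H ≤ M := by
  obtain ⟨T, hT, hA⟩ := exists_sylIn_ge h.pA h.le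
  have n1 := le_normalizer.trans (normalizer_le_normalizer_layerOf H)
  rw [← (hT.inf_normal' n1 (layerOf_le H)).frattini_sup n1 (layerOf_le H)]
  refine sup_le (layerOf_le_iff.2 fun L a b => ?_) fun g hg => h1 (mi hg.1 (mem_normalizer_of_conj_mem fun b hb =>
    h.dmem_of_nm ((dj_self hb).conj hg.1) (Cz_le_Nm _ (mem_centralizer_iff.2 fun a ha => ?_))))
  · by_cases e : A ≤ Cz(L)
    · exact (le_inf a.le ((le_Cz_comm e).trans (Cz_le_Nm _))).trans h1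
    · exact h2 L ⟨a, b⟩ e
  have d : Dj A H (g * b * g⁻¹) := (dj_self hb).conj hg.1
  have k : ∀ L, Cp L H → A ≤ (T ⊓ layerOf H ⊓ L) ⊔ Cz(L) := fun L hL => by
    obtain ⟨Z, D, w, n, c⟩ := h.cd hK hL hT hA
    rw [inf_assoc, inf_eq_right.2 hL.lay]
    exact c.le_sup
  have x1 := cj_le_nclo hg.1 (conj_mem_cj g hb)
  have x2 : ∀ L, Cp L H → g * b * g⁻¹ ∈ (T ⊓ layerOf H ⊓ L) ⊔ Cz(L) := fun L hL => by
    have := conj_mem_cj g (k _ (hL.cj (le_normalizer (inv_mem (mi1 hg)))) hb)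
    rwa [cj_sup, cj_inf, cj_centralizer, cj_cj_inv, cj_eq_of_mem_normalizer hg.2] at this
  generalize g * b * g⁻¹ = x at d x1 x2
  have i : a * (a * x) * a⁻¹ = (a * x)⁻¹ := by simp [← mul_assoc, h.sq ha, h.inv ha, h.dinv d]
  obtain ⟨j, hj⟩ := exists_coprime_orderOf_pow (p := 2) (a * x)
  have e := h.odd_eq_one hc (pow_mem (mul_mem (le_nclo A H ha) x1) (2 ^ j)) (Nat.coprime_two_right.1 hj) ha
    (by rw [← conj_pow, i, inv_pow]) fun L hL => pResidualOf_le_of_le_sup (H := Cz(L) ⊔ (T ⊓ layerOf H ⊓ L))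
      (hT.pgrp.to_le (inf_le_left.trans inf_le_left)) (inf_le_right.trans (le_normalizer.trans (Nm_le_Nm_Cz L)))
      le_rfl (mem_pResidualOf (by rw [sup_comm]; exact pow_mem (mul_mem (k L hL ha) (x2 L hL)) _) hj)
  have a1 : a ∈ zpowers a ⊔ zpowers (a * x) := mem_sup_left (mem_zpowers a)
  exact (h.dmul (sup_le (zpowers_le.2 (h.le ha)) (zpowers_le.2 (mul_mem (h.le ha) (h.dmem d))))
    (isPGroup_sup (h.dp (dj_self ha)) (isPGroup_zpowers e) (zpowers_le.2 (mem_normalizer_iff_cj.2 (by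
      rw [cj_zpowers, i, zpowers_inv])))) a1 (by simpa using mul_mem (inv_mem a1) (mem_sup_right (mem_zpowers _)))
    (dj_self ha) d).1

theorem exists_cp (hc : A ≤ Cz(Op' 2 H)) (h1 : H ⊓ Nm(A) ≤ M) (hn : ¬ H ≤ M) :
    ∃ L, Cp L H ∧ ¬ A ≤ Cz(L) ∧ ¬ L ≤ M := by
  by_contra! k
  exact hn (h.gen hK hc h1 k)

theorem uniq (hc : A ≤ Cz(Op' 2 H)) (hL : Cp L H) (hn : ¬ A ≤ Cz(L)) (h0 : A ⊓ Cz(L) = ⊥) :
    A ≤ L ∧ H ≤ Nm(L) ∧ L ⊔ (H ⊓ Nm(A)) = H := by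
  obtain ⟨Q, Z, D, w, n, c⟩ := h.cd' hK hL
  have k1 : A ≤ L := fun a ha => by
    obtain ⟨u, hu, e⟩ := c.split hn ha
    rw [h0, mem_bot, inv_mul_eq_one] at e
    exact e ▸ hu.2
  have k2 : ∀ K, Cp K H → ¬ A ≤ Cz(K) → K = L := fun K hK e => (hL.eq_or hK).resolve_right fun e' =>
    e (le_Cz_comm (e'.trans (Cz_anti k1)))
  obtain ⟨a, ha, a1⟩ := SetLike.not_le_iff_exists.1 hn
  refine ⟨k1, h.gen hK hc (fun g hg => hL.mem_Nm (le_normalizer hg.1) (k1 ha) fun e => a1 ?_)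
    fun K a b => k2 K a b ▸ le_normalizer, le_antisymm (sup_le hL.le inf_le_left)
    (h.gen hK hc le_sup_right fun K a b => k2 K a b ▸ le_sup_left)⟩
  have := mi (conj_mem_of_mem_normalizer hg.2 ha) e
  rw [h0, mem_bot, conj_eq_one_iff] at this
  exact this ▸ one_mem _

theorem inf_le_Nm (hc : A ≤ Cz(Op' 2 H)) (hL : Cp L H) (hn : ¬ A ≤ Cz(L)) (h0 : A ⊓ Cz(L) = ⊥)
    (h1 : H ⊓ Nm(A) ≤ M) (h2 : ¬ L ≤ M) : H ⊓ M ≤ Nm(A) := fun x hx => by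
  obtain ⟨-, k2, k3⟩ := h.uniq hK hc hL hn h0
  obtain ⟨Q, Z, D, w, n, c⟩ := h.cd' hK hL
  obtain ⟨l, hl, g, hg, rfl⟩ := (mem_sup_of_le_Nm' (inf_le_left.trans k2)).1 (k3.ge hx.1)
  refine mul_mem (c.nA (mi hl ?_)) hg.2
  by_contra e
  exact h2 (inf_eq_left.1 (c.max (L ⊓ M) (le_inf c.QL fun q hq => h1 (mi (hL.le (c.QL hq))
    (c.nA (mi (c.QL hq) (le_normalizer hq))))) inf_le_left fun e' =>
      e (e' (mi hl ((mul_mem_cancel_right (h1 hg)).1 (mi2 hx))))))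

theorem le_Nm_of_fused (hc : A ≤ Cz(Op' 2 H))
    (tr : ∀ a ∈ A, a ≠ 1 → ∀ b ∈ A, b ≠ 1 → ∃ g ∈ H, g * a * g⁻¹ = b) (ht : t ∈ H) (t2 : t * t = 1)
    (tc : t ∈ Cz(A)) (hY : ∀ a ∈ A, ∃ Y, Y ≤ H ∧ Sol Y ∧ A ≤ Y ∧ H ⊓ Cx(t * a) ≤ Nm(Y)) : H ≤ Nm(A) := by
  by_contra hn
  obtain ⟨L, hL, h1, -⟩ := h.exists_cp hK hc inf_le_right hn
  obtain ⟨Q, Z, D, w, n, c⟩ := h.cd' hK hL
  obtain ⟨u, hu, u1, -⟩ := c.exists_nc h1 1
  have u2 : u ≠ 1 := fun e => u1 (e ▸ one_mem _)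
  have h0 : A ⊓ Cz(L) = ⊥ := eq_bot_iff.2 fun b hb => by
    by_contra b1
    obtain ⟨g, hg, e⟩ := tr u hu.1 u2 b hb.1 b1
    have k1 := hL.cj (le_normalizer hg)
    have k2 : b ∉ Cz(CfH9.cj g L) := by rwa [← cj_centralizer, ← e, conj_mem_cj_iff]
    have k3 : u * b ∉ Cz(L) := fun e' => u1 ((mul_mem_cancel_right (mi2 hb)).1 e')
    obtain ⟨g', hg', e'⟩ := tr u hu.1 u2 (u * b) (mul_mem (mi1 hu) (mi1 hb)) fun e' => k3 (e' ▸ one_mem _)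
    have k4 : u * b ∈ CfH9.cj g' L := e' ▸ conj_mem_cj g' hu.2
    rw [hL.eq_of_mem (hL.cj (le_normalizer hg')) k4 k3] at k4
    exact k2 (k1.eq_of_mem hL ((mul_mem_cancel_left (mi2 hu)).1 k4) k2 ▸ hb.2)
  obtain ⟨l, hl, e⟩ := c.inner t ((h.uniq hK hc hL h1 h0).2.1 ht) 1 (one_mem _) (by simp [t2])
  have e1 := mem_centralizer_iff.1 e l hl
  have l1 : l ∈ Q := c.cit l hl u (c.AZ hu) u1 (by
    have := conj_eq_of_mem_centralizer (inv_mem e) hu.2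
    rw [← conj_eq_of_mem_centralizer tc hu.1] at this
    have e2 : l * u * l⁻¹ = u := by
      nth_rw 1 [← conj_eq_of_mem_centralizer e hu.2]
      nth_rw 2 [← conj_eq_of_mem_centralizer tc hu.1]
      group
    rw [e2]; simp)
  obtain ⟨a, ha, e'⟩ := c.cov h1 l (c.inv l hl (le_normalizer l1) (by
    have : l * l = (l⁻¹ * t * (l⁻¹ * t))⁻¹ := by
      refine eq_inv_of_mul_eq_one_left ?_
      rw [mul_assoc, ← mul_assoc l (l⁻¹ * t), e1, ← t2]; group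
    exact this ▸ inv_mem (mul_mem e e)))
  obtain ⟨Y, y1, y2, y3, y4⟩ := hY a ha.1
  refine h1 (y3.trans (hL.cz_sol y1 ((le_inf hL.le (le_Cx_iff.2 ?_)).trans y4) y2))
  rw [← mem_centralizer_iff.1 tc a ha.1, ← h.inv ha.1]
  simpa [mul_assoc] using mul_mem e' e

theorem pull (h1 : H ⊓ Nm(A) ≤ M) (h2 : Op' 2 H ≤ M) (hn : ¬ H ≤ M) : ∃ B n, B ≤ A ∧ Odd n ∧ 3 ≤ n ∧
    B.relIndex A = 2 ^ n ∧ A ⊓ Cz(H) ≤ B ∧ ¬ H ⊓ Cz(B) ≤ M ∧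
    (∀ a ∈ A, a ∉ B → ∀ b ∈ A, b ∉ B → ∃ g ∈ H ⊓ Nm(A), g * a * g⁻¹ * b⁻¹ ∈ B) ∧
    (B = ⊥ → H ⊓ M ≤ Nm(A ⊔ Op' 2 H)) := by
  have n1 := nm_O H
  have n2 := h.le.trans n1
  have s := h.qb (odd_O H) n1 (O_le H)
  have k := hK.qb n1
  have c : CfH8.qb (Op' 2 H) A ≤ Cz(Op' 2 (CfH8.qb (Op' 2 H) H)) := by rw [Op'_qb_Op', Cz_bot]; exact le_top
  have e1 := qb_Nm_coprime n1 (O_le H) n2 (cop2 h.pA (odd_O H)) (.inl (sol_of_isPGroup h.pA))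
  have e2 := e1.ge.trans (qb_mono (le_inf inf_le_left h1))
  obtain ⟨L, hL, l1, l2⟩ := s.exists_cp k c e2 fun e => hn (((qb_le_qb_iff n1 (inf_le_left.trans n1)).1 e).trans
    (sup_le inf_le_right h2))
  obtain ⟨Q, Z, D, w, n, d⟩ := s.cd' k hL
  have m : ∀ {a} (ha : a ∈ A), a ∈ A ⊓ qp _ Cz(L) ↔ nmQuot _ ⟨a, n2 ha⟩ ∈ Cz(L) := fun ha =>
    ⟨fun e => (mem_qp.1 e.2).2, fun e => ⟨ha, mem_qp.2 ⟨_, e⟩⟩⟩
  refine ⟨A ⊓ qp _ Cz(L), n, inf_le_left, d.odd, d.three, by rw [inf_relIndex_left, relIndex_qp n2, d.relIndex l1],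
    le_inf inf_le_left ((qb_le_iff (inf_le_left.trans n2)).1 (((qb_le_Cz_iff (inf_le_left.trans n2) n1).2
      ((comm_eq_bot_left.2 inf_le_right).le.trans bot_le)).trans (Cz_anti hL.le))), fun e => l2 ?_,
    fun a ha a1 b hb b1 => ?_, fun e => ?_⟩
  · refine le_trans ?_ (qb_mono (le_inf inf_le_left e))
    rw [qb_Cz_coprime n1 (O_le H) (inf_le_left.trans n2) (cop2 (h.pA.to_le inf_le_left) (odd_O H))
      (.inr (OddS.sol (odd_O H))), qb_inf_qp]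
    exact le_inf hL.le (le_Cz_comm inf_le_right)
  · obtain ⟨g, hg, e⟩ := d.trA (nmQuot_mem_qb (g := ⟨a, n2 ha⟩) ha) (fun e => a1 ((m ha).2 e))
      (nmQuot_mem_qb (g := ⟨b, n2 hb⟩) hb) fun e => b1 ((m hb).2 e)
    obtain ⟨g, g1, rfl⟩ := mem_qb.1 (e1.ge (mi (hL.le (d.DL hg)) (d.nA (d.HL hg))))
    exact ⟨g, g1, (m (mul_mem (conj_mem_of_mem_normalizer g1.2 ha) (inv_mem hb))).2 e.2⟩
  · rw [← qp_qb n2]
    refine le_Nm_qp (inf_le_left.trans n1) ((le_inf (qb_mono inf_le_left) le_rfl).trans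
      (s.inf_le_Nm k c hL l1 ?_ e2 l2))
    rw [← qb_inf_qp, e, qb_eq_bot_iff bot_le]; exact bot_le

theorem pull' (h1 : H ⊓ Nm(A) ≤ M) (h2 : Op' 2 H ≤ M) (hn : ¬ H ≤ M) (h3 : ∀ a ∈ A, a ≠ 1 → H ⊓ Cx(a) ≤ M) :
    (∀ a ∈ A, a ≠ 1 → ∀ b ∈ A, b ≠ 1 → ∃ g ∈ H ⊓ Nm(A), g * a * g⁻¹ = b) ∧ H ⊓ M ≤ Nm(A ⊔ Op' 2 H) := by
  obtain ⟨B, n, b1, -, -, -, -, b2, b3, b4⟩ := h.pull hK h1 h2 hn
  obtain rfl : B = ⊥ := by
    by_contra e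
    obtain ⟨b, hb, e'⟩ := exists_ne_one_of_ne_bot e
    exact b2 ((inf_le_inf_left _ (Cz_le_Cx hb)).trans (h3 b (b1 hb) e'))
  exact ⟨by simpa [mul_inv_eq_one] using b3, b4 rfl⟩

end SCl

end CfH5.S3
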