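import Cfsg.Agent.S3.E
import Cfsg.Agent.FT.BG6

/-! The minimal counterexample; the subgroups of odd order normalized by `C(A)`. -/

set_option autoImplicit false
set_option linter.unusedSectionVars false

namespace CfH5.S3

open Cfsg CfH9 CfH7 CfH8 CfH1 CfFT Subgroup
open T3 (nmI nmS pp2 odd2)
open scoped commutatorElement IsMulCommutative

universe u

variable {G : Type u} [Group G] [Finite G] {A B C H K L M N O P Q R T U V W X Y Y' Z D : Subgroup G}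
  {a b g t w x y z : G} {n p r s : ℕ}

theorem mem_zp2 (hb : b * b = 1) (hx : x ∈ zpowers b) : x = 1 ∨ x = b := by
  have := hyp_or (B := ⊥) (CfH9.elemAb_zpowers (p := 2) (by rwa [pow_two])) bot_le (mem_zpowers b) le_sup_right hx
  simpa [mul_eq_one_iff_eq_inv, inv_eq_of_mul_eq_one_right hb] using this

theorem p2_zp (hb : b * b = 1) : IsPGroup 2 (zpowers b) := isPGroup_zpowers (k := 1) (by simpa [pow_two] using hb)

theorem hyp_index (hA : EAb 2 A) (hB : B ≤ A) (ha : a ∈ A) (h : A ≤ B ⊔ zpowers a) : B.relIndex A ≤ 2 := by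
  classical
  refine (cover {1, a} fun z hz => ?_).trans Finset.card_le_two
  rcases hyp_or hA hB ha h hz with e | e
  · exact ⟨1, by simp, by simpa using e⟩
  · exact ⟨a, by simp, by rwa [comm_iff.1 hA.1 a ha z hz]⟩

theorem not_cyc (hA : EAb 2 A) (h : 2 < Nat.card A) : ¬ IsCyclic A := fun e => by
  obtain ⟨x, rfl⟩ := cyc_iff.1 e
  rw [Nat.card_zpowers] at h
  exact (Nat.le_of_dvd two_pos (orderOf_dvd_of_pow_eq_one (hA.2 x (mem_zpowers x)))).not_gt h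

theorem comm_le_Cz_of_fpf (hb : b * b = 1) (h1 : U ≤ Nm(X)) (h2 : b ∈ Nm(X)) (h3 : b ∈ Nm(U)) (ho : OddS U)
    (h0 : X ⊓ Cx(b) = ⊥) : ⁅U, zpowers b⁆ ≤ Cz(X) := commutator_le.2 fun u hu x hx => by
  rcases mem_zp2 hb hx with rfl | rfl
  · simp
  have k : ⁅u, x⁆ ∈ U := commutator_mem_left hu h3
  exact mem_Cz_of_inverts (fun n hn => inverts_of_fpf hb h2 h0 hn) (by
    simp [commutatorElement_def, inv_eq_of_mul_eq_one_right hb, mul_assoc, hb]) (h1 k) (OddS.ord ho k)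

theorem le_Cz_of_fix (hb : b * b = 1) (h1 : U ≤ Nm(X)) (h2 : b ∈ Nm(X)) (ho : OddS U) (hX : OddS X)
    (hn : Nil X) (hc : Cop U X) (e : ⁅U, zpowers b⁆ = U) (h0 : X ⊓ Cx(b) ≤ Cz(U)) : U ≤ Cz(X) := by
  have h3 : b ∈ Nm(U) := zpowers_le.1 (le_Nm_of_comm_le_left e.le)
  refine coprime_nil_cent_stab h1 hc hn ?_
  set E := X ⊓ Cz(X ⊓ Cz(U))
  have nm : ∀ {g}, g ∈ Nm(X) → g ∈ Nm(U) → g ∈ Nm(E) ∧ g ∈ Nm(E ⊓ Cz(U)) := fun a b =>
    have := mem_Nm_inf a (mem_Nm_Cz (mem_Nm_inf a (mem_Nm_Cz b))); ⟨this, mem_Nm_inf this (mem_Nm_Cz b)⟩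
  have n1 : U ≤ Nm(E ⊓ Cz(U)) := fun u hu => (nm (h1 hu) (le_normalizer hu)).2
  have n2 : U ≤ Nm(E) := fun u hu => (nm (h1 hu) (le_normalizer hu)).1
  have n3 : E ≤ Nm(E ⊓ Cz(U)) := inf_le_right.trans ((Cz_anti (inf_le_inf_right _ inf_le_left)).trans (Cz_le_Nm _))
  let c : Nm(E ⊓ Cz(U)) := ⟨b, (nm h2 h3).2⟩
  have k := comm_le_Cz_of_fpf (b := nmQuot _ c) (by rw [← map_mul]; exact nmQuot_eq_one_iff.2 (by simp [c, hb]))
    (qb_le_Nm n2) (zpowers_le.1 (qb_zpowers c ▸ qb_le_Nm (zpowers_le.2 (nm h2 h3).1)))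
    (zpowers_le.1 (qb_zpowers c ▸ qb_le_Nm (zpowers_le.2 h3))) (ho.qb n1) (by
      rw [← qb_Cx n3 (nm h2 h3).1 (cop2 (p2_zp hb) (hX.of_le (inf_le_left.trans inf_le_left))),
        qb_eq_bot_iff (inf_le_left.trans n3)]
      exact le_inf inf_le_left ((inf_le_inf_right _ inf_le_left).trans h0))
  rw [← qb_zpowers, ← qb_commutator n1 (zpowers_le.2 c.2), e, qb_le_Cz_iff n1 n3, Subgroup.commutator_comm] at k
  exact comm_eq_bot_left.1 (commutator_eq_bot_of_le_of_eq_bot n2 (hc.mono le_rfl inf_le_left) (.inl (OddS.sol ho)) k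
    (comm_eq_bot_left.2 inf_le_right))

theorem key_aux [Fact p.Prime] (hb : b * b = 1) (hO : OddS O) (h2 : b ∈ Nm(O)) (h1 : U ≤ O) (hU : IsPGroup p U)
    (e : ⁅U, zpowers b⁆ = U) (h0 : O ⊓ Cx(b) ≤ Nm(U)) (h : Op p O = ⊥) : U = ⊥ := by
  have l := fittingOf_le O
  have n := le_normalizer.trans (normalizer_le_normalizer_fittingOf O)
  have c : Cop U (Fit O) := (Pp.cop (pp_of_not_dvd fun d => by
    obtain ⟨X, x1, x2, x3⟩ := dvd_card_iff_exists.1 d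
    exact x3 (eq_bot_iff.2 (h ▸ le_Op_of_le_Fit x2 x1))) hU).symm
  have := le_Cz_of_fix hb (h1.trans n) (normalizer_le_normalizer_fittingOf O h2) (hO.of_le h1) (hO.of_le l)
    (nil_Fit O) c e (comm_eq_bot_left.1 (eq_bot_iff.2 ((le_inf (comm_le_right ((inf_le_inf_right _ l).trans h0))
      ((commutator_mono inf_le_left le_rfl).trans (comm_le_left (h1.trans n)))).trans c.inf_eq_bot.le)))
  exact eq_bot_iff.2 (h ▸ le_Op_of_le_Fit hU ((le_inf h1 this).trans (cent_Fit_le (OddS.sol hO))))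

/-- a `p`-subgroup `U = [U, b]` normalized by `C_O(b)` lies in `O_p(O)` -/
theorem key [Fact p.Prime] (hb : b * b = 1) (hO : OddS O) (h2 : b ∈ Nm(O)) (h1 : U ≤ O) (hU : IsPGroup p U)
    (e : ⁅U, zpowers b⁆ = U) (h0 : O ⊓ Cx(b) ≤ Nm(U)) : U ≤ Op p O := by
  have n := le_normalizer_pCoreOf (p := p) O
  let c : Nm(Op p O) := ⟨b, normalizer_le_normalizer_pCoreOf O h2⟩
  refine (qb_eq_bot_iff (h1.trans n)).1 (key_aux (b := nmQuot _ c)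
    (by rw [← map_mul]; exact nmQuot_eq_one_iff.2 (by simp [c, hb])) (hO.qb n)
    (zpowers_le.1 (qb_zpowers c ▸ qb_le_Nm (zpowers_le.2 h2))) (qb_mono h1) (isPGroup_qb hU)
    (by rw [← qb_zpowers, ← qb_commutator (h1.trans n) (zpowers_le.2 c.2), e]) ?_ (pCoreOf_qb_pCoreOf O))
  rw [← qb_Cx n h2 (cop2 (p2_zp hb) (hO.of_le inf_le_left))]
  exact qb_le_Nm h0

/-- the members -/
structure Mem (A Y : Subgroup G) : Prop where
  odd : OddS Y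
  nm : Cz(A) ≤ Nm(Y)

namespace Mem
variable (h : Mem A Y)
include h
theorem sol : Sol Y := OddS.sol h.odd
theorem char (h1 : X ≤ Y) (h2 : Nm(Y) ≤ Nm(X)) : Mem A X := ⟨h.odd.of_le h1, h.nm.trans h2⟩
theorem inf (h1 : Cz(A) ≤ Nm(X)) : Mem A (Y ⊓ X) := ⟨h.odd.of_le inf_le_left, nmI h.nm h1⟩
theorem op (p : ℕ) : Mem A (Op p Y) := h.char (pCoreOf_le Y) (normalizer_le_normalizer_pCoreOf Y)
theorem op' (p : ℕ) : Mem A (Op' p Y) := h.char (pPrimeCoreOf_le Y) (normalizer_le_normalizer_pPrimeCoreOf Y)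
theorem zc : Mem A Zc(Y) := h.char inf_le_left (Nm_le_Nm_Zc Y)
theorem infC (h1 : Mem A X) : Mem A (Y ⊓ Cz(X)) := h.inf (h1.nm.trans (Nm_le_Nm_Cz X))
theorem infN (h1 : Mem A X) : Mem A (Y ⊓ Nm(X)) := h.inf (h1.nm.trans (Nm_le_Nm_Nm X))
theorem infB (h1 : B ≤ A) : Mem A (Y ⊓ Cz(B)) := h.inf ((Cz_anti h1).trans le_normalizer)
theorem infx (h1 : b ∈ A) : Mem A (Y ⊓ Cx(b)) := h.inf ((Cz_le_Cx h1).trans le_normalizer)
theorem sup (h1 : Mem A X) (h2 : Y ≤ Nm(X)) : Mem A (Y ⊔ X) :=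
  ⟨odd2 (coprime_card_sup_of_le_normalizer (pp2 h.odd) (pp2 h1.odd) h2), nmS h.nm h1.nm⟩
theorem cj (hg : g ∈ Nm(A)) : Mem A (cj g Y) :=
  ⟨by rw [OddS, card_cj]; exact h.odd, by
    rw [← cj_normalizer, ← cj_eq_of_mem_normalizer (mem_Nm_Cz hg)]; exact cj_mono g h.nm⟩
end Mem

theorem mem_O (h : Cz(A) ≤ H) : Mem A (Op' 2 H) := ⟨odd_O H, h.trans (nm_O H)⟩

/-- maximal members -/
structure Mx (A Y : Subgroup G) : Prop extends Mem A Y where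
  max : ∀ X, Mem A X → Y ≤ X → X = Y

theorem Mem.exists_mx (h : Mem A X) : ∃ Y, Mx A Y ∧ X ≤ Y :=
  let ⟨Y, a, b, c⟩ := exists_maximal_ge (Mem A) h; ⟨Y, ⟨a, c⟩, b⟩

/-- the minimal counterexample with a minimal strongly closed elementary abelian subgroup -/
structure MC (A : Subgroup G) : Prop where
  simple : IsSimpleGroup G
  scl : SCl A ⊤
  ks : ∀ H : Subgroup G, H ≠ ⊤ → KS H
  three : ¬ 3 ∣ Nat.card G
  nc : ¬ IsMulCommutative G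
  irr : ∀ B, B ≤ A → Nm(A) ≤ Nm(B) → B = ⊥ ∨ B = A
  big : 8 ≤ Nat.card A

namespace MC
variable (h : MC A)
include h

theorem ne_bot : A ≠ ⊥ := fun e => by have := h.big; rw [e, card_bot] at this; omega
theorem ncyc : ¬ IsCyclic A := not_cyc h.scl.ab (by have := h.big; omega)
theorem cz : A ≤ Cz(A) := h.scl.cz
theorem sc (h1 : A ≤ H) : SCl A H := h.scl.mono h1 le_top
theorem Nm_ne (h1 : X ≠ ⊥) (h2 : X ≠ ⊤) : Nm(X) ≠ ⊤ := fun e =>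
  (h.simple.eq_bot_or_eq_top_of_normal X (normal_iff_top_le_Nm.2 e.ge)).elim h1 h2
theorem ne_top_of_sol (hX : Sol X) : X ≠ ⊤ := fun e => by
  subst e
  haveI := h.simple
  haveI := Group.isSolvable_of_surjective (f := (topEquiv (G := G)).toMonoidHom) topEquiv.surjective
  exact h.nc ⟨⟨IsSimpleGroup.comm_iff_isSolvable.2 inferInstance⟩⟩
theorem Nm_ne' (h1 : X ≠ ⊥) (h2 : Sol X) : Nm(X) ≠ ⊤ := h.Nm_ne h1 (h.ne_top_of_sol h2)
theorem Cx_ne (h1 : x ≠ 1) : Cx(x) ≠ ⊤ := fun e => h.Nm_ne' (zpowers_ne_bot' h1) (isSolvable_zpowers x)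
  (eq_top_iff.2 (e.ge.trans (Cz_zpowers x ▸ Cz_le_Nm _)))
theorem nmA (hY : Mem A Y) : A ≤ Nm(Y) := h.cz.trans hY.nm
theorem cop (hY : Mem A Y) : Cop A Y := cop2 h.scl.pA hY.odd
theorem comm (hY : Mem A Y) (h1 : B ≤ A) : Mem A ⁅Y, B⁆ :=
  ⟨hY.odd.of_le (comm_le_left (h1.trans (h.nmA hY))),
    CfH7.le_normalizer_commutator hY.nm ((Cz_anti h1).trans (Cz_le_Nm B))⟩
theorem comm2 (hY : Mem A Y) (h1 : B ≤ A) : ⁅⁅Y, B⁆, B⁆ = ⁅Y, B⁆ :=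
  commutator_commutator_eq (h1.trans (h.nmA hY)) ((h.cop hY).mono h1 le_rfl) (.inr hY.sol)

theorem loc (h1 : H ≠ ⊤) (h2 : Cz(A) ≤ H) (hY : Mem A Y) (h3 : Y ≤ H) : Y ≤ Op' 2 H :=
  (h.sc (h.cz.trans h2)).odd_le_O (h.ks H h1) h3 hY.odd (inf_le_right.trans hY.nm)
theorem locN (hX : Mem A X) (h1 : X ≠ ⊥) (hY : Mem A Y) (h3 : Y ≤ Nm(X)) : Y ≤ Op' 2 Nm(X) :=
  h.loc (h.Nm_ne' h1 hX.sol) hX.nm hY h3
theorem locC (ha : a ∈ A) (h1 : a ≠ 1) (hY : Mem A Y) : Y ⊓ Cx(a) ≤ Op' 2 Cx(a) :=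
  h.loc (h.Cx_ne h1) (Cz_le_Cx ha) (hY.infx ha) inf_le_right
theorem le_mx (hY : Mx A Y) (hX : Mem A X) (h1 : X ≠ ⊥) (h2 : Y ≤ Nm(X)) (hV : Mem A V) (h3 : V ≤ Nm(X)) : V ≤ Y :=
  hY.max _ (mem_O hX.nm) (h.locN hX h1 hY.1 h2) ▸ h.locN hX h1 hV h3

theorem hyp_card (hB : B ≤ A) (ha : a ∈ A) (e : A ≤ B ⊔ zpowers a) : ¬ IsCyclic B := by
  refine not_cyc (elemAb_of_le hB h.scl.ab) ?_
  have := hyp_index h.scl.ab hB ha e
  have := CfH9.card_mul_relIndex hB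
  have := h.big
  nlinarith

theorem sup_loc [Fact p.Prime] (hO : Mem A O) (h1 : Mem A X) (h2 : Mem A Y) (x1 : X ≤ O) (y1 : Y ≤ O)
    (x2 : IsPGroup p X) (y2 : IsPGroup p Y) : IsPGroup p (X ⊔ Y : Subgroup G) := by
  obtain ⟨S, a1, a2, a3⟩ := exists_invariant_sylIn_ge (h.nmA hO) (h.cop hO) (.inr hO.sol) x2 x1 (h.nmA h1)
  obtain ⟨T, b1, b2, b3⟩ := exists_invariant_sylIn_ge (h.nmA hO) (h.cop hO) (.inr hO.sol) y2 y1 (h.nmA h2)
  obtain ⟨c, hc, rfl⟩ := invariant_sylIn_conj (h.nmA hO) (h.cop hO) (.inr hO.sol) a1 b1 a2 b2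
  exact b1.pgrp.to_le (sup_le (cj_eq_of_mem_normalizer (h1.nm hc.2) ▸ cj_mono c a3) b3)

theorem exists_max_p [hp : Fact p.Prime] (h2 : p ≠ 2) :
    ∃ R, (Mem A R ∧ IsPGroup p R) ∧ ∀ X, Mem A X → IsPGroup p X → X ≤ R := by
  let P : Subgroup G → Prop := fun X => Mem A X ∧ IsPGroup p X
  have k : ∀ D X Y, (P X ∧ ∀ V, P V → X ≤ V → V = X) → (P Y ∧ ∀ V, P V → Y ≤ V → V = Y) → X ⊓ Y = D → X = Y := by
    intro D
    induction D using subgroup_induction_down with | _ D ih => ?_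
    rintro X Y hX hY rfl
    by_contra e
    have l1 : X ⊓ Y < X := inf_lt_left.2 fun l => e (hX.2 Y hY.1 l).symm
    have l2 : X ⊓ Y < Y := inf_lt_right.2 fun l => e (hY.2 X hX.1 l)
    have : ∃ O X' Y', Mem A O ∧ Mem A X' ∧ Mem A Y' ∧ X' ≤ O ∧ Y' ≤ O ∧ X' ≤ X ∧ Y' ≤ Y ∧ X ⊓ Y < X' ∧
        X ⊓ Y < Y' := by
      by_cases e0 : X ⊓ Y = ⊥
      · rw [e0] at l1 l2 ⊢
        have k : ∀ X, P X → ⊥ < X → ∃ B ≤ A, B.relIndex A ≤ 2 ∧ ⊥ < X ⊓ Cz(B) := fun X hX l => by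
          by_contra k
          exact l.not_ge (le_of_cocyclic h.scl.ab.1 (h.nmA hX.1) (h.cop hX.1) fun B hB ⟨a, ha, e⟩ =>
            (not_bot_lt_iff.1 fun e' => k ⟨B, hB, hyp_index h.scl.ab hB ha e, e'⟩).le)
        obtain ⟨B, b1, b2, b3⟩ := k X hX.1 l1
        obtain ⟨C, c1, c2, c3⟩ := k Y hY.1 l2
        obtain ⟨a, ha, a1⟩ := exists_ne_one_of_ne_bot (A := B ⊓ C) fun e => by
          have := relIndex_inf_le (H := B) (K := C) (L := A)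
          rw [e, relIndex_bot_left] at this
          have := h.big
          nlinarith
        exact ⟨_, _, _, mem_O (Cz_le_Cx (b1 ha.1)), hX.1.1.infx (b1 ha.1), hY.1.1.infx (b1 ha.1),
          h.locC (b1 ha.1) a1 hX.1.1, h.locC (b1 ha.1) a1 hY.1.1, inf_le_left, inf_le_left,
          b3.trans_le (inf_le_inf_left _ (Cz_le_Cx ha.1)), c3.trans_le (inf_le_inf_left _ (Cz_le_Cx ha.2))⟩
      · have m := hX.1.1.inf hY.1.1.nm
        exact ⟨_, _, _, mem_O m.nm, hX.1.1.infN m, hY.1.1.infN m, h.locN m e0 (hX.1.1.infN m) inf_le_right,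
          h.locN m e0 (hY.1.1.infN m) inf_le_right, inf_le_left, inf_le_left, lt_inf_Nm hX.1.2 l1,
          lt_inf_Nm hY.1.2 l2⟩
    obtain ⟨O, X', Y', a1, a2, a3, a4, a5, a6, a7, a8, a9⟩ := this
    have p := h.sup_loc a1 a2 a3 a4 a5 (hX.1.2.to_le a6) (hY.1.2.to_le a7)
    obtain ⟨V, v1, v2, v3⟩ := exists_maximal_ge P (A := X' ⊔ Y') ⟨⟨oddS_of_isPGroup h2 p, nmS a2.nm a3.nm⟩, p⟩
    exact e ((ih _ (CfH9.card_lt_of_lt (a8.trans_le (le_inf a6 (le_sup_left.trans v2)))) X V hX ⟨v1, v3⟩ rfl).trans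
      (ih _ (CfH9.card_lt_of_lt (a9.trans_le (le_inf a7 (le_sup_right.trans v2)))) Y V hY ⟨v1, v3⟩ rfl).symm)
  obtain ⟨R, r1, -, r2⟩ := exists_maximal_ge P (A := ⊥) ⟨⟨by simp [OddS], le_Nm_bot _⟩, IsPGroup.of_bot⟩
  refine ⟨R, r1, fun X x1 x2 => ?_⟩
  obtain ⟨V, v1, v2, v3⟩ := exists_maximal_ge P (A := X) ⟨x1, x2⟩
  exact k _ V R ⟨v1, v3⟩ ⟨r1, r2⟩ rfl ▸ v2

theorem complete_of_mx (ha : a ∈ A) (a1 : a ≠ 1) (hY : Mx A (Op' 2 Cx(a))) (hX : Mem A X) : X ≤ Op' 2 Cx(a) := by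
  have k : A ≤ Cz(Op' 2 Cx(a)) := le_trans (le_inf le_rfl (le_Cz_comm (Fit_le_iff.2 fun p hp => ?_)))
    (coprime_cent_Fit (h.nmA hY.1) (h.cop hY.1) hY.1.sol)
  · exact le_of_noncyclic h.scl.ab.1 (h.nmA hX) (h.cop hX) h.ncyc fun b hb b1 => (h.locC hb b1 hX).trans
      (hY.max _ (mem_O (Cz_le_Cx hb)) ((le_inf le_rfl (le_Cx_iff.2 (k hb))).trans (h.locC hb b1 hY.1))).le
  haveI := Fact.mk hp
  by_cases e : Op p (Op' 2 Cx(a)) = ⊥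
  · rw [e]; exact bot_le
  have h2 : p ≠ 2 := (hY.1.op p).odd.ne_two (dvd_card_of_ne_bot (isPGroup_pCoreOf _) e)
  obtain ⟨R, ⟨r1, r2⟩, r3⟩ := h.exists_max_p h2
  have l := r3 _ (hY.1.op p) (isPGroup_pCoreOf _)
  have c := comm_eq_bot_right.1 (thompson_AxB r2 (isPGroup_pCoreOf (Op' 2 Cx(a)))
    (pp_of_isPGroup h2.symm (p2_zp (h.scl.sq ha))) (l.trans le_normalizer) (zpowers_le.2 (h.nmA r1 ha))
    (comm_eq_bot_left.2 (Cz_zpowers a ▸ (pCoreOf_le _).trans (O_le _))) (comm_eq_bot_left.2 (Cz_zpowers a ▸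
      (h.le_mx hY (hY.1.op p) e (le_normalizer_pCoreOf _) (r1.infC (hY.1.op p))
        (inf_le_right.trans (Cz_le_Nm _))).trans (O_le _))))
  refine l.trans (le_Cz_comm (inf_eq_left.1 ((h.irr _ inf_le_left (nmI le_rfl fun g hg => mem_Nm_Cz
    (mem_normalizer_of_cj_le (r3 _ (r1.cj hg) (isPGroup_cj r2 g))))).resolve_left
    (ne_bot_of_mem (mi ha (zpowers_le.1 c)) a1))))

end MC

end CfH5.S3
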