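import Cfsg.Agent.S3.F

/-! The subgroups of odd order normalized by `C(A)` generate a subgroup of odd order. -/

set_option autoImplicit false
set_option linter.unusedSectionVars false

namespace CfH5.S3

open Cfsg CfH9 CfH7 CfH8 CfH1 CfFT Subgroup
open T3 (nmI nmS pp2 odd2)
open scoped commutatorElement IsMulCommutative

universe u

variable {G : Type u} [Group G] [Finite G] {A B C H K L M N O P Q R T U V W X Y Y' Z D : Subgroup G}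
  {a b g t w x y z : G} {n p r s : ℕ}

theorem Op_le_Op' [Fact p.Prime] [Fact s.Prime] (h : p ≠ s) (Y : Subgroup G) : Op p Y ≤ Op' s Y :=
  le_pPrimeCoreOf (pCoreOf_le Y) (le_normalizer_pCoreOf Y) (pp_of_isPGroup h (isPGroup_pCoreOf Y))
theorem Op'_le_Cz [Fact p.Prime] (Y : Subgroup G) : Op' p Y ≤ Cz(Op p Y) :=
  pPrimeCoreOf_le_Cz (isPGroup_pCoreOf Y) (pCoreOf_le Y) (le_normalizer_pCoreOf Y)
theorem Zc_ne_bot [Fact p.Prime] (hP : IsPGroup p P) (h : P ≠ ⊥) : Zc(P) ≠ ⊥ :=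
  CfH9.inf_Cz_ne_bot hP hP le_normalizer h
theorem nm_ZOp (p : ℕ) (Y : Subgroup G) : Y ≤ Nm(Zc(Op p Y)) := (le_normalizer_pCoreOf Y).trans (Nm_le_Nm_Zc _)

structure TI (A : Subgroup G) (b : G) (p : ℕ) (U Y : Subgroup G) : Prop where
  mem : Mem A U
  pg : IsPGroup p U
  ne : U ≠ ⊥
  cm : ⁅U, zpowers b⁆ = U
  nm : Op' 2 Cx(b) ≤ Nm(U)
  mx : Mx A Y
  le : Op' 2 Nm(U) ≤ Y
  cz : Op p Y ⊓ Cx(b) ≤ Cz(U)

namespace MC
variable (h : MC A)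
include h

theorem tr0 [Fact s.Prime] (hY : Mx A Y) (hY' : Mem A Y') (h1 : Op s Y ≠ ⊥) (h2 : Zc(Op s Y) ≤ Y') :
    Y' ⊓ Op' s Y ≤ Op' s Y' :=
  have m := (hY.1.op s).zc
  (le_inf (le_inf inf_le_left (inf_le_right.trans ((pPrimeCoreOf_le Y).trans (nm_ZOp s Y)))) inf_le_right).trans
    ((inf_pPrimeCoreOf_le (h.le_mx hY m (Zc_ne_bot (isPGroup_pCoreOf Y) h1) (nm_ZOp s Y) (hY'.infN m)
      inf_le_right)).trans (Op'_norm_pgrp hY'.sol ((isPGroup_pCoreOf Y).to_le inf_le_left) h2))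

theorem tr1 [Fact s.Prime] (hY : Mx A Y) (hY' : Mem A Y') (h0 : X ≠ ⊥) (h1 : X ≤ Op s Y) (h2 : Y ⊓ Cz(X) ≤ Y') :
    Op' s Y ≤ Op' s Y' :=
  (le_inf ((le_inf (pPrimeCoreOf_le Y) ((Op'_le_Cz Y).trans (Cz_anti h1))).trans h2) le_rfl).trans
    (h.tr0 hY hY' (ne_bot_of_le h1 h0) ((inf_le_inf (pCoreOf_le Y) (Cz_anti h1)).trans h2))

theorem eq_mx (hY : Mx A Y) (hY' : Mx A Y') (hX : Mem A X) (h1 : X ≠ ⊥) (h2 : Y ≤ Nm(X)) (h3 : Y' ≤ Nm(X)) :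
    Y' = Y := (hY'.max _ hY.1 (h.le_mx hY hX h1 h2 hY'.1 h3)).symm

theorem ti_le [Fact p.Prime] (hb : b ∈ A) (b1 : b ≠ 1) (t : TI A b p U Y) (hY' : Mem A Y') (h1 : U ≤ Y') :
    U ≤ Op p Y' :=
  key (h.scl.sq hb) hY'.odd (h.nmA hY' hb) h1 t.pg t.cm ((h.locC hb b1 hY').trans t.nm)

theorem ti_le' (t : TI A b p U Y) (hV : Mem A V) (h1 : V ≤ Nm(U)) : V ≤ Y := (h.locN t.mem t.ne hV h1).trans t.le

theorem ti_tr [Fact p.Prime] (hb : b ∈ A) (b1 : b ≠ 1) (t : TI A b p U Y) (hY' : Mx A Y') (h1 : U ≤ Y') :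
    Op' p Y' ≤ Op' p Y :=
  h.tr1 hY' t.mx.1 t.ne (h.ti_le hb b1 t hY'.1 h1) (h.ti_le' t (hY'.1.infC t.mem) (inf_le_right.trans (Cz_le_Nm _)))

theorem ti_zj [Fact p.Prime] (hb : b ∈ A) (b1 : b ≠ 1) (t : TI A b p U Y) (h0 : Op' p Y = ⊥) (D : Subgroup G) :
    ∀ Y', Mx A Y' → U ≤ Y' → Zc(Op p Y) ≤ Y' → Y ⊓ Y' = D → Y' = Y := by
  induction D using subgroup_induction_down with | _ D ih => ?_
  rintro Y' hY' h1 h2 rfl
  have uY := h.ti_le' t t.mem le_normalizer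
  have m := t.mx.1.inf hY'.nm
  have m1 := (t.mx.1.op p).zc
  have e : Op' p (Y ⊓ Y') = ⊥ := by
    rw [show Y ⊓ Y' = Y' ⊓ Nm(Zc(Op p Y)) from le_antisymm (le_inf inf_le_right (inf_le_left.trans (nm_ZOp p Y)))
      (le_inf (h.le_mx t.mx m1 (Zc_ne_bot (isPGroup_pCoreOf Y) (ne_bot_of_le (h.ti_le hb b1 t t.mx.1 uY) t.ne))
        (nm_ZOp p Y) (hY'.1.infN m1) inf_le_right) inf_le_left)]
    exact eq_bot_iff.2 ((Op'_norm_pgrp hY'.sol ((isPGroup_pCoreOf Y).to_le inf_le_left) h2).trans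
      ((h.ti_tr hb b1 t hY' h1).trans h0.le))
  obtain ⟨P, hP, hU⟩ := exists_sylIn_ge t.pg (le_inf uY h1)
  have j1 := zj_normal' m.sol m.odd hP e
  have j2 : Mem A (ZJ 0 P) := ⟨m.odd.of_le ((ZJ_le P).trans hP.le), fun c hc => by
    obtain ⟨x, hx, y, hy, rfl⟩ := hP.frattini (m.nm hc)
    exact mul_mem (j1 hx) (Nm_le_Nm_ZJ P hy)⟩
  have j3 : ZJ 0 P ≠ ⊥ := ZJ_ne_bot (dvd_zero p) hP.pgrp (ne_bot_of_le hU t.ne)
  have k : Y' ⊓ Nm(ZJ 0 P) ≤ Y := by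
    by_cases e1 : Y ⊓ Nm(P) ≤ Y ⊓ Y'
    · exact h.le_mx t.mx j2 j3 (zj_normal' t.mx.sol t.mx.odd (hP.of_Nm_le inf_le_left e1) h0) (hY'.1.infN j2)
        inf_le_right
    obtain ⟨V, v1, v2⟩ := (mem_O j2.nm).exists_mx
    have l := (h.locN j2 j3 m j1).trans v2
    exact ih _ (CfH9.card_lt_of_lt (lt_of_le_not_ge (le_inf inf_le_left l) fun e2 => e1
      ((le_inf inf_le_left ((inf_le_inf_left _ (Nm_le_Nm_ZJ P)).trans ((h.locN j2 j3 (t.mx.1.infN j2)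
        inf_le_right).trans v2))).trans e2))) V v1 ((le_inf uY h1).trans l)
      ((le_inf (inf_le_left.trans (pCoreOf_le Y)) h2).trans l) rfl ▸ (h.locN j2 j3 (hY'.1.infN j2) inf_le_right).trans v2
  exact (hY'.max _ t.mx.1 ((le_inf le_rfl (zj_normal' hY'.sol hY'.odd (hP.of_Nm_le inf_le_right (le_inf
    ((inf_le_inf_left _ (Nm_le_Nm_ZJ P)).trans k) inf_le_left))
    (eq_bot_iff.2 ((h.ti_tr hb b1 t hY' h1).trans h0.le)))).trans k)).symm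

theorem ti_uniq [Fact p.Prime] [Fact s.Prime] (hb : b ∈ A) (b1 : b ≠ 1) (t : TI A b p U Y) (h0 : X ≠ ⊥)
    (h1 : X ≤ Op s Y ⊓ Cx(b)) (hY' : Mx A Y') (h2 : Y ⊓ Cz(X) ≤ Y') : Y' = Y := by
  have uY := h.ti_le' t t.mem le_normalizer
  have u1 := h.ti_le hb b1 t t.mx.1 uY
  have x1 := h1.trans inf_le_left
  have t1 := h.tr1 t.mx hY'.1 h0 x1 h2
  have z1 : Zc(Op s Y) ≤ Y' := (inf_le_inf (pCoreOf_le Y) (Cz_anti x1)).trans h2
  have fin : Op' p Y ≤ Op' p Y' → U ≤ Y' → Op' p Y ≠ ⊥ → Y' = Y := fun a b c =>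
    h.eq_mx t.mx hY' (t.mx.1.op' p) c (le_normalizer_pPrimeCoreOf Y)
      (le_antisymm a (h.ti_tr hb b1 t hY' b) ▸ le_normalizer_pPrimeCoreOf Y')
  obtain rfl | e := eq_or_ne s p
  · have u2 := (le_inf uY (le_Cz_comm (h1.trans t.cz))).trans h2
    by_cases e : Op' s Y = ⊥
    · exact h.ti_zj hb b1 t e _ Y' hY' u2 z1 rfl
    · exact fin t1 u2 e
  have l1 := (Op_le_Op' e.symm Y).trans (t1.trans (pPrimeCoreOf_le Y'))
  have u2 := u1.trans l1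
  have t2 := h.ti_tr hb b1 t hY' u2
  have m := (t.mx.1.op s).zc
  have pz : IsPGroup s Zc(Op s Y) := (isPGroup_pCoreOf Y).to_le inf_le_left
  have z2 : Zc(Op s Y) ≠ ⊥ := Zc_ne_bot (isPGroup_pCoreOf Y) (ne_bot_of_le x1 h0)
  have z3 : Zc(Op s Y) ≤ Cz(Op p Y) := inf_le_left.trans ((Op_le_Op' e Y).trans (Op'_le_Cz Y))
  have n' := le_normalizer_pCoreOf (p := p) Y'
  have c1 : Op p Y' ≤ Cz(Zc(Op s Y)) := comm_eq_bot_left.1 (thompson_AxB (isPGroup_pCoreOf Y') (isPGroup_pCoreOf Y)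
    (pp_of_isPGroup e pz) (l1.trans n') (z1.trans n') (comm_eq_bot_right.2 z3) (comm_eq_bot_left.2 (le_Cz_of_Nm
      ((h.ti_le' t ((hY'.1.op p).infC (t.mx.1.op p)) (inf_le_right.trans ((Cz_anti u1).trans (Cz_le_Nm _)))).trans
        (nm_ZOp s Y)) (nmI (z1.trans n') (z3.trans le_normalizer))
      (cop_of_isPGroup e.symm ((isPGroup_pCoreOf Y').to_le inf_le_left) pz).inf_eq_bot)))
  have c2 := h.le_mx t.mx m z2 (nm_ZOp s Y) (hY'.1.op p) (c1.trans (Cz_le_Nm _))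
  have c3 : Op s Y' ≠ ⊥ := fun e' => z2 (eq_bot_iff.2 (e' ▸ le_Op_of_le_Fit pz ((le_inf z1 (le_Cz_comm
    (Fit_le_iff.2 fun r hr => by
      haveI := Fact.mk hr
      obtain rfl | e1 := eq_or_ne r p
      · exact c1
      obtain rfl | e2 := eq_or_ne r s
      · exact e'.le.trans bot_le
      exact le_Cz_of_Nm ((Op_le_Op' e1 Y').trans (t2.trans ((pPrimeCoreOf_le Y).trans (nm_ZOp s Y))))
        (z1.trans (le_normalizer_pCoreOf Y')) (cop_of_isPGroup e2 (isPGroup_pCoreOf Y') pz).inf_eq_bot))).trans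
      (cent_Fit_le hY'.sol))))
  have c4 := (le_inf c2 (Op_le_Op' e.symm Y')).trans (h.tr0 hY' t.mx.1 c3
    (inf_le_left.trans ((Op_le_Op' e Y').trans (t2.trans (pPrimeCoreOf_le Y)))))
  have c5 : Op p Y' ≤ Op p Y := (le_pCoreOf c4 (t1.trans ((pPrimeCoreOf_le Y').trans n')) (isPGroup_pCoreOf Y')).trans
    (pCoreOf_le_pCoreOf_of_normal (pPrimeCoreOf_le Y) (le_normalizer_pPrimeCoreOf Y))
  have c6 := ne_bot_of_le (h.ti_le hb b1 t hY'.1 u2) t.ne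
  exact fin (h.tr1 t.mx hY'.1 c6 c5 (h.le_mx hY' (hY'.1.op p) c6 n' (t.mx.1.infC (hY'.1.op p))
    (inf_le_right.trans (Cz_le_Nm _)))) u2 (ne_bot_of_le (x1.trans (Op_le_Op' e Y)) h0)

theorem exists_ti (hb : b ∈ A) (b1 : b ≠ 1) (hn : ¬ Mx A (Op' 2 Cx(b))) : ∃ p U Y, p.Prime ∧ TI A b p U Y := by
  have zb := zpowers_le.2 hb
  have nb : Op' 2 Cx(b) ≤ Nm(zpowers b) := (O_le _).trans (Cz_zpowers b ▸ Cz_le_Nm _)
  obtain ⟨Y, y1, y2⟩ := (mem_O (Cz_le_Cx hb)).exists_mx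
  obtain ⟨p, hp, e⟩ : ∃ p : ℕ, p.Prime ∧ ¬ Op p Y ≤ Cz(zpowers b) := by
    by_contra! k
    refine hn (le_antisymm ((le_inf le_rfl ?_).trans (h.locC hb b1 y1.1)) y2 ▸ y1)
    exact Cz_zpowers b ▸ le_Cz_comm ((le_inf le_rfl (le_Cz_comm (Fit_le_iff.2 k))).trans
      (coprime_cent_Fit (zb.trans (h.nmA y1.1)) ((h.cop y1.1).mono zb le_rfl) y1.sol))
  haveI := Fact.mk hp
  obtain ⟨U, ⟨u1, u2, u3, u4, u5⟩, -, u6⟩ := exists_minimal_le (fun U => Mem A U ∧ IsPGroup p U ∧ U ≠ ⊥ ∧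
      ⁅U, zpowers b⁆ = U ∧ Op' 2 Cx(b) ≤ Nm(U)) (A := ⁅Op p Y, zpowers b⁆)
    ⟨h.comm (y1.1.op p) zb, (isPGroup_pCoreOf Y).to_le (comm_le_left (zb.trans (h.nmA (y1.1.op p)))),
      fun e' => e (comm_eq_bot_left.1 e'), h.comm2 (y1.1.op p) zb,
      CfH7.le_normalizer_commutator (y2.trans (le_normalizer_pCoreOf Y)) nb⟩
  obtain ⟨V, v1, v2⟩ := (mem_O u1.nm).exists_mx
  refine ⟨p, U, V, hp, u1, u2, u3, u4, u5, v1, v2, ?_⟩
  have m := (v1.1.op p).infx hb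
  have m' := u1.infC m
  have l : ⁅U ⊓ Cz(Op p V ⊓ Cx(b)), zpowers b⁆ ≤ U ⊓ Cz(Op p V ⊓ Cx(b)) := comm_le_left (zb.trans (h.nmA m'))
  refine le_Cz_comm ((u6 _ ⟨h.comm m' zb, u2.to_le (l.trans inf_le_left), fun e' => u3 ?_, h.comm2 m' zb,
    CfH7.le_normalizer_commutator (nmI u5 ((nmI (((h.locN u1 u3 (mem_O (Cz_le_Cx hb)) u5).trans v2).trans
      (le_normalizer_pCoreOf V)) ((O_le _).trans le_normalizer)).trans (Nm_le_Nm_Cz _))) nb⟩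
    (l.trans inf_le_left)).ge.trans (l.trans inf_le_right))
  exact u4 ▸ thompson_AxB u2 ((isPGroup_pCoreOf V).to_le inf_le_left)
    (pp_of_isPGroup (u1.odd.ne_two (dvd_card_of_ne_bot u2 u3)).symm (p2_zp (h.scl.sq hb)))
    (((inf_le_inf_right _ (pCoreOf_le V)).trans (h.locC hb b1 v1.1)).trans u5) (zb.trans (h.nmA u1))
    (comm_eq_bot_left.2 (Cz_zpowers b ▸ inf_le_right)) e'

theorem complete : ∃ W, Mem A W ∧ ∀ X, Mem A X → X ≤ W := by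
  by_cases e : ∃ a ∈ A, a ≠ 1 ∧ Mx A (Op' 2 Cx(a))
  · obtain ⟨a, ha, a1, e⟩ := e
    exact ⟨_, e.1, fun X => h.complete_of_mx ha a1 e⟩
  push Not at e
  obtain ⟨a, ha, a1⟩ := exists_ne_one_of_ne_bot h.ne_bot
  obtain ⟨p, U, Y, hp, t⟩ := h.exists_ti ha a1 (e a ha a1)
  haveI := Fact.mk hp
  have za := zpowers_le.2 ha
  have m := t.mx.1.op p
  obtain ⟨B, hB, ⟨c, hc, e1⟩, e2⟩ : ∃ B ≤ A, (∃ c ∈ A, A ≤ B ⊔ zpowers c) ∧ ¬ Op p Y ⊓ Cz(B) ≤ Cz(zpowers a) := by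
    by_contra! k
    exact t.ne (t.cm ▸ comm_eq_bot_left.2 ((h.ti_le ha a1 t t.mx.1 (h.ti_le' t t.mem le_normalizer)).trans
      (le_of_cocyclic h.scl.ab.1 (h.nmA m) (h.cop m) k)))
  have x1 := h.comm (m.infB hB) za
  have x2 : ⁅Op p Y ⊓ Cz(B), zpowers a⁆ ≠ ⊥ := fun e => e2 (comm_eq_bot_left.1 e)
  have x3 := comm_le_left (za.trans (h.nmA (m.infB hB)))
  obtain ⟨W, w1, w2⟩ := (mem_O x1.nm).exists_mx
  refine ⟨W, w1.1, fun X hX => le_of_noncyclic (comm_of_le hB h.scl.ab.1) (hB.trans (h.nmA hX))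
    ((h.cop hX).mono hB le_rfl) (h.hyp_card hB hc e1) fun b hb b1 => (h.locC (hB hb) b1 hX).trans ?_⟩
  obtain ⟨q, V, Z, hq, t'⟩ := h.exists_ti (hB hb) b1 (e b (hB hb) b1)
  haveI := Fact.mk hq
  have l := h.ti_le' t' (mem_O (Cz_le_Cx (hB hb))) t'.nm
  have m' := m.inf t'.mx.nm
  have l' := comm_le_left (za.trans (h.nmA m'))
  rw [h.ti_uniq (s := p) (hB hb) b1 t' x2 (le_inf (le_trans (commutator_mono (le_inf inf_le_left
    ((inf_le_inf_left _ (Cz_le_Cx hb)).trans ((h.locC (hB hb) b1 m).trans l))) le_rfl)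
    (key (h.scl.sq ha) t'.mx.odd (h.nmA t'.mx.1 ha) (l'.trans inf_le_right)
      ((isPGroup_pCoreOf Y).to_le (l'.trans inf_le_left)) (h.comm2 m' za) (CfH7.le_normalizer_commutator
        (nmI (((h.locC ha a1 t'.mx.1).trans (h.ti_le' t (mem_O (Cz_le_Cx ha)) t.nm)).trans (le_normalizer_pCoreOf Y))
          (inf_le_left.trans le_normalizer)) (inf_le_right.trans (Cz_zpowers a ▸ Cz_le_Nm _)))))
    (x3.trans (inf_le_right.trans (Cz_le_Cx hb)))) w1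
    ((h.locN x1 x2 (t'.mx.1.infC x1) (inf_le_right.trans (Cz_le_Nm _))).trans w2)]
  exact l

end MC

end CfH5.S3
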