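import Cfsg.Agent.S3.G
import Cfsg.Agent.H1.DatV

/-! The components of the centralizers of the involutions of `A`. -/

set_option autoImplicit false
set_option linter.unusedSectionVars false

namespace CfH5.S3

open Cfsg CfH9 CfH7 CfH8 CfH1 CfFT Subgroup
open T3 (nmI nmS pp2 odd2)
open scoped commutatorElement IsMulCommutative

universe u

variable {G : Type u} [Group G] [Finite G] {A B C H K L L' M N O P Q R T U V W X Y Y' Z D : Subgroup G}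
  {a b g l t u w x y z : G} {n p r s : ℕ}

theorem ncard_cls (K : Subgroup G) (x : G) : {y | ∃ g ∈ K, g * x * g⁻¹ = y}.ncard = (Cx(x)).relIndex K := by
  letI : MulAction K G := MulAction.compHom G ((MulAut.conj (G := G)).comp K.subtype)
  have e : MulAction.stabilizer K x = (Cx(x)).subgroupOf K := by ext g; exact mem_Cx'.symm
  rw [relIndex, ← e, MulAction.index_stabilizer]
  congr 1; ext y
  exact ⟨fun ⟨g, a, b⟩ => ⟨⟨g, a⟩, b⟩, fun ⟨g, b⟩ => ⟨g, g.2, b⟩⟩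

theorem inv_dvd {X Y : Type*} [Group X] [Group Y] (h : Involves X Y) : Nat.card X ∣ Nat.card Y := by
  obtain ⟨K, π, hπ⟩ := involves_iff.1 h
  exact (card_dvd_of_surjective π hπ).trans (card_subgroup_dvd_card K)

theorem KS.ck {G' : Type u} [Group G'] [Finite G'] (h : KS H) (e : Nat.card G' ∣ Nat.card H) : CK G' :=
  fun K _ X _ f hf _ hc _ => by
    haveI := Finite.of_surjective f hf
    have d := (card_dvd_of_surjective f hf).trans ((card_subgroup_dvd_card K).trans e)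
    exact .inl (exists_szF (h.2 X (Nat.le_of_dvd Nat.card_pos d) hc fun d' => h.1 (d'.trans d)))

theorem cx_of (e : l⁻¹ * g ∈ Cz(L)) (hx : x ∈ L) (h : g ∈ Cx(x)) : l ∈ Cx(x) := by
  simpa using mul_mem h (inv_mem (Cz_le_Cx hx e))

theorem SzQ.cit' (h : SzQ L Q Z D w n) (hg : g ∈ L) (hz : z ∈ Z) (z1 : z ∉ Cz(L)) (e : g ∈ Cx(z)) : g ∈ Q :=
  h.cit g hg z hz z1 (by rw [mem_Cx'.1 e]; simp)

theorem sq_mod (hl : l ∈ L) (e : l⁻¹ * g ∈ Cz(L)) : (l * l)⁻¹ * (g * g) ∈ Cz(L) := by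
  have := mul_mem (conj_mem_of_mem_normalizer' (mem_Nm_Cz (le_normalizer hl)) e) e
  convert this using 1; group

theorem SzQ.inv_inner (h : SzQ L Q Z D w n) (hg : g ∈ Nm(L)) (g2 : g * g = 1) (hu : u ∈ Z) (u1 : u ∉ Cz(L))
    (e : g ∈ Cx(u)) : ∃ z ∈ Z, z⁻¹ * g ∈ Cz(L) := by
  obtain ⟨l, hl, e'⟩ := h.inner g hg 1 (one_mem _) (by simp [g2])
  exact ⟨l, h.inv l hl (le_normalizer (h.cit' hl hu u1 (cx_of e' (h.ZL' hu) e)))
    (by simpa [g2] using inv_mem (sq_mod hl e')), e'⟩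

theorem SzQ.exists_D (h : SzQ L Q Z D w n) : ∃ d ∈ D, d ≠ 1 := by
  obtain ⟨z, hz, z1, -⟩ := h.outZ 1
  obtain ⟨d, hd, e⟩ := h.moves hz z1
  exact ⟨d, hd, by rintro rfl; simp at e⟩

theorem SzQ.sqrt (h : SzQ L Q Z D w n) (h0 : Zc(L) = ⊥) (hz : z ∈ Z) (z1 : z ∉ Cz(L)) : ∃ x ∈ Q, x * x = z := by
  obtain ⟨x, hx, x1, -⟩ := h.outQ 1 1 1
  obtain ⟨d, hd, e⟩ := h.trans _ (h.sq x hx) (h.sq_not hx x1) z hz z1
  have := conj_mem_of_mem_normalizer (h.HL hd).2 hx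
  rw [← conj_mul] at e
  exact ⟨_, this, mul_inv_eq_one.1 (mem_bot.1 (h0 ▸ mi (mul_mem (h.QL (mul_mem this this)) (inv_mem (h.ZL' hz))) e))⟩

theorem CD.mem_Cz (c : CD A L Q Z D w n) (hn : ¬ A ≤ Cz(L)) (hx : x ∈ L) (e : x ∈ Cz(A ⊓ L)) : x ∈ Cz(A) :=
  le_Cx_iff.1 fun a ha => by
    obtain ⟨u, hu, e'⟩ := c.split hn ha
    simpa using mul_mem (le_Cx_iff.2 e hu) (Cz_le_Cx hx e'.2)

/-- the simple components -/
structure SD' (A L Q D : Subgroup G) (w : G) (n : ℕ) : Prop extends CD A L Q (A ⊓ L) D w n where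
  nc : ¬ A ≤ Cz(L)
  zc : Zc(L) = ⊥
  qc : Q ≤ Cz(A)

theorem SD'.eq_one (c : SD' A L Q D w n) (h1 : x ∈ L) (h2 : x ∈ Cz(L)) : x = 1 := mem_bot.1 (c.zc ▸ mi h1 h2)
theorem SD'.not_mem (c : SD' A L Q D w n) (h1 : x ∈ L) (h2 : x ≠ 1) : x ∉ Cz(L) := fun e => h2 (c.eq_one h1 e)
theorem SD'.exists_ne (c : SD' A L Q D w n) : ∃ u ∈ A ⊓ L, u ≠ 1 :=
  let ⟨u, hu, e, _⟩ := c.outZ 1; ⟨u, hu, fun e' => e (e' ▸ one_mem _)⟩
theorem SD'.card (c : SD' A L Q D w n) : Nat.card (A ⊓ L : Subgroup G) = 2 ^ n := by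
  rw [← c.cardZ, ← inf_relIndex_right, ← relIndex_bot_left]
  congr 1
  exact (eq_bot_iff.2 fun x hx => c.eq_one hx.2.2 hx.1).symm
theorem SD'.odd_eq_one (c : SD' A L Q D w n) (hx : x ∈ L) (ho : Odd (orderOf x)) (hu : u ∈ A ⊓ L) (u1 : u ≠ 1)
    (e : x ∈ Cx(u)) : x = 1 := eq_one_of_odd' ho c.syl.pgrp (c.cit' hx hu (c.not_mem hu.2 u1) e)
theorem SD'.w_nm (c : SD' A L Q D w n) (hd : x ∈ D) : w * x * w⁻¹ = x⁻¹ :=
  eq_inv_of_mul_eq_one_left (c.eq_one (mul_mem (mul_mem (mul_mem c.wL (c.DL hd)) (inv_mem c.wL)) (c.DL hd))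
    (c.wH x hd))
theorem SD'.w_w (c : SD' A L Q D w n) : w * w = 1 := c.eq_one (mul_mem c.wL c.wL) c.ww

theorem CD.sd (c : CD A L Q Z D w n) (hA : EAb 2 A) (hn : ¬ A ≤ Cz(L)) (h : Q ≤ Cz(A)) : SD' A L Q D w n := by
  have e := c.center_bot (elemAb_of_le inf_le_left hA) c.AZ (c.cov hn) (h.trans (Cz_anti inf_le_left))
    (nmI (c.HL.trans c.nA) (c.DL.trans le_normalizer))
  obtain rfl : Z = A ⊓ L := le_antisymm (fun z hz => by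
    obtain ⟨a, ha, e'⟩ := c.cov hn z hz
    have := mi (mul_mem (inv_mem (mi2 ha)) (c.ZL' hz)) e'
    rw [e, mem_bot, inv_mul_eq_one] at this
    exact this ▸ ha) c.AZ
  exact ⟨c, hn, e, h⟩

/-- components of centralizers of involutions of `A` not centralized by `A` -/
def LL (A L : Subgroup G) : Prop := ¬ A ≤ Cz(L) ∧ ∃ a ∈ A, a ≠ 1 ∧ Cp L Cx(a)

theorem LL.cj (h : LL A L) (hg : g ∈ Nm(A)) : LL A (cj g L) := by
  obtain ⟨h1, a, ha, a1, h2⟩ := h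
  refine ⟨by rwa [← cj_centralizer, ← cj_eq_of_mem_normalizer hg, cj_le_cj_iff], _, conj_mem_of_mem_normalizer hg ha,
    by simpa using a1, cj_Cx g a ▸ h2.sn.map _, qs_map_of_injective h2.qs (MulAut.conj g).injective⟩

namespace MC
variable (h : MC A)
include h

theorem NmA_ne : Nm(A) ≠ ⊤ := h.Nm_ne' h.ne_bot (sol_of_isPGroup h.scl.pA)

theorem off (h1 : Q ≤ Nm(A)) (h2 : ⁅Q, Q⁆ ≤ Cz(A)) (h3 : ∀ x ∈ Q, x ^ 2 ∈ Cz(A)) :
    (Cz(A)).relIndex Q ^ 2 ≤ (Cz(Q)).relIndex A := by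
  have k := h.ks _ h.NmA_ne
  have d := card_hb_dvd (V := A) le_rfl
  have := (offender_bound (elemAb_hv h.scl.ab) (hb_le_Nm_hv_self Nm(A)) (hb_faithful _)
    (pCoreOf_eq_bot_iff.1 (pCoreOf_hb_eq_bot le_rfl fun N a b c => le_Cz_comm (inf_eq_left.1
      ((h.irr _ inf_le_left (nmI le_rfl (b.trans (Nm_le_Nm_Cz N)))).resolve_left
        (inf_Cz_ne_bot_of_pResidualOf_le h.scl.pA a c h.ne_bot)))))
    (fun e => k.1 ((show 3 ∣ Nat.card (DihedralGroup 3) by rw [DihedralGroup.nat_card]; norm_num).trans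
      ((inv_dvd e).trans d))) (k.ck d) _ (hb_mono h1) ⟨ab_iff_comm.2 (by
        rw [← hb_commutator h1 h1, hb_eq_bot_iff ((der_le Q).trans h1)]; exact h2), fun x hx => by
      obtain ⟨g, hg, rfl⟩ := mem_hb.1 hx
      rw [← map_pow, holA_eq_one_iff]; exact h3 g hg⟩).1
  rwa [card_hb h1, ← hv_inf_Cz h1, hv, hv, relIndex_map_map_of_injective _ _ holV_injective,
    relIndex_subgroupOf le_rfl, inf_relIndex_left] at this

theorem sd (c : CD A L Q Z D w n) (hn : ¬ A ≤ Cz(L)) : SD' A L Q D w n := by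
  refine c.sd h.scl.ab hn ?_
  have k : Z ≤ Cz(A) := fun z hz => c.mem_Cz hn (c.ZL' hz) (by
    obtain ⟨a, ha, e⟩ := c.cov hn z hz
    simpa using mul_mem (Cz_anti inf_le_left (h.cz ha.1)) (Cz_anti inf_le_right e))
  by_contra e
  have := h.off ((le_inf c.QL le_normalizer).trans c.nA) (commutator_le.2 fun x hx y hy => k (c.der x hx y hy))
    fun x hx => k (pow_two x ▸ c.sq x hx)
  have e1 : (Cz(A)).relIndex Q = 2 ^ n := by
    rw [← c.cardQ, ← inf_relIndex_right]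
    congr 1
    refine le_antisymm (fun x hx => ?_) (le_inf k c.ZQ)
    by_contra x1
    refine e fun y hy => ?_
    by_cases y1 : y ∈ Z
    · exact k y1
    obtain ⟨d, hd, e'⟩ := c.transQ hx.2 x1 hy y1
    simpa [mul_assoc] using mul_mem (inv_mem (k e')) (conj_mem_of_mem_normalizer (mem_Nm_Cz (c.nA (c.HL hd))) hx.1)
  have := relIndex_le_of_le_left (L := A) (Cz_anti c.QL) (by rw [c.relIndex hn]; positivity)
  have := c.relIndex hn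
  have := c.eight
  nlinarith

theorem ll_sd (hL : LL A L) : ∃ Q D w n, SD' A L Q D w n := by
  obtain ⟨h1, a, ha, a1, h2⟩ := hL
  obtain ⟨Q, Z, D, w, n, c⟩ := (h.sc (h.cz.trans (Cz_le_Cx ha))).cd' (h.ks _ (h.Cx_ne a1)) h2
  exact ⟨Q, D, w, n, h.sd c h1⟩

theorem ll_nm (hL : LL A L) : Cz(A) ≤ Nm(L) := fun g hg => by
  obtain ⟨Q, D, w, n, c⟩ := h.ll_sd hL
  obtain ⟨u, hu, u1⟩ := c.exists_ne
  obtain ⟨-, a, ha, -, h2⟩ := hL
  exact h2.mem_Nm' (le_normalizer (Cz_le_Cx ha hg)) hu.2 (c.not_mem hu.2 u1) (Cz_le_Cx hu.1 hg)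

theorem ll_dich (hL : LL A L) (hL' : LL A L') (hn : ¬ A ⊓ L' ≤ Cz(L)) : A ⊓ L ≤ L' := by
  obtain ⟨Q, D, w, n, c⟩ := h.ll_sd hL
  obtain ⟨Q', D', w', n', c'⟩ := h.ll_sd hL'
  have k : ∀ a ∈ A ⊓ L', a ∉ Cz(L) → ∃ l ∈ Q, l ∉ A ⊓ L ∧ (l * l)⁻¹ * a ∈ Cz(L) ∧ ∀ y ∈ Q, ⁅l, y⁆ ∈ L' := by
    intro a ha a1
    obtain ⟨x, hx, rfl⟩ := c'.sqrt c'.zc ha (c'.not_mem ha.2 fun e => a1 (e ▸ one_mem _))
    obtain ⟨u, hu, e⟩ := c.split c.nc ha.1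
    obtain ⟨l, hl, e'⟩ := c.inner x (h.ll_nm hL (c'.qc hx)) u hu.2 e.2
    have e1 := sq_mod hl e'
    refine ⟨l, c.cit' hl hu (fun f => a1 (by simpa using mul_mem f e.2)) (cx_of e' hu.2 (Cz_le_Cx hu.1 (c'.qc hx))),
      fun f => a1 (by simpa [mul_assoc] using mul_mem (c.sqZ l f) e1), e1, fun y hy => ?_⟩
    have := commutator_mem_left (c'.QL hx) (h.ll_nm hL' (c.qc hy))
    rwa [show x = l * (l⁻¹ * x) by simp, commutatorElement_def, mul_assoc l, mul_assoc l, mul_inv_rev,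
      ← mul_assoc (l⁻¹ * x * y), conj_eq_of_mem_centralizer e' (c.QL hy), ← mul_assoc] at this
  obtain ⟨a, ha, a1⟩ := SetLike.not_le_iff_exists.1 hn
  obtain ⟨l, hl, l1, l2, l3⟩ := k a ha a1
  by_contra e
  obtain ⟨z, hz, z1⟩ := SetLike.not_le_iff_exists.1 e
  obtain ⟨v, hv, e'⟩ := exists_out (C := Cz(L)) (Z := A ⊓ L) [1, a, z, a * z] (by
    rw [c.cardZ]; have := c.eight; simp; omega)
  simp only [List.mem_cons, List.not_mem_nil, or_false, forall_eq_or_imp, forall_eq, one_mul] at e'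
  obtain ⟨u, hu, u0, u1, u2⟩ : ∃ u ∈ A ⊓ L, u ∈ L' ∧ u ∉ Cz(L) ∧ a * u ∉ Cz(L) := by
    by_cases f : v ∈ L'
    · exact ⟨v, hv, f, e'.1, e'.2.1⟩
    · exact ⟨_, mul_mem hz hv, c.comm1 l hl l1 L' (c.zc.le.trans bot_le) l3 z hz v hv z1 f, e'.2.2.1,
        mul_assoc a z v ▸ e'.2.2.2⟩
  obtain ⟨m, hm, m1, m2, m3⟩ := k u ⟨hu.1, u0⟩ u1
  refine e (c.comm2 l hl l1 m hm m1 (fun f => u2 ?_) L' (c.zc.le.trans bot_le) l3 m3)
  have e1 : l * l = m * m := by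
    have := mem_centralizer_iff.1 (c.qc hm) _ f.1
    have e2 := h.scl.sq f.1
    calc l * l = l * m⁻¹ * m * (l * m⁻¹) * m := by group
      _ = _ := by rw [this, mul_assoc m, e2, mul_one]
  rw [← h.scl.inv ha.1]
  simpa [e1, mul_assoc] using mul_mem (inv_mem l2) m2

theorem ll_or (hL : LL A L) (hL' : LL A L') : A ⊓ L' ≤ Cz(L) ∨ A ⊓ L = A ⊓ L' := by
  refine or_iff_not_imp_left.2 fun e => ?_
  have := h.ll_dich hL hL' e
  obtain ⟨Q, D, w, n, c⟩ := h.ll_sd hL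
  obtain ⟨Q', D', w', n', c'⟩ := h.ll_sd hL'
  obtain ⟨u, hu, u1⟩ := c.exists_ne
  exact le_antisymm (le_inf inf_le_left this) (le_inf inf_le_left (h.ll_dich hL' hL fun f =>
    u1 (c'.eq_one (this hu) (f hu))))

variable (hO : ∀ a ∈ A, a ≠ 1 → Op' 2 Cx(a) = ⊥)
include hO

theorem hc (ha : a ∈ A) (a1 : a ≠ 1) : A ≤ Cz(Op' 2 Cx(a)) := by rw [hO a ha a1, Cz_bot]; exact le_top

theorem ll_bal (hL : LL A L) (hb : b ∈ A ⊓ Cz(L)) (b1 : b ≠ 1) : Cp L Cx(b) := by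
  obtain ⟨Q, D, w, n, c⟩ := h.ll_sd hL
  obtain ⟨h1, a, ha, a1, h2⟩ := hL
  have s := h.sc (h.cz.trans (Cz_le_Cx hb.1))
  have k := h.ks _ (h.Cx_ne b1)
  have l : L ≤ Cx(b) := le_Cx_iff.2 hb.2
  have l1 := c.le_nclo h1
  have l2 := l1.trans (nclo_mono inf_le_left l)
  have r := pResidualOf_eq_of_perfect (p := 2) h2.perf
  obtain ⟨K, hK, e⟩ : ∃ K, Cp K Cx(b) ∧ ¬ L ≤ Cz(K) := by
    by_contra! f
    refine qs_not_le_of_isNilpotent h2.qs (nil_Fit Cx(b)) fun y hy => mem_Fit_of_Cz (l hy) ?_ fun K a => f K a hy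
    rw [Fit_eq_Op (hO b hb.1 b1)]
    exact s.res_le (pResidualOf_mono l2 (r.ge hy))
  have n1 : L ≤ Nm(K) := l2.trans (nclo_le_iff'.2 fun g hg => let ⟨_, _, _, _, _, d⟩ := (s.cj hg).cd' k hK; d.nL)
  have n2 := n1.trans (Nm_le_Nm_Cz K)
  have k1 : ¬ A ≤ Cz(K) := fun f => e (l1.trans (nclo_le n2 (inf_le_left.trans f)))
  obtain ⟨Q', D', w', n', d⟩ := h.ll_sd ⟨k1, b, hb.1, b1, hK⟩
  have k2 : a ∈ Cz(K) := by
    by_contra f
    obtain ⟨u, hu, e'⟩ := d.split k1 ha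
    refine e (r.ge.trans (pResidualOf_le_iff.2 fun x hx o => d.odd_mem ((l1.trans (nclo_le (nmS n1 n2)
      (inf_le_left.trans (d.le_sup.trans (sup_le_sup_right d.QL _))))) hx) (Nat.coprime_two_right.1 o) hu
      (fun f' => f (by simpa using mul_mem f' e'.2)) (mem_Cx'.2 (inv_mul_eq_one.1 (d.eq_one
        (mul_mem (inv_mem (mi2 hu)) (conj_mem_of_mem_normalizer (n1 hx) hu.2)) ?_)).symm)))
    have := mul_mem (mi2 e') (inv_mem (conj_mem_of_mem_normalizer (n2 hx) e'.2))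
    rw [← conj_mul (b := x), mem_Cx'.1 (h2.le hx)] at this
    convert this using 1; group
  exact ((hK.mono (le_inf (le_Cx_iff.2 k2) hK.le) inf_le_right).eq_or
    (h2.mono (le_inf h2.le l) inf_le_left)).resolve_right e ▸ hK

theorem ll_eq_or (hL : LL A L) (hL' : LL A L') (hb : b ∈ A ⊓ Cz(L)) (hb' : b ∈ Cz(L')) (b1 : b ≠ 1) :
    L' = L ∨ L' ≤ Cz(L) := (h.ll_bal hO hL hb b1).eq_or (h.ll_bal hO hL' ⟨hb.1, hb'⟩ b1)

theorem ll_eq (hL : LL A L) (hL' : LL A L') (e : A ⊓ L = A ⊓ L') : L' = L := by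
  obtain ⟨Q, D, w, n, c⟩ := h.ll_sd hL
  obtain ⟨u, hu, u1⟩ := c.exists_ne
  obtain ⟨g, hg, g1⟩ := SetLike.not_le_iff_exists.1 fun f => (h.irr (A ⊓ L) inf_le_left f).elim (ne_bot_of_mem hu u1)
    fun f' => let ⟨_, a, ha, a1, h2⟩ := hL; a1 (c.eq_one (f'.ge ha).2 (le_Cx_iff.1 h2.le))
  have e1 : A ⊓ cj g L = cj g (A ⊓ L) := by rw [cj_inf, cj_eq_of_mem_normalizer hg]
  have k : ∀ {K}, LL A K → A ⊓ K = A ⊓ L → g * u * g⁻¹ ∈ A ⊓ Cz(K) := fun hK f =>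
    ⟨conj_mem_of_mem_normalizer hg hu.1, (h.ll_or hK (hL.cj hg)).resolve_right (fun f' =>
      g1 (mem_normalizer_iff_cj.2 (by rw [← e1, ← f', f]))) (e1 ▸ conj_mem_cj g hu)⟩
  exact (h.ll_eq_or hO hL hL' (k hL rfl) (k hL' e.symm).2 (by simpa using u1)).resolve_right fun f =>
    u1 (c.eq_one hu.2 (f (e ▸ hu).2))

theorem ll_odd (hL' : LL A L') (e : A ⊓ L' ≤ Cz(L)) (hg : g ∈ Nm(A)) (g1 : g ∈ L)
    (ho : Odd (orderOf g)) : g ∈ Cz(L') := by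
  obtain ⟨Q, D, w, n, c⟩ := h.ll_sd hL'
  have := le_Cz_comm e g1
  exact c.odd_cent g (mem_normalizer_iff_cj.2 (h.ll_eq hO hL' (hL'.cj hg) (by
    rw [← cj_eq_of_mem_centralizer this, cj_inf, cj_eq_of_mem_normalizer hg]))) ho fun z hz => by
      rw [conj_eq_of_mem_centralizer this hz]; simp

theorem ll_comm (hL : LL A L) (hL' : LL A L') : L' = L ∨ L' ≤ Cz(L) := by
  by_cases e0 : ∃ b ∈ A ⊓ Cz(L), b ∈ Cz(L') ∧ b ≠ 1
  · obtain ⟨b, b1, b2, b3⟩ := e0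
    exact h.ll_eq_or hO hL hL' b1 b2 b3
  push Not at e0
  refine (h.ll_or hL hL').symm.imp (h.ll_eq hO hL hL') fun e1 => ?_
  obtain ⟨Q, D, w, n, c⟩ := h.ll_sd hL
  obtain ⟨Q', D', w', n', c'⟩ := h.ll_sd hL'
  obtain ⟨u, hu, u1⟩ := c'.exists_ne
  have e2 := (h.ll_or hL' hL).resolve_right fun f => u1 (c.eq_one (f ▸ hu).2 (e1 hu))
  have e3 : A ⊓ Cz(L) = A ⊓ L' := le_antisymm (fun b hb => by
    obtain ⟨v, hv, f⟩ := c'.split c'.nc hb.1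
    rwa [← inv_mul_eq_one.1 (e0 _ (mi f.1 (mul_mem (inv_mem (e1 hv)) hb.2)) f.2)]) (le_inf inf_le_left e1)
  have k1 : ∀ b ∈ A ⊓ L', b ≠ 1 → ∀ K, Cp K Cx(b) → ¬ A ≤ Cz(K) → K = L := fun b hb b1 K hK f => by
    have m : LL A K := ⟨f, b, hb.1, b1, hK⟩
    obtain ⟨_, _, _, _, d⟩ := h.ll_sd m
    obtain ⟨v, hv, v1⟩ := d.exists_ne
    refine (h.ll_or hL m).elim (fun f1 => (h.ll_or hL' m).elim (fun f2 => (v1 (e0 v ⟨hv.1, f1 hv⟩ (f2 hv))).elim)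
      fun f2 => (b1 (d.eq_one (f2 ▸ hb).2 (le_Cx_iff.1 hK.le))).elim) (h.ll_eq hO hL m)
  have k2 : ∀ b ∈ A ⊓ L', b ≠ 1 → Cx(b) ≤ (Cx(b) ⊓ Nm(A)) ⊔ L ∧ Cx(b) ⊓ Nm(A) ≤ Nm(L) ∧ Cx(b) ≤ Nm(A ⊓ L') := fun b hb b1 => by
    have s := h.sc (h.cz.trans (Cz_le_Cx hb.1))
    have k := h.ks _ (h.Cx_ne b1)
    have n1 : Cx(b) ⊓ Nm(A) ≤ Nm(L) := fun g hg => mem_normalizer_iff_cj.2 (k1 b hb b1 _
      ((h.ll_bal hO hL (e3.ge hb) b1).cj (le_normalizer hg.1)) (hL.cj hg.2).1)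
    exact ⟨s.gen k (h.hc hO hb.1 b1) le_sup_left fun K a f => k1 b hb b1 K a f ▸ le_sup_right,
      n1, s.gen k (h.hc hO hb.1 b1) (e3 ▸ nmI inf_le_right (n1.trans (Nm_le_Nm_Cz L))) fun K a f =>
      k1 b hb b1 K a f ▸ (le_Cz_comm e1).trans (Cz_le_Nm _)⟩
  obtain ⟨d, hd, d1⟩ := c.exists_D
  have x1 : Cz(D) ≠ ⊤ := fun f => h.Cx_ne d1 (eq_top_iff.2 (f.ge.trans (Cz_le_Cx hd)))
  have x2 : L' ≤ Cz(D) := le_Cz_comm fun g hg => h.ll_odd hO hL' e1 (c.nA (c.HL hg)) (c.DL hg) (OddS.ord c.Hodd hg)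
  have pA := h.scl.pA.to_le (inf_le_left (b := L'))
  have s : SCl (A ⊓ L') Cz(D) := by
    refine ⟨inf_le_right.trans x2, elemAb_of_le inf_le_left h.scl.ab, fun T t1 t2 t3 v hv ⟨a, ha, g, _, e⟩ => ?_⟩
    have j : Dj A ⊤ v := ⟨a, ha.1, g, trivial, e⟩
    obtain ⟨y, hy, f⟩ := h.scl.exists_conj (h.cz.trans (Cz_le_Cx hu.1)) le_top
      (mem_Cx.2 (h.scl.dmul le_top t2 hv (t3 hu) j (dj_self hu.1)).1) j
    have k := k2 u hu u1
    obtain ⟨m, hm, l, hl, rfl⟩ := (mem_sup_of_le_Nm k.2.1).1 (k.1 hy)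
    have f1 : l * v * l⁻¹ ∈ A := by simpa [mul_assoc] using conj_mem_of_mem_normalizer' hm.2 f
    obtain ⟨i, hi, f2⟩ := c.split c.nc f1
    have f3 := conj_eq_of_mem_centralizer (le_Cz_comm (zpowers_le.2 f2.2) (inv_mem hl)) (mem_zpowers _)
    obtain rfl | i1 := eq_or_ne i 1
    · rw [← f3] at f2
      simpa [e3, mul_assoc] using f2
    refine (d1 (conj_eq_one_iff.1 (c.odd_eq_one (conj_mem_of_mem_normalizer (le_normalizer hl) (c.DL hd))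
      (by rw [CfH9.orderOf_conj']; exact OddS.ord c.Hodd hd) hi i1 ?_))).elim
    have f4 := conj_mem_cj l (le_Cx_iff.2 (mul_mem (t1 hv) (inv_mem (x2 (e3.le f2).2))) hd)
    rw [cj_Cx, ← f3] at f4
    convert f4 using 3; group
  have k := h.ks _ x1
  have hc : A ⊓ L' ≤ Cz(Op' 2 Cz(D)) := le_Cz_comm (le_of_noncyclic s.ab.1 (s.le.trans (nm_O _)) (cop2 pA (odd_O _))
    (not_cyc s.ab (by rw [c'.card]; have := c'.eight; omega)) fun b hb b1 => le_Cz_of_Nm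
      (inf_le_right.trans (k2 b hb b1).2.2) (nmI (s.le.trans (nm_O _)) ((s.cz.trans (Cz_le_Cx hb)).trans le_normalizer))
      (inf_comm (A ⊓ L') _ ▸ (cop2 pA ((odd_O _).of_le inf_le_left)).inf_eq_bot))
  obtain ⟨K, hK, k3, k4⟩ := s.exists_cp k hc inf_le_right fun f => (qs_normal c'.qs (x2.trans f)).elim
    (fun f' => u1 (c'.eq_one hu.2 (f' ⟨hu.2, hu⟩))) (qs_not_le_of_isPGroup c'.qs pA)
  have k5 : A ⊓ L' ⊓ Cz(K) = ⊥ := eq_bot_iff.2 fun b hb => by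
    by_contra b1
    exact k4 ((le_Cx_iff.2 hb.2).trans (k2 b hb.1 b1).2.2)
  obtain ⟨k6, k7, -⟩ := s.uniq k hc hK k3 k5
  have k8 : L' ≤ K := (c'.le_nclo c'.nc).trans (nclo_le (x2.trans k7) k6)
  have u2 : u ∉ Cz(K) := fun f => u1 (mem_bot.1 (k5 ▸ mi hu f))
  have w1 : w ∈ Cx(u) := le_Cx_iff.2 (e1 hu) c.wL
  obtain ⟨Q1, Z1, D1, w', n1, d⟩ := s.cd' k hK
  obtain ⟨z, hz, f⟩ := d.inv_inner (hK.mem_Nm' (mem_Nm_Cz (mem_normalizer_of_conj_mem fun x hx =>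
    c.w_nm hx ▸ inv_mem hx)) (k6 hu) u2 w1) c.w_w (d.AZ ⟨hu, k6 hu⟩) u2 w1
  have k9 : z ∈ Cz(K) := by
    by_contra z1
    obtain ⟨y, hy, y1⟩ := c'.exists_D
    have y2 := k8 (c'.DL hy)
    exact y1 (eq_one_of_odd' (OddS.ord c'.Hodd hy) d.syl.pgrp (d.cit' y2 hz z1 (mem_Cx.2 (mem_Cx.1 (cx_of f y2
      (le_Cx_iff.2 (h.ll_odd hO hL e2 (c'.nA (c'.HL hy)) (c'.DL hy) (OddS.ord c'.Hodd hy)) c.wL))).symm)))
  have k10 := inf_eq_left.1 (c.max (L ⊓ Nm(L')) (le_inf c.QL (c.qc.trans (h.ll_nm hL'))) inf_le_left fun f' =>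
    c.wQ (f' (mi c.wL (Cz_le_Nm _ (Cz_anti k8 (by simpa using mul_mem k9 f))))))
  obtain ⟨v, hv, v1⟩ := c.exists_ne
  exact le_Cz_comm ((qs_normal c.qs (k10.trans (Nm_le_Nm_Cz _))).resolve_left fun f' =>
    v1 (c.eq_one hv.2 (f' ⟨hv.2, e2 hv⟩)))

theorem exists_M1 : ∃ M : Subgroup G, M ≠ ⊤ ∧ Nm(A) ≤ M ∧ ∀ a ∈ A, a ≠ 1 → Cx(a) ≤ M := by
  refine ⟨Nm(A) ⊔ sSup {L | LL A L}, ?_, le_sup_left, fun a ha a1 => (h.sc (h.cz.trans (Cz_le_Cx ha))).gen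
    (h.ks _ (h.Cx_ne a1)) (h.hc hO ha a1) (inf_le_right.trans le_sup_left) fun K b c =>
      (le_sSup (show K ∈ {L | LL A L} from ⟨c, a, ha, a1, b⟩)).trans le_sup_right⟩
  by_cases e : ∃ L, LL A L
  swap
  · rw [show {L | LL A L} = ∅ from Set.eq_empty_of_forall_notMem fun L a => e ⟨L, a⟩, sSup_empty, sup_bot_eq]
    exact h.NmA_ne
  obtain ⟨L, hL⟩ := e
  obtain ⟨-, a, ha, a1, h2⟩ := id hL
  refine ne_top_of_le_ne_top (h.Nm_ne (ne_bot_of_le (le_sSup (show L ∈ {L | LL A L} from hL)) (qs_ne_bot h2.qs)) (ne_top_of_le_ne_top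
    (h.Nm_ne (qs_ne_bot h2.qs) (ne_top_of_le_ne_top (h.Cx_ne a1) h2.le)) (sSup_le fun K hK =>
      (h.ll_comm hO hL hK).elim (fun e => e ▸ le_normalizer) fun e => e.trans (Cz_le_Nm _))))
    (sup_le (fun g hg => mem_normalizer_of_cj_le (cj_le_iff.2 (sSup_le fun K hK =>
      cj_le_iff.1 (le_sSup (show _ ∈ {L | LL A L} from LL.cj hK hg))))) le_normalizer)

end MC

end CfH5.S3
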