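import Cfsg.Agent.S3.H
import Cfsg.Agent.H1.SC4

/-! The subgroup `A` exists, and a maximal subgroup contains `N(A)` and the centralizers of its involutions. -/

set_option autoImplicit false
set_option linter.unusedSectionVars false

namespace CfH5.S3

open Cfsg CfH9 CfH7 CfH8 CfH1 CfFT Subgroup
open T3 (nmI nmS pp2 odd2)
open scoped commutatorElement IsMulCommutative

universe u

variable {G : Type u} [Group G] [Finite G] {A B C H K L L' M N O P Q R S T U V W X Y Y' Z D : Subgroup G}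
  {a b g l t u w x y z : G} {n p r s : ℕ}

theorem relIndex_dvd_card' (H K : Subgroup G) : H.relIndex K ∣ Nat.card G :=
  (relIndex_dvd_card H K).trans (card_subgroup_dvd_card K)

theorem MC.odd_of_fused (h : MC A) (hb : b ∈ A) (b1 : b ≠ 1) (e : ∀ a ∈ A, a ≠ 1 → ∃ g ∈ Nm(A), g * b * g⁻¹ = a)
    (hn : Nat.card A = 2 ^ n) : Odd n := by
  have := relIndex_dvd_card' Cx(b) Nm(A)
  rw [← ncard_cls, show {y | ∃ g ∈ Nm(A), g * b * g⁻¹ = y} = (A : Set G) \ {1} from Set.ext fun y =>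
    ⟨by rintro ⟨g, hg, rfl⟩; exact ⟨conj_mem_of_mem_normalizer hg hb, by simpa using b1⟩, fun f => e y f.1 f.2⟩,
    Set.ncard_sdiff_singleton_of_mem (one_mem A), ← Nat.card_coe_set_eq, SetLike.coe_sort_coe, hn] at this
  refine Nat.not_even_iff_odd.1 fun ⟨j, hj⟩ => h.three (dvd_trans ?_ this)
  simpa [hj, ← two_mul, pow_mul] using Nat.sub_dvd_pow_sub_pow 4 1 j

theorem MC.exists_M (h : MC A) : ∃ M : Subgroup G, IsCoatom M ∧ Nm(A) ≤ M ∧ ∀ a ∈ A, a ≠ 1 → Cx(a) ≤ M := by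
  suffices ∃ M : Subgroup G, M ≠ ⊤ ∧ Nm(A) ≤ M ∧ ∀ a ∈ A, a ≠ 1 → Cx(a) ≤ M by
    obtain ⟨M, m1, m2, m3⟩ := this
    obtain ⟨N, n1, n2⟩ := (eq_top_or_exists_le_coatom M).resolve_left m1
    exact ⟨N, n1, m2.trans n2, fun a ha a1 => (m3 a ha a1).trans n2⟩
  obtain ⟨W, w1, w2⟩ := h.complete
  by_cases e : W = ⊥
  · exact h.exists_M1 fun a ha _ => eq_bot_iff.2 (e ▸ w2 _ (mem_O (Cz_le_Cx ha)))
  have n1 : Nm(A) ≤ Nm(W) := fun g hg => mem_normalizer_of_cj_le (w2 _ (w1.cj hg))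
  refine ⟨_, h.Nm_ne' e w1.sol, n1, fun b hb b1 => ?_⟩
  by_contra hn
  obtain ⟨B, n, h1, h2, -, h3, h4, h5, h6, -⟩ := (h.sc (h.cz.trans (Cz_le_Cx hb))).pull (h.ks _ (h.Cx_ne b1))
    (inf_le_right.trans n1) ((w2 _ (mem_O (Cz_le_Cx hb))).trans le_normalizer) hn
  have b2 : b ∈ B := h4 ⟨hb, le_Cx_iff.1 le_rfl⟩
  by_cases hc : IsCyclic B
  swap
  · refine h5 fun g hg => mem_normalizer_of_cj_le (cj_le_iff.2 (le_of_noncyclic (comm_of_le h1 h.scl.ab.1)
      (h1.trans (h.nmA w1)) ((h.cop w1).mono h1 le_rfl) hc fun c hc c1 => (h.locC (h1 hc) c1 w1).trans ?_))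
    exact cj_le_iff.1 ((cj_eq_of_mem_normalizer (nm_O _ (Cz_le_Cx hc hg.2))).le.trans (w2 _ (mem_O (Cz_le_Cx (h1 hc)))))
  obtain ⟨x, rfl⟩ := cyc_iff.1 hc
  obtain rfl := (mem_zp2 (h.scl.sq (h1 (mem_zpowers x))) b2).resolve_left b1
  have q := h.scl.sq hb
  let O : G → Prop := fun x => ∃ g ∈ Nm(A), g * b * g⁻¹ = x
  have o1 : ∀ {x g}, g ∈ Nm(A) → O x → O (g * x * g⁻¹) := fun {x g} hg ⟨k, hk, e⟩ =>
    ⟨g * k, mul_mem hg hk, by rw [← e]; group⟩
  have o2 : ∀ {x g}, g ∈ Nm(A) → O (g * x * g⁻¹) → O x := fun hg e => by simpa [mul_assoc] using o1 (inv_mem hg) e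
  have o3 : O b := ⟨1, one_mem _, by simp⟩
  have o4 : ¬ O 1 := fun ⟨g, _, e⟩ => b1 (by simpa using e)
  by_cases f : ∃ x ∈ A, x ∉ zpowers b ∧ ¬ O x ∧ ¬ O (x * b)
  · obtain ⟨x, hx, x1, x2, x3⟩ := f
    have := (h.irr _ h1 fun g hg => mem_normalizer_of_cj_le (by
      rw [cj_zpowers, zpowers_le]
      by_contra y1
      obtain ⟨k, hk, e⟩ := h6 _ (conj_mem_of_mem_normalizer hg hb) y1 x hx x1
      have := o1 hk.2 (o1 hg o3)
      rcases mem_zp2 q e with e | e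
      · exact x2 (mul_inv_eq_one.1 e ▸ this)
      · rw [mul_inv_eq_iff_eq_mul, h.scl.comm hb hx] at e
        exact x3 (e ▸ this))).resolve_left (zpowers_ne_bot' b1)
    exact h.ncyc (this ▸ hc)
  push Not at f
  let E : Subgroup G := ⟨⟨⟨{x | x ∈ A ∧ ¬ O x}, fun {x y} hx hy => ⟨mul_mem hx.1 hy.1, fun ⟨g, hg, e⟩ => by
      have e1 := conj_mem_of_mem_normalizer' hg hx.1
      refine hy.2 (o2 (inv_mem hg) ?_)
      have := f _ e1 (fun e2 => ?_) fun e2 => hx.2 (o2 (inv_mem hg) (by simpa using e2))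
      · convert this using 1
        rw [show b = g⁻¹ * (x * y) * g by rw [← e]; group]
        calc _ = g⁻¹ * (x * x * y) * g := by rw [h.scl.sq hx.1]; simp
          _ = _ := by group
      · rcases mem_zp2 q e2 with e2 | e2
        · obtain rfl : x = 1 := by simpa using (conj_eq_one_iff (a := g⁻¹)).1 (by simpa using e2)
          exact hy.2 ⟨g, hg, by simpa using e⟩
        · exact hx.2 ⟨g, hg, by rw [← e2]; group⟩⟩⟩, ⟨one_mem _, o4⟩⟩, fun hx => by rwa [h.scl.inv hx.1]⟩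
  have e1 := (h.irr E (fun _ hx => hx.1) fun g hg => mem_normalizer_of_conj_mem fun x hx =>
    ⟨conj_mem_of_mem_normalizer hg hx.1, fun e => hx.2 (o2 hg e)⟩).resolve_right fun e => (e.ge hb).2 o3
  have := h.odd_of_fused hb b1 (n := n + 1) (fun a ha a1 => by_contra fun e => a1 (mem_bot.1 (e1.le ⟨ha, e⟩))) (by
    rw [← CfH9.card_mul_relIndex h1, h3, Nat.card_zpowers, orderOf_eq_prime (by rwa [pow_two]) b1, pow_succ'])
  exact Nat.not_even_iff_odd.2 this h2.add_one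

theorem exists_MC [hs : IsSimpleGroup G] (nc : ¬ IsMulCommutative G) (h3 : ¬ 3 ∣ Nat.card G)
    (ks : ∀ H : Subgroup G, H ≠ ⊤ → KS H) : ∃ A : Subgroup G, MC A := by
  have ns : ¬ Group.IsSolvable G := fun _ => nc ⟨⟨IsSimpleGroup.comm_iff_isSolvable.2 inferInstance⟩⟩
  obtain ⟨S, hS⟩ := exists_sylIn 2 (⊤ : Subgroup G)
  have s1 : S ≠ ⊥ := hS.ne_bot_iff.2 (by_contra fun e => ns (solvable_of_odd (by
    rwa [card_top, ← even_iff_two_dvd, Nat.not_even_iff_odd] at e)))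
  obtain ⟨e1, e2⟩ := s4_free_sc (fun e => h3 (dvd_trans (by rw [Nat.card_perm]; simp [Nat.factorial]) (inv_dvd e)))
    (fun K X _ f hf hc => by
      haveI := Finite.of_surjective f hf
      by_cases e : K = ⊤
      swap
      · exact (ks K e).ck (card_dvd_of_surjective f hf)
      subst e
      have hf' := hf.comp (topEquiv (G := G)).symm.surjective
      rcases hs.eq_bot_or_eq_top_of_normal (f.comp topEquiv.symm.toMonoidHom).ker inferInstance with e | e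
      · let i := MulEquiv.ofBijective (f.comp topEquiv.symm.toMonoidHom) ⟨(MonoidHom.ker_eq_bot_iff _).1 e, hf'⟩
        haveI := i.symm.isSimpleGroup
        rcases IsSimpleGroup.eq_bot_or_eq_top_of_normal (pCore 2 X) inferInstance with e | e
        · rw [e, Cz_bot] at hc; exact absurd hc.antisymm (by simp)
        · haveI := isSolvable_of_isPGroup (pCore_eq_top_iff.1 e)
          exact (ns (Group.isSolvable_of_surjective (f := i.symm.toMonoidHom) i.symm.surjective)).elim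
      · refine (ks ⊥ bot_ne_top).ck (((Nat.card_eq_one_iff_unique (α := X)).2 ⟨⟨fun a b => ?_⟩, ⟨1⟩⟩).dvd.trans
          (one_dvd _))
        obtain ⟨a, rfl⟩ := hf' a
        obtain ⟨b, rfl⟩ := hf' b
        exact (e.ge (mem_top a)).trans (e.ge (mem_top b)).symm) hS
  have e3 := e1.trans ((OZ_le _).trans (JH_le S))
  obtain ⟨A, ⟨a1, a2⟩, -, a3⟩ := exists_minimal_le (fun A : Subgroup G => SCl A ⊤ ∧ A ≠ ⊥)
    (A := nclo (OZ 2 S) Nm(JJ 2 S)) ⟨⟨le_top, elemAb_of_le e1 (elemAb_OZ _), fun T _ t2 t3 u hu ⟨a, ha, g, _, e⟩ => by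
      obtain ⟨y, -, hy⟩ := hS.exists_cj_le t2 le_top
      obtain ⟨k, hk, f⟩ := e2 _ e3 y trivial ((cj_mono y t3).trans hy)
      obtain ⟨k', hk', f'⟩ := e2 _ (zpowers_le.2 (e3 ha)) (y * g) trivial (by
        rw [cj_mul, cj_zpowers, e]; exact (cj_mono y (zpowers_le.2 hu)).trans hy)
      have := conj_mem_of_mem_normalizer' (mem_normalizer_of_conj_mem (g := y) fun x hx =>
        f x hx ▸ conj_mem_of_mem_normalizer hk hx) (f' a (mem_zpowers a) ▸ conj_mem_of_mem_normalizer hk' ha)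
      convert this using 1; rw [← e]; group⟩, ne_bot_of_le (le_nclo _ _) (OZ_ne_bot hS.pgrp s1)⟩
  refine ⟨A, hs, a1, ks, h3, nc, fun B b1 b2 => or_iff_not_imp_left.2 fun e =>
    a3 B ⟨a1.sub b1 (inf_le_right.trans b2), e⟩ b1, by_contra fun e => ?_⟩
  obtain ⟨T, hT, hA⟩ := exists_sylIn_ge a1.pA le_top
  have t1 := a1.nm le_top hT.pgrp hA
  obtain ⟨a, ha, b1, b2⟩ := exists_mem_center_of_normal hT.pgrp a1.pA t1 a2
  obtain ⟨k, hk⟩ := a1.pA.exists_card_eq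
  have k1 : k ≤ 2 := by
    by_contra f
    exact e (hk ▸ Nat.pow_le_pow_right (n := 2) two_pos (show 3 ≤ k by omega))
  have c1 : (Cx(a)).relIndex Nm(A) ≤ 3 := by
    rw [← ncard_cls]
    refine (Set.ncard_le_ncard (t := (A : Set G) \ {1}) ?_).trans ?_
    · rintro _ ⟨g, hg, rfl⟩; exact ⟨conj_mem_of_mem_normalizer hg ha, by simpa using b1⟩
    · rw [Set.ncard_sdiff_singleton_of_mem (one_mem A), ← Nat.card_coe_set_eq, SetLike.coe_sort_coe, hk]
      have := Nat.pow_le_pow_right (n := 2) two_pos k1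
      omega
  have c2 := (hT.mono t1 le_top).not_dvd_relIndex_of_le (le_Cx_iff.2 b2)
  have c3 : ¬ 3 ∣ (Cx(a)).relIndex Nm(A) := fun f => h3 (dvd_trans f (relIndex_dvd_card' Cx(a) Nm(A)))
  have c4 := relIndex_eq_one.1 (show (Cx(a)).relIndex Nm(A) = 1 by omega)
  have c5 : Op' 2 (⊤ : Subgroup G) = ⊥ := (hs.eq_bot_or_eq_top_of_normal _ inferInstance).resolve_right fun e =>
    ns (solvable_of_odd (card_top (G := G) ▸ e ▸ odd_O ⊤))
  refine nc ⟨⟨fun x y => mem_center_iff.1 (((hs.eq_bot_or_eq_top_of_normal _ inferInstance).resolve_left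
    (ne_bot_of_mem (mem_center_iff.2 fun g => ?_) b1)).ge (mem_top y)) x⟩⟩
  obtain ⟨m, hm, c, hc, rfl⟩ := T3.zstar_in hT ⟨hA ha, b2⟩ (a1.sq ha) (fun g _ f => by
    obtain ⟨k, hk, f'⟩ := a1.fus' ha trivial (a1.sc T le_top hT.pgrp hA _ f ((dj_self ha).conj trivial))
    exact f'.symm.trans (mem_Cx'.1 (c4 hk.2))) (mem_top g)
  rw [c5, mem_bot] at hm
  simpa [hm] using mem_Cx.1 hc

end CfH5.S3
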