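import Cfsg.Agent.S3.I
import Cfsg.Agent.H3.He1
import Cfsg.Agent.H9.Bn1

/-! The action on the cosets of the maximal subgroup: the conjugates of the involutions of `A`
have one fixed point. -/

set_option autoImplicit false
set_option linter.unusedSectionVars false

namespace CfH5.S3

open Cfsg CfH9 CfH7 CfH8 CfH1 CfFT Subgroup
open T3 (nmI nmS pp2 odd2)
open BS.Bn (St mem_St St_smul fix_cj)
open CfH3.He (dih_odd dih_comm dih_cls exists_inv_pow)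
open scoped commutatorElement IsMulCommutative

universe u

variable {G : Type u} [Group G] [Finite G] {A B C H K L L' M N O P Q R S T U V W X Y Y' Z D : Subgroup G}
  {a b d e g j l t u w x y z : G} {n p r s : ℕ} {Ω : Type u} [MulAction G Ω] {α β γ δ : Ω}

/-- conjugates of involutions of `A` -/
structure DD (A : Subgroup G) (d : G) : Prop where
  ne : d ≠ 1
  dj : Dj A ⊤ d

theorem DD.conj (h : DD A d) (g : G) : DD A (g * d * g⁻¹) := ⟨by simpa using h.ne, h.dj.conj trivial⟩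
theorem dd_self (ha : a ∈ A) (a1 : a ≠ 1) : DD A a := ⟨a1, dj_self ha⟩
theorem Dj.isConj (h : Dj A ⊤ x) (e : IsConj x y) : Dj A ⊤ y := by
  obtain ⟨c, rfl⟩ := isConj_iff.1 e; exact h.conj trivial

/-- involutions outside `DD` with two fixed points -/
structure TT (A : Subgroup G) (Ω : Type u) [MulAction G Ω] (t : G) : Prop where
  sq : t * t = 1
  nd : ¬ Dj A ⊤ t
  two : ∃ β γ : Ω, β ≠ γ ∧ t • β = β ∧ t • γ = γ

theorem TT.conj (h : TT A Ω t) (g : G) : TT A Ω (g * t * g⁻¹) :=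
  ⟨by rw [conj_mul, h.sq]; simp, fun e => h.nd (e.of_conj trivial),
    let ⟨_, _, a, b, c⟩ := h.two; ⟨_, _, fun e => a (MulAction.injective g e), fix_cj b g, fix_cj c g⟩⟩
theorem TT.ne (h : TT A Ω t) : t ≠ 1 := fun e => h.nd (e ▸ dj_self (one_mem A))

theorem cx_symm (h : x ∈ Cx(y)) : y ∈ Cx(x) := mem_Cx.2 (mem_Cx.1 h).symm

theorem cx_of_inv (ho : Odd (orderOf g)) (e : g * y * g⁻¹ = y⁻¹) : y⁻¹ = y :=
  e.symm.trans (mem_Cx'.1 (mem_of_sq_mem ho (mem_Cx'.2 (by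
    rw [show g * g * y * (g * g)⁻¹ = g * (g * y * g⁻¹) * g⁻¹ by group, e, ← conj_inv, e, inv_inv]))))

structure EG (A : Subgroup G) (α : Ω) : Prop extends MC A where
  tr : ∀ β : Ω, ∃ g : G, g • α = β
  mx : IsCoatom (St G α)
  nA : Nm(A) ≤ St G α
  cA : ∀ a ∈ A, a ≠ 1 → Cx(a) ≤ St G α

namespace EG
variable (h : EG A α)
include h

theorem AM : A ≤ St G α := le_normalizer.trans h.nA
theorem sq (hd : DD A d) : d * d = 1 := h.scl.dsq hd.dj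
theorem inv (hd : DD A d) : d⁻¹ = d := h.scl.dinv hd.dj

theorem fix0 (hd : DD A d) (h1 : d ∈ St G α) (h2 : g * d * g⁻¹ ∈ St G α) : g ∈ St G α := by
  obtain ⟨m, hm, e⟩ := h.scl.exists_conj h.AM le_top h1 hd.dj
  obtain ⟨m', hm', e'⟩ := h.scl.exists_conj h.AM le_top h2 (hd.conj g).dj
  obtain ⟨k, hk, f⟩ := h.scl.fus' e (mem_top (m' * g * m⁻¹)) (by convert e' using 1; group)
  have := mul_mem (h.nA hk.2) (h.cA _ e (hd.conj m).ne (mem_Cx'.2 (show k⁻¹ * (m' * g * m⁻¹) * (m * d * m⁻¹) *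
    (k⁻¹ * (m' * g * m⁻¹))⁻¹ = m * d * m⁻¹ by rw [← mul_left_cancel_iff (a := k), ← mul_right_cancel_iff (a := k⁻¹), f]; group)))
  simpa [mul_assoc] using mul_mem (mul_mem (inv_mem hm') this) hm

theorem uniq (hd : DD A d) (h1 : d • β = β) (h2 : d • γ = γ) : β = γ := by
  obtain ⟨g, rfl⟩ := h.tr β
  obtain ⟨k, rfl⟩ := h.tr γ
  have := h.fix0 (g := k⁻¹ * g) (hd.conj g⁻¹) (by simpa using fix_cj h1 g⁻¹) (by
    simpa [mul_assoc] using fix_cj h2 k⁻¹)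
  rw [mem_St, mul_smul, inv_smul_eq_iff] at this
  exact this

theorem exists_fix (hd : DD A d) : ∃ β : Ω, d • β = β :=
  let ⟨_, ha, g, _, e⟩ := hd.dj; ⟨_, e ▸ fix_cj (h.AM ha) g⟩

theorem cent (hd : DD A d) (h1 : d • β = β) (hg : g ∈ Cx(d)) : g • β = β :=
  h.uniq hd (mem_Cx'.1 hg ▸ fix_cj h1 g) h1

theorem exists_dd (β : Ω) : ∃ d, DD A d ∧ d • β = β := by
  obtain ⟨g, rfl⟩ := h.tr β
  obtain ⟨a, ha, a1⟩ := exists_ne_one_of_ne_bot h.ne_bot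
  exact ⟨_, (dd_self ha a1).conj g, fix_cj (h.AM ha) g⟩

theorem exists_moved (t1 : t ≠ 1) : ∃ γ : Ω, t • γ ≠ γ := by
  by_contra! k
  refine h.mx.1 (eq_top_iff.2 (((h.simple.eq_bot_or_eq_top_of_normal (MulAction.toPermHom G Ω).ker
    inferInstance).resolve_left (ne_bot_of_mem (Equiv.ext k) t1)).ge.trans fun g hg => ?_))
  exact congrArg (fun f : Equiv.Perm Ω => f α) hg

theorem cov (t2 : t * t = 1) (h1 : t • γ ≠ γ) (he : DD A e) (h2 : e • γ = γ) :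
    Odd (orderOf (t * e)) ∨ ∃ w, DD A w ∧ w ∈ Cx(t) ∧ t * w ≠ 1 ∧ (t * w) • γ = γ := by
  refine or_iff_not_imp_left.2 fun ho => ?_
  obtain ⟨m, m1, m2⟩ := exists_inv_pow ho
  obtain ⟨c1, c2⟩ := dih_comm t2 (h.sq he) m2
  have f := h.cent he h2 (mem_Cx.2 c2)
  rcases dih_cls t2 (h.sq he) m with ⟨k, -⟩ | ⟨-, k⟩
  · have := ((dih_cls (h.sq he) t2 m).resolve_right fun k' => Nat.not_odd_iff_even.2 k k'.1).2
    rw [show e * t = (t * e)⁻¹ by rw [mul_inv_rev, h.inv he, inv_eq_of_mul_eq_one_right t2], inv_pow,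
      inv_eq_of_mul_eq_one_right m2] at this
    have j := h.scl.dmul' (c2.mul_left (Commute.refl e)) (he.dj.isConj this) he.dj
    rw [mul_assoc, h.sq he, mul_one] at j
    exact (h1 (h.cent ⟨m1, j⟩ f (mem_Cx.2 c1.symm))).elim
  · have e1 : t * ((t * e) ^ m * t) = (t * e) ^ m := by rw [c1, ← mul_assoc, t2, one_mul]
    exact ⟨_, ⟨fun e' => h1 (by rw [e', mul_one] at e1; rwa [← e1] at f), he.dj.isConj k⟩,
      mem_Cx.2 (c1.mul_left (Commute.refl t)), by rw [e1]; exact m1, by rw [e1]; exact f⟩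

theorem odd_mul (hd : DD A d) (h1 : d • γ ≠ γ) (he : DD A e) (h2 : e • γ = γ) : Odd (orderOf (d * e)) :=
  (h.cov (h.sq hd) h1 he h2).resolve_right fun ⟨_, a, b, c, f⟩ => h1 (h.cent
    ⟨c, h.scl.dmul' (mem_Cx.1 b).symm hd.dj a.dj⟩ f (cx_symm (mul_mem (mem_Cx.2 rfl) b)))

theorem swap (hd : DD A d) (h1 : d • β = β) (he : DD A e) (h2 : e • γ = γ) (hn : β ≠ γ) :
    ∃ j, DD A j ∧ j * d * j⁻¹ = e ∧ j • β = γ ∧ ∀ g, d ∈ Cx(g) → e ∈ Cx(g) → j ∈ Cx(g) := by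
  obtain ⟨j, -, b, c, f⟩ := dih_odd (h.sq hd) (h.sq he) (h.odd_mul hd (fun f => hn (h.uniq hd h1 f)) he h2)
  exact ⟨j, ⟨fun e => hd.ne (by simpa [e] using b), hd.dj.isConj b⟩, c, h.uniq he (c ▸ fix_cj h1 j) h2,
    fun g a b => mem_Cx.2 (f g (mem_Cx.1 a).symm (mem_Cx.1 b).symm).symm⟩

theorem fused (ha : a ∈ A) (a1 : a ≠ 1) (hb : b ∈ A) (b1 : b ≠ 1) : ∃ g ∈ Nm(A), g * a * g⁻¹ = b := by
  obtain ⟨g, -, hg⟩ := SetLike.exists_of_lt h.mx.lt_top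
  obtain ⟨e, he, e1⟩ := h.exists_dd (g • α)
  obtain ⟨j, -, j1, -⟩ := h.swap (dd_self ha a1) (h.AM ha) he e1 (Ne.symm hg)
  obtain ⟨k, -, k1, -⟩ := h.swap he e1 (dd_self hb b1) (h.AM hb) hg
  have e : k * j * a * (k * j)⁻¹ = b := by rw [← k1, ← j1]; group
  obtain ⟨m, hm, f⟩ := h.scl.fus' ha (mem_top (k * j)) (e ▸ hb)
  exact ⟨m, hm.2, f.trans e⟩

theorem card_odd : ∃ n, Odd n ∧ Nat.card A = 2 ^ n := by
  obtain ⟨n, hn⟩ := h.scl.pA.exists_card_eq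
  obtain ⟨a, ha, a1⟩ := exists_ne_one_of_ne_bot h.ne_bot
  exact ⟨n, h.odd_of_fused ha a1 (fun b hb b1 => h.fused ha a1 hb b1) hn, hn⟩

theorem special0 (ho : Odd (orderOf y)) (y1 : y ≠ 1) (hd : DD A d) (h1 : d * y * d⁻¹ = y⁻¹) (he : DD A e)
    (h2 : e ∈ Cx(y)) (h3 : e • γ = γ) : d • γ = γ := by
  by_contra f
  exact y1 (eq_one_of_inv ho (cx_of_inv (h.odd_mul hd f he h3) (by
    rw [← h1, ← mem_Cx'.1 h2, mul_inv_rev, mem_Cx'.1 h2]; nth_rw 2 [← mem_Cx'.1 h2]; group)))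

theorem special (ho : Odd (orderOf y)) (y1 : y ≠ 1) (hd : DD A d) (h1 : d * y * d⁻¹ = y⁻¹) (he : DD A e)
    (h2 : e ∈ Cx(y)) (h3 : e • γ = γ) : Cx(y) ≤ St G γ := fun g hg =>
  h.uniq hd (h.special0 ho y1 hd h1 (he.conj g) (mul_mem (mul_mem hg h2) (inv_mem hg)) (fix_cj h3 g))
    (h.special0 ho y1 hd h1 he h2 h3)

theorem cov' (t2 : t * t = 1) (nd : ¬ Dj A ⊤ t) (h1 : t • γ ≠ γ) :
    ∃ w, DD A w ∧ w ∈ Cx(t) ∧ (t * w) • γ = γ ∧ TT A Ω (t * w) := by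
  obtain ⟨e, he, e1⟩ := h.exists_dd γ
  obtain ⟨w, a, b, -, c⟩ := (h.cov t2 h1 he e1).resolve_left fun ho => by
    obtain ⟨j, -, -, f, -⟩ := dih_odd t2 (h.sq he) ho
    exact nd (Dj.of_conj (f ▸ he.dj) trivial)
  obtain ⟨δ, f⟩ := h.exists_fix a
  have f' := h.cent a f (cx_symm b)
  refine ⟨w, a, b, c, by rw [mul_assoc, ← mul_assoc w, mem_Cx.1 b, mul_assoc, h.sq a, mul_one, t2], fun k => nd ?_,
    γ, δ, fun k => h1 (k ▸ f'), c, by rw [mul_smul, f, f']⟩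
  simpa [mul_assoc, h.sq a] using h.scl.dmul' (Commute.mul_left (mem_Cx.1 b).symm (Commute.refl w)) k a.dj

theorem exists_cd (t2 : t * t = 1) (h1 : t • γ = γ) : ∃ d, DD A d ∧ d ∈ Cx(t) ∧ d • γ = γ := by
  obtain ⟨g, rfl⟩ := h.tr γ
  have p := isPGroup_cj (p2_zp t2) g⁻¹
  obtain ⟨y, hy, e, -⟩ := h.scl.exists_cj h.AM le_top (B := cj g⁻¹ (zpowers t)) (by
    rw [cj_le_iff, inv_inv, ← St_smul]; exact zpowers_le.2 h1) p
  obtain ⟨a, ha, a1, a2⟩ := exists_mem_center_of_normal (isPGroup_cj p y) h.scl.pA e h.ne_bot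
  rw [← cj_mul, ← cj_centralizer, mem_cj, Cz_zpowers] at a2
  refine ⟨_, by simpa using (dd_self ha a1).conj (y * g⁻¹)⁻¹, a2, ?_⟩
  simpa [mul_assoc] using fix_cj (show (y⁻¹ * a * y) • α = α from mul_mem (mul_mem (inv_mem hy) (h.AM ha)) hy) g

theorem tt_not_le (ht : TT A Ω t) (β : Ω) : ¬ Cx(t) ≤ St G β := fun e => by
  obtain ⟨γ, δ, a, b, c⟩ := ht.two
  obtain ⟨d, d1, d2, d3⟩ := h.exists_cd ht.sq b
  obtain ⟨d', d1', d2', d3'⟩ := h.exists_cd ht.sq c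
  exact a ((h.uniq d1 d3 (e d2)).trans (h.uniq d1' (e d2') d3'))

theorem odd_le (hB : B ≤ A) (hc : ¬ IsCyclic B) (ho : OddS Y) (hn : B ≤ Nm(Y)) : Y ≤ St G α :=
  le_of_noncyclic (comm_of_le hB h.scl.ab.1) hn (cop2 (h.scl.pA.to_le hB) ho) hc fun b hb b1 =>
    inf_le_right.trans (h.cA b (hB hb) b1)

theorem pull (hB : B ≤ A) (hc : ¬ IsCyclic B) (s : SCl B H) (hn : ¬ H ≤ St G α) (h1 : H ≠ ⊤) :
    (∀ a ∈ B, a ≠ 1 → ∀ b ∈ B, b ≠ 1 → ∃ g ∈ H ⊓ Nm(B), g * a * g⁻¹ = b) ∧ H ⊓ St G α ≤ Nm(B ⊔ Op' 2 H) := by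
  obtain ⟨a, ha, a1⟩ := exists_ne_one_of_ne_bot (A := B) fun e => hc (e ▸ cyc_bot)
  exact s.pull' (h.ks H h1) (fun g hg => h.fix0 (dd_self (hB ha) a1) (h.AM (hB ha))
    (h.AM (hB (conj_mem_of_mem_normalizer hg.2 ha)))) (h.odd_le hB hc (odd_O H) (s.le.trans (nm_O H))) hn
    fun b hb b1 => inf_le_right.trans (h.cA b (hB hb) b1)

theorem tt_cz0 (ht : TT A Ω t) (hT : SylIn 2 T Cx(t)) (h1 : T ≤ Nm(A)) : t ∈ Cz(A) := by
  have t1 := h1 (zpowers_le.1 (hT.le_of_le_Nm (p2_zp ht.sq) (zpowers_le.2 (mem_Cx.2 rfl))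
    (hT.le.trans (Cz_zpowers t ▸ Cz_le_Nm _))))
  have ti := inv_eq_of_mul_eq_one_right ht.sq
  let φ : A →* G := MonoidHom.mk' (fun a => a * (t * a * t⁻¹)) fun a b => by
    have := h.scl.comm b.2 (conj_mem_of_mem_normalizer t1 a.2)
    simp only [coe_mul, ← conj_mul (b := t)]
    rw [mul_assoc, ← mul_assoc (b : G), this]; group
  have k1 : φ.ker = (A ⊓ Cx(t)).subgroupOf A := by
    ext a
    rw [MonoidHom.mem_ker, mem_subgroupOf, mem_inf, and_iff_right a.2]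
    exact ⟨fun e => cx_symm (mem_Cx'.2 ((eq_inv_of_mul_eq_one_right e).trans (h.scl.inv a.2))),
      fun e => (congrArg _ (mem_Cx'.1 (cx_symm e))).trans (h.scl.sq a.2)⟩
  have k2 : φ.range ≤ A ⊓ Cx(t) := by
    rintro _ ⟨a, rfl⟩
    refine mi (mul_mem a.2 (conj_mem_of_mem_normalizer t1 a.2)) (cx_symm (mem_Cx'.2 ?_))
    show t * (a * (t * a * t⁻¹)) * t⁻¹ = a * (t * a * t⁻¹)
    rw [h.scl.comm a.2 (conj_mem_of_mem_normalizer t1 a.2), ← conj_mul (b := t), ← h.scl.comm a.2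
      (conj_mem_of_mem_normalizer t1 a.2)]
    simp [ti, mul_assoc, ← mul_assoc t t, ht.sq]
  have k3 : Nat.card (A ⊓ Cx(t) : Subgroup G) * Nat.card φ.range = Nat.card A := by
    rw [← card_subgroupOf (inf_le_left (b := Cx(t))), ← k1, ← index_ker, card_mul_index]
  have k4 := card_le_of_le k2
  have s := h.scl.inf le_top hT h1
  obtain ⟨tr, -⟩ := h.pull inf_le_left (not_cyc s.ab (by have := h.big; nlinarith)) s (h.tt_not_le ht α)
    (h.Cx_ne ht.ne)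
  by_contra hn
  obtain ⟨a, ha, a1⟩ := SetLike.not_le_iff_exists.1 fun f => hn (le_Cx_iff.1 f)
  have c1 : φ ⟨a, ha⟩ ≠ 1 := fun e => a1 (k1.le e).2
  have k5 : A ⊓ Cx(t) ≤ φ.range := fun b hb => by
    obtain rfl | b1 := eq_or_ne b 1
    · exact one_mem _
    obtain ⟨g, hg, e⟩ := tr _ (k2 ⟨_, rfl⟩) c1 b hb b1
    have l : A ≤ Cz(A ⊓ Cx(t)) ⊓ secCz (zpowers t) (A ⊓ Cx(t)) := le_inf (h.cz.trans (Cz_anti inf_le_left))
      (le_secCz (le_Nm_of_ab h.scl.ab.1 inf_le_left) (commutator_le.2 fun x hx c hc => by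
        rcases mem_zp2 ht.sq hx with rfl | rfl
        · simp
        · simpa [φ, commutatorElement_def, h.scl.inv hc, ti, mul_assoc] using inv_mem (k2 ⟨⟨c, hc⟩, rfl⟩)))
    obtain ⟨y, hy, f⟩ := h.scl.exists_Nm l le_top (mem_top g) (CfFT.cj_le_of_mem_Nm l (mem_Nm_inf (mem_Nm_Cz hg.2)
      (zpowers_le.1 (le_Nm_secCz (zpowers_le.2 (Cz_le_Nm _ (Cz_zpowers t ▸ hg.1))) (zpowers_le.2 hg.2)))))
    have f1 := conj_mem_of_mem_normalizer f ha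
    refine ⟨⟨_, f1⟩, ?_⟩
    have f2 := conj_eq_of_mem_centralizer (h.cz (inv_mem ((mem_secCz.1 hy.2).2 t (mem_zpowers t))).1)
      (conj_mem_of_mem_normalizer t1 f1)
    rw [← conj_eq_of_mem_centralizer hy.1 hb, ← e]
    show y * g * a * (y * g)⁻¹ * (t * (y * g * a * (y * g)⁻¹) * t⁻¹) = y * (g * (a * (t * a * t⁻¹)) * g⁻¹) * y⁻¹
    rw [← f2]
    have f3 : g * (t * a * t⁻¹) * g⁻¹ = t * (g * a * g⁻¹) * t⁻¹ := by
      rw [← conj_mul (b := g), ← conj_mul (b := g), ← conj_inv (b := g), mem_Cx'.1 (mi1 hg)]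
    rw [← conj_mul (b := g), f3]
    simp [commutatorElement_def, mul_assoc]
  obtain ⟨n, n1, n2⟩ := h.card_odd
  obtain ⟨j, hj⟩ := s.pA.exists_card_eq
  rw [← le_antisymm k5 k2, hj, n2, ← pow_add] at k3
  exact Nat.not_even_iff_odd.2 n1 ⟨j, (Nat.pow_right_injective le_rfl k3).symm⟩

theorem tt_cz (ht : TT A Ω t) : ∃ g, g * t * g⁻¹ ∈ Cz(A) := by
  obtain ⟨T, hT⟩ := exists_sylIn 2 Cx(t)
  obtain ⟨y, -, e, -⟩ := h.scl.exists_cj le_top le_top le_top hT.pgrp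
  exact ⟨y, h.tt_cz0 (ht.conj y) (cj_Cx y t ▸ hT.cj y) e⟩

theorem tt_pull (ht : TT A Ω t) (tc : t ∈ Cz(A)) :
    (∀ a ∈ A, a ≠ 1 → ∀ b ∈ A, b ≠ 1 → ∃ g ∈ Cx(t) ⊓ Nm(A), g * a * g⁻¹ = b) ∧
      Cx(t) ⊓ St G α ≤ Nm(A ⊔ Op' 2 Cx(t)) :=
  h.pull le_rfl h.ncyc (h.sc (le_Cx_iff.2 tc)) (h.tt_not_le ht α) (h.Cx_ne ht.ne)

theorem tt_step (t2 : t * t = 1) (nd : ¬ Dj A ⊤ t) (tc : t ∈ Cz(A)) : ∃ a ∈ A, a ≠ 1 ∧ TT A Ω (t * a) := by
  obtain ⟨γ, e⟩ := h.exists_moved (t := t) fun e => nd (e ▸ dj_self (one_mem A))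
  obtain ⟨w, w1, w2, -, w3⟩ := h.cov' t2 nd e
  obtain ⟨y, hy, f⟩ := h.scl.exists_conj (le_Cx_iff.2 tc) le_top w2 w1.dj
  exact ⟨_, f, (w1.conj y).ne, by simpa only [← conj_mul (b := y), mem_Cx'.1 hy] using w3.conj y⟩

theorem tt_of (t2 : t * t = 1) (nd : ¬ Dj A ⊤ t) (tc : t ∈ Cz(A)) : TT A Ω t := by
  obtain ⟨a, ha, a1, e⟩ := h.tt_step t2 nd tc
  have c := mul_mem tc (h.cz ha)
  obtain ⟨b, hb, b1, f⟩ := h.tt_step e.sq e.nd c
  obtain ⟨g, hg, k⟩ := (h.tt_pull e c).1 b hb b1 a ha a1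
  have := f.conj g
  rwa [← conj_mul (b := g), mem_Cx'.1 hg.1, k, mul_assoc, h.scl.sq ha, mul_one] at this

theorem tt_mul (ht : TT A Ω t) (tc : t ∈ Cz(A)) (ha : a ∈ A) : TT A Ω (t * a) :=
  h.tt_of (by rw [mul_assoc, ← mul_assoc a, mem_centralizer_iff.1 tc a ha, mul_assoc, h.scl.sq ha, mul_one, ht.sq])
    (fun k => ht.nd (by simpa [mul_assoc, h.scl.sq ha] using h.scl.dmul' (Commute.mul_left
      (mem_centralizer_iff.1 tc a ha).symm (Commute.refl a)) k (dj_self ha))) (mul_mem tc (h.cz ha))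

theorem le_sup (ht : TT A Ω t) (tc : t ∈ Cz(A)) : St G α ≤ Op' 2 (St G α) ⊔ Nm(A) := fun g hg => by
  have n1 := nm_O (St G α)
  have n2 := h.AM.trans n1
  have s := h.sc h.AM
  have t1 := h.nA (Cz_le_Nm _ tc)
  let c : Nm(Op' 2 (St G α)) := ⟨t, n1 t1⟩
  have := le_Nm_qp n1 ((s.qb (odd_O _) n1 (O_le _)).le_Nm_of_fused ((h.ks _ h.mx.1).qb n1)
    (by rw [Op'_qb_Op', Cz_bot]; exact le_top) (t := nmQuot _ c) (fun a ha a1 b hb b1 => by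
      obtain ⟨a, a2, rfl⟩ := mem_qb.1 ha
      obtain ⟨b, b2, rfl⟩ := mem_qb.1 hb
      obtain ⟨g, hg, e⟩ := h.fused a2 (fun e => a1 (by rw [show a = 1 from Subtype.ext e, map_one])) b2
        fun e => b1 (by rw [show b = 1 from Subtype.ext e, map_one])
      exact ⟨_, nmQuot_mem_qb (g := ⟨g, n1 (h.nA hg)⟩) (h.nA hg), by
        rw [← map_inv, ← map_mul, ← map_mul]; exact congrArg _ (Subtype.ext e)⟩)
    (nmQuot_mem_qb t1) (by rw [← map_mul]; exact nmQuot_eq_one_iff.2 (by simp [c, ht.sq]))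
    (zpowers_le.1 (qb_zpowers c ▸ (qb_le_Cz_iff (zpowers_le.2 c.2) n2).2
      ((comm_eq_bot_left.2 (zpowers_le.2 tc)).le.trans bot_le))) fun a ha => by
      obtain ⟨a, a2, rfl⟩ := mem_qb.1 ha
      have u := h.tt_mul ht tc a2
      have uc := mul_mem tc (h.cz a2)
      have l := le_Cx_iff.2 uc
      refine ⟨qb _ (A ⊔ Op' 2 Cx(t * a)), qb_mono (sup_le h.AM (h.odd_le le_rfl h.ncyc (odd_O _) (l.trans (nm_O _)))),
        sol_qb (sol_sup (sol_of_isPGroup h.scl.pA) (OddS.sol (odd_O _)) (l.trans (nm_O _))), qb_mono le_sup_left, ?_⟩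
      rw [← map_mul, ← qb_Cx n1 (le_normalizer (h.nA (Cz_le_Nm _ uc))) (cop2 (p2_zp u.sq) ((odd_O _).of_le inf_le_right))]
      exact qb_le_Nm (inf_comm (St G α) _ ▸ (h.tt_pull u uc).2))
  rw [qp_qb n2] at this
  obtain ⟨y, hy, e⟩ := h.scl.exists_Nm (le_sup_left (b := Op' 2 (St G α))) le_top (mem_top g)
    (CfFT.cj_le_of_mem_Nm le_sup_left (this hg))
  simpa using mul_mem (inv_mem (sup_le (le_normalizer.trans le_sup_right) le_sup_left hy)) (mem_sup_right e)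

theorem mem_of_center (hS : SylIn 2 S ⊤) (hA : A ≤ S) (hz : z ∈ Cz(S)) (z2 : z * z = 1) : z ∈ A := by
  have zc := Cz_anti hA hz
  by_contra z1
  have ht := h.tt_of z2 (fun e => z1 (h.scl.dmem_of_nm e (Cz_le_Nm _ zc))) zc
  have n1 := h.scl.nm le_top hS.pgrp hA
  refine (hS.mono (K := secCz (zpowers z) A) (le_secCz n1 ((comm_eq_bot_left.2 (zpowers_le.2 hz)).le.trans bot_le))
    le_top).not_dvd_relIndex_of_le (le_Cx_iff.2 hz) ?_
  rw [← ncard_cls, show {y | ∃ g ∈ secCz (zpowers z) A, g * z * g⁻¹ = y} = (fun b => z * b) '' A from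
    Set.ext fun y => ⟨?_, ?_⟩, Set.ncard_image_of_injective _ (mul_right_injective z), ← Nat.card_coe_set_eq]
  · exact dvd_card_of_ne_bot h.scl.pA h.ne_bot
  · rintro ⟨g, hg, rfl⟩
    exact ⟨_, conj_mem_of_mem_normalizer' (Cz_le_Nm _ zc) (inv_mem ((mem_secCz.1 hg).2 z (mem_zpowers z))),
      by simp [commutatorElement_def, mul_assoc]⟩
  · rintro ⟨b, hb, rfl⟩
    obtain rfl | b1 := eq_or_ne b 1
    · exact ⟨1, one_mem _, by simp⟩
    obtain ⟨a, ha, e⟩ := exists_out (C := ⊥) (Z := A) [1, b] (by rw [relIndex_bot_left]; have := h.big; simp; omega)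
    simp only [List.mem_cons, List.not_mem_nil, or_false, forall_eq_or_imp, forall_eq, one_mul, mem_bot] at e
    obtain ⟨g, hg, f⟩ := (h.tt_pull (h.tt_mul ht zc ha) (mul_mem zc (h.cz ha))).1 a ha e.1 _ (mul_mem hb ha) e.2
    have k : g * z * g⁻¹ = z * b := by
      rw [show z = z * a * a by rw [mul_assoc, h.scl.sq ha, mul_one], ← conj_mul (b := g), mem_Cx'.1 hg.1, f,
        h.scl.comm hb ha, mul_assoc, mul_assoc, mul_assoc]
    refine ⟨g, mem_secCz.2 ⟨hg.2, fun x hx => ?_⟩, k⟩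
    rcases mem_zp2 z2 hx with rfl | rfl
    · simp
    · rw [← commutatorElement_inv, commutatorElement_def, k]
      exact inv_mem (conj_mem_of_mem_normalizer (Cz_le_Nm _ zc) hb)

end EG

end CfH5.S3
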