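import Cfsg.Agent.S3.J
import Cfsg.Agent.H9.ZJFree
import Cfsg.Agent.H9.Isolated
import Cfsg.Agent.H3.SL2Basic

/-! The point stabilizer is the normalizer of `A`. -/

set_option autoImplicit false
set_option linter.unusedSectionVars false

namespace CfH5.S3

open Cfsg CfH9 CfH7 CfH8 CfH1 CfFT Subgroup
open T3 (nmI nmS pp2 odd2)
open BS.Bn (St mem_St St_smul fix_cj)
open scoped commutatorElement IsMulCommutative

universe u

variable {G : Type u} [Group G] [Finite G] {A B C E H K L L' M N O P Q R S T U V W X Y Y' Z D : Subgroup G}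
  {a b c d e g j l t u w x y z : G} {n p r s : ℕ} {Ω : Type u} [MulAction G Ω] {α β γ δ : Ω}

theorem ii (h1 : d * y * d⁻¹ = y⁻¹) (h2 : e * y * e⁻¹ = y⁻¹) : d * e ∈ Cx(y) := mem_Cx'.2 (by
  rw [show d * e * y * (d * e)⁻¹ = d * (e * y * e⁻¹) * d⁻¹ by group, h2, ← conj_inv, h1, inv_inv])
theorem ic (h1 : d * y * d⁻¹ = y⁻¹) (h2 : e ∈ Cx(y)) : d * e * y * (d * e)⁻¹ = y⁻¹ := by
  rw [show d * e * y * (d * e)⁻¹ = d * (e * y * e⁻¹) * d⁻¹ by group, mem_Cx'.1 h2, h1]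
theorem ci (h1 : d ∈ Cx(y)) (h2 : e * y * e⁻¹ = y⁻¹) : d * e * y * (d * e)⁻¹ = y⁻¹ := by
  rw [show d * e * y * (d * e)⁻¹ = d * (e * y * e⁻¹) * d⁻¹ by group, h2, ← conj_inv, mem_Cx'.1 h1]

theorem exists_E [hp : Fact p.Prime] (hA : EAb 2 A) (h8 : 8 ≤ Nat.card A) (h1 : A ≤ K) (h2 : K ≤ Nm(A))
    (tr : ∀ a ∈ A, a ≠ 1 → ∀ b ∈ A, b ≠ 1 → ∃ g ∈ K, g * a * g⁻¹ = b) (hU : IsPGroup p U) (ho : OddS U)
    (hn : K ≤ Nm(U)) (hc : ¬ U ≤ Cz(A)) : ∃ E, E ≤ U ∧ Ab E ∧ ¬ IsCyclic E ∧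
      ∃ b ∈ A, b ≠ 1 ∧ ∃ c ∈ A, c ≠ 1 ∧ ∀ y ∈ E, b ∈ Cx(y) ∧ c * y * c⁻¹ = y⁻¹ := by
  have s : SCl A A := ⟨le_rfl, hA, fun T h _ _ _ hu _ => h hu⟩
  obtain ⟨V, ⟨v1, v2⟩, v3, v4⟩ := exists_minimal_le (fun V => K ≤ Nm(V) ∧ ¬ V ≤ Cz(A)) (A := U) ⟨hn, hc⟩
  have oV := ho.of_le v3
  have d : ⁅V, V⁆ ≤ Cz(A) := by
    by_contra e
    exact (Sol.der_lt (OddS.sol oV) fun e' => v2 (e' ▸ bot_le)).ne
      (v4 _ ⟨v1.trans (Nm_le_Nm_der V), e⟩ (der_le V))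
  obtain ⟨B, hB, ⟨a, ha, e⟩, f⟩ : ∃ B ≤ A, (∃ a ∈ A, A ≤ B ⊔ zpowers a) ∧ ¬ V ⊓ Cz(B) ≤ Cz(A) := by
    by_contra! k
    exact v2 (le_of_cocyclic hA.1 (h1.trans v1) (cop2 s.pA oV) k)
  obtain ⟨x, hx, x1, i⟩ := BS.Bn.exists_inverted (R := V ⊓ Cz(B)) (s.sq ha)
    (mem_Nm_inf (v1 (h1 ha)) (mem_Nm_Cz (le_Nm_of_ab hA.1 hB ha))) fun k => f (le_Cz_comm (e.trans
      (sup_le (le_Cz_comm inf_le_right) (zpowers_le.2 k))))
  nth_rw 2 [← s.inv ha] at i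
  have ox := OddS.ord oV hx.1
  have cB : ∀ b ∈ B, b ∈ Cx(x) := fun b hb => mem_Cx.2 (mem_centralizer_iff.1 hx.2 b hb)
  have sg : ∀ d ∈ A, d ∈ Cx(x) ∨ d * x * d⁻¹ = x⁻¹ := fun d hd => (hyp_or hA hB ha e hd).imp (cB d) fun k => by
    simpa only [mul_assoc d a a, s.sq ha, mul_one] using ci (cB _ k) i
  have ni : ∀ {d y : G}, Odd (orderOf y) → y ≠ 1 → d * y * d⁻¹ = y⁻¹ → d ∉ Cx(y) := fun o y1 i k =>
    y1 (eq_one_of_inv o (i.symm.trans (mem_Cx'.1 k)))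
  have out := fun (l : List G) (hl : l.length < 8) => exists_out (C := ⊥) (Z := A) l (by rw [relIndex_bot_left]; omega)
  obtain ⟨b, hb, b1, b2⟩ : ∃ b ∈ A, b ≠ 1 ∧ b ∈ Cx(x) := by
    obtain ⟨z, hz, k⟩ := out [1, a] (by simp)
    simp only [List.mem_cons, List.not_mem_nil, or_false, forall_eq_or_imp, forall_eq, one_mul, mem_bot] at k
    exact (sg z hz).elim (fun j => ⟨z, hz, k.1, j⟩) fun j => ⟨_, mul_mem ha hz, k.2, ii i j⟩
  obtain ⟨g, hg, k⟩ := tr b hb b1 a ha fun e => ni ox x1 i (e ▸ one_mem _)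
  have hx' := conj_mem_of_mem_normalizer (v1 hg) hx.1
  have ox' := OddS.ord oV hx'
  have x1' : g * x * g⁻¹ ≠ 1 := by simpa using x1
  have ci' : ∀ {d}, d * x * d⁻¹ = x⁻¹ → g * d * g⁻¹ * (g * x * g⁻¹) * (g * d * g⁻¹)⁻¹ = (g * x * g⁻¹)⁻¹ :=
    fun {d} j => by rw [conj_inv, conj_inv, ← j]; group
  have cc : ∀ {d}, d ∈ Cx(x) → g * d * g⁻¹ ∈ Cx(g * x * g⁻¹) := fun j => cj_Cx g x ▸ conj_mem_cj g j
  have sg' : ∀ d ∈ A, d ∈ Cx(g * x * g⁻¹) ∨ d * (g * x * g⁻¹) * d⁻¹ = (g * x * g⁻¹)⁻¹ := fun d hd => by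
    simpa only [mul_assoc, mul_inv_cancel_left, mul_inv_cancel, mul_one, inv_inv] using
      (sg _ (conj_mem_of_mem_normalizer (inv_mem (h2 hg)) hd)).imp cc ci'
  have i' := k ▸ cc b2
  have i2 := ci' i
  have ha' := conj_mem_of_mem_normalizer (h2 hg) ha
  generalize g * a * g⁻¹ = a' at ha' i2
  generalize g * x * g⁻¹ = x' at hx' ox' x1' sg' i' i2
  obtain ⟨c, hc, c1, c2⟩ : ∃ c ∈ A, c * x * c⁻¹ = x⁻¹ ∧ c * x' * c⁻¹ = x'⁻¹ :=
    (sg a' ha').elim (fun j => ⟨_, mul_mem ha ha', ic i j, ci i' i2⟩) fun j => ⟨_, ha', j, i2⟩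
  obtain ⟨b, hb, b1, b2, b3⟩ : ∃ b ∈ A, b ≠ 1 ∧ b ∈ Cx(x) ∧ b ∈ Cx(x') := by
    obtain ⟨z, hz, k⟩ := out [1, a, c, a * c] (by simp)
    simp only [List.mem_cons, List.not_mem_nil, or_false, forall_eq_or_imp, forall_eq, one_mul, mem_bot] at k
    rcases sg z hz with j | j <;> rcases sg' z hz with j' | j'
    · exact ⟨z, hz, k.1, j, j'⟩
    · exact ⟨_, mul_mem (mul_mem ha hc) hz, k.2.2.2, mul_mem (ii i c1) j, ii (ci i' c2) j'⟩
    · exact ⟨_, mul_mem ha hz, k.2.1, ii i j, mul_mem i' j'⟩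
    · exact ⟨_, mul_mem hc hz, k.2.2.1, ii c1 j, ii c2 j'⟩
  have cm : x ∈ Cx(x') := by
    have k1 := mem_centralizer_iff.1 (d (commutator_mem_commutator hx.1 hx')) a ha
    have k2 : x * ⁅x, x'⁆ * x⁻¹ = ⁅x, x'⁆⁻¹ := by
      have : a * ⁅x, x'⁆ * a⁻¹ = ⁅a * x * a⁻¹, a * x' * a⁻¹⁆ := by simp [commutatorElement_def, mul_assoc]
      rw [k1, i, mem_Cx'.1 i', mul_inv_cancel_right] at this
      nth_rw 1 [this]
      simp [commutatorElement_def, mul_assoc]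
    exact mem_Cx.2 (commutatorElement_eq_one_iff_mul_comm.1 (eq_one_of_inv (OddS.ord oV (cm_mem hx.1 hx'))
      (cx_of_inv ox k2)))
  have l : zpowers x ⊔ zpowers x' ≤ V := sup_le (zpowers_le.2 hx.1) (zpowers_le.2 hx')
  have nz : ∀ {d y : G}, d * y * d⁻¹ = y⁻¹ ∨ d ∈ Cx(y) → d ∈ Nm(zpowers y) := fun {d y} j =>
    mem_normalizer_of_cj_le (by
      rw [cj_zpowers, zpowers_le]
      exact j.elim (fun j => j ▸ inv_mem (mem_zpowers y)) fun j => (mem_Cx'.1 j).symm ▸ mem_zpowers y)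
  have ab : Ab (zpowers x ⊔ zpowers x') := ab_of_le_Cz (by
    rw [Cz_sup, Cz_zpowers, Cz_zpowers]
    exact le_inf (sup_le (zpowers_le.2 (mem_Cx.2 rfl)) (zpowers_le.2 (cx_symm cm)))
      (sup_le (zpowers_le.2 cm) (zpowers_le.2 (mem_Cx.2 rfl))))
  refine ⟨_, l.trans v3, ab, fun cy => ni ox x1 i (cx_symm (le_Cx_iff.2 (mem_Cz_of_isCyclic (hU.to_le (l.trans v3)) cy
    ?_ (mem_Nm_sup (nz (.inl i)) (nz (.inr i'))) (mem_sup_right (mem_zpowers x')) x1' i')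
      (mem_sup_left (mem_zpowers x)))), b, hb, b1, c, hc, fun e => ni ox x1 c1 (e ▸ one_mem _), fun y hy => ⟨?_, ?_⟩⟩
  · exact ((cop2 (p2_zp (s.sq ha)) ho).coprime_dvd_left (by rw [Nat.card_zpowers])).coprime_dvd_right
      (dvd_card_of_ne_bot hU (ne_bot_of_mem (v3 hx.1) x1))
  · exact cx_symm (sup_le (zpowers_le.2 (cx_symm b2)) (zpowers_le.2 (cx_symm b3)) hy)
  · obtain ⟨_, ⟨i, rfl⟩, _, ⟨j, rfl⟩, rfl⟩ := (mem_sup_of_le_Nm (zpowers_le.2 (nz (.inr cm)))).1 hy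
    rw [← conj_mul (b := c), ← conj_zpow, ← conj_zpow, c1, c2, inv_zpow, inv_zpow, ← mul_inv_rev]
    exact congrArg _ ((Commute.zpow_zpow (mem_Cx.1 cm) i j).eq.symm)

theorem bend [Fact p.Prime] (hE : E ≤ Op p M) (hE' : Y ≤ Op p N) (h1 : Y ≤ M) (h2 : E ≤ N) (ab : Ab E)
    (nc : ¬ IsCyclic E) (h3 : ∀ y ∈ E, y ≠ 1 → Cx(y) ≤ M) (h4 : Cz(Y) ≤ N) (hO : Sol O) (h5 : O ≤ M)
    (h6 : M ≤ Nm(O)) (h7 : Op p M ≤ O) (h8 : Cz(Op p M) ≤ O) : Op' p N ≤ Op' p M := by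
  have pP := isPGroup_pCoreOf (p := p) M
  have pY := (isPGroup_pCoreOf N).to_le hE'
  have nR := le_normalizer_pPrimeCoreOf (p := p) N
  have nP := le_normalizer_pCoreOf (p := p) M
  have k1 : Op' p N ≤ M := le_of_noncyclic ab (h2.trans nR) ((pp_Op' N).cop (pP.to_le hE)).symm nc
    fun y hy y1 => inf_le_right.trans (h3 y hy y1)
  have k2 := (Op'_le_Cz (p := p) N).trans (Cz_anti hE')
  have k3 : Op' p N ≤ Cz(Op p M) := comm_eq_bot_right.1 (thompson_AxB pP pY (pp_Op' N) (h1.trans nP) (k1.trans nP)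
    (comm_eq_bot_right.2 k2) (comm_eq_bot_left.2 (le_Cz_of_Nm (inf_le_right.trans (h4.trans nR))
      (nmI (k1.trans nP) (k2.trans ((Cz_le_Nm Y).trans (Nm_le_Nm_Cz Y))))
      (inf_eq_bot_of_isPGroup_of_coprime (pP.to_le inf_le_left) (pp_Op' N)))))
  have k4 : Op' p N ≤ Cz(Op p M ⊔ Y) := (le_inf k3 k2).trans (Cz_sup _ _).ge
  refine (le_inf (k3.trans h8) ((le_pPrimeCoreOf (le_inf ((k3.trans h8).trans le_sup_right) k4)
    ((inf_le_right.trans ((Cz_anti le_sup_right).trans h4)).trans nR) (pp_Op' N)).trans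
      (Op'_cent_pgrp (H := Y ⊔ O) (sol_sup (sol_of_isPGroup pY) hO (h1.trans h6)) ?_ ?_))).trans
    ((inf_pPrimeCoreOf_le le_sup_right).trans (pPrimeCoreOf_le_of_normal h5 h6))
  · exact sup_comm Y _ ▸ isPGroup_sup pY pP (h1.trans nP)
  · exact sup_le (h7.trans le_sup_right) le_sup_left

namespace EG
variable (h : EG A α)
include h

theorem Nm_eq (h1 : X ≠ ⊥) (h2 : X ≤ St G α) (h3 : St G α ≤ Nm(X)) : Nm(X) = St G α :=
  (h.mx.le_iff.1 h3).resolve_left (h.Nm_ne h1 fun e => h.mx.1 (eq_top_iff.2 (e ▸ h2)))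

theorem tr_fix (t2 : t * t = 1) (tc : t ∈ Cz(A)) (h1 : t • γ = γ) : ∃ g ∈ Cx(t), g • α = γ := by
  obtain ⟨d, d1, d2, d3⟩ := h.exists_cd t2 h1
  obtain ⟨y, hy, f⟩ := h.scl.exists_conj (le_Cx_iff.2 tc) le_top d2 d1.dj
  exact ⟨y⁻¹, inv_mem hy, by rw [inv_smul_eq_iff]; exact h.uniq (d1.conj y) (h.AM f) (fix_cj d3 y)⟩

theorem exists_other (ht : TT A Ω t) (tc : t ∈ Cz(A)) : ∃ g ∈ Cx(t), g ∉ St G α :=
  SetLike.not_le_iff_exists.1 (h.tt_not_le ht α)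

theorem zj [hp : Fact p.Prime] (h2 : p ≠ 2) (hc : ChP p (St G α)) (hE : IsPGroup p E) (h1 : E ≤ St G α) (h0 : E ≠ ⊥)
    (h3 : Cz(E) ≤ St G α) (hj : cj j E ≤ St G α) : j ∈ St G α := by
  have nq : ∀ H : Subgroup G, ¬ Involves (qd p) H := fun H k' => h.three (Dvd.dvd.trans ?_
    ((inv_dvd (Involves.sl_of_qd k')).trans (card_subgroup_dvd_card H)))
  · obtain ⟨T, hT, eT⟩ := exists_sylIn_ge hE h1
    have e := h.Nm_eq (ZJ_ne_bot (dvd_zero p) hT.pgrp (ne_bot_of_le eT h0)) ((ZJ_le T).trans hT.le)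
      (zj_normal h2 hT (sc_self _ _) (nStab_of_not_involves h2 (nq _)) hc)
    have hT' := hT.of_Nm_le le_top (inf_le_right.trans ((Nm_le_Nm_ZJ T).trans e.le))
    obtain ⟨m, hm, f⟩ := hT.exists_cj_le (isPGroup_cj hE j) hj
    obtain ⟨k, hk, f'⟩ := zj_ctrlFus_of_not_involves h2 (dvd_zero p) hT' (sc_self _ _) (nq ⊤) E eT (m * j) trivial
      (by rwa [cj_mul])
    have : k⁻¹ * (m * j) ∈ Cz(E) := mem_centralizer_iff.2 fun x hx => by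
      rw [← mul_left_cancel_iff (a := k), ← mul_right_cancel_iff (a := (m * j)⁻¹), ← mul_assoc, ← mul_assoc, ← f' x hx]
      group
    simpa using mul_mem (inv_mem hm) (mul_mem (e.le hk.2) (h3 this))
  · rw [CfH3.card_SL2 (ZMod.card p)]
    obtain ⟨k, rfl⟩ : ∃ k, p = k + 1 := ⟨p - 1, by have := hp.out.pos; omega⟩
    rw [show (k + 1) ^ 2 - 1 = k * (k + 2) from Nat.sub_eq_of_eq_add (by ring)]
    have : k % 3 = 0 ∨ (k + 1) % 3 = 0 ∨ (k + 2) % 3 = 0 := by omega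
    rcases this with e | e | e
    · exact ((Nat.dvd_of_mod_eq_zero e).mul_right _).mul_left _
    · exact (Nat.dvd_of_mod_eq_zero e).mul_right _
    · exact ((Nat.dvd_of_mod_eq_zero e).mul_left _).mul_left _

theorem odd_of_normal (h1 : X ≤ St G α) (h2 : St G α ≤ Nm(X)) (h3 : A ⊓ X = ⊥) : OddS X := by
  obtain ⟨S, hS, e⟩ := exists_sylIn_ge h.scl.pA (le_top (a := A))
  have l := (h.scl.nm le_top hS.pgrp e).trans h.nA
  have s := (hS.mono l le_top).inf_normal' h2 h1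
  by_contra k
  obtain ⟨z, hz, z1, z2⟩ := exists_mem_center_of_normal hS.pgrp s.pgrp (nmI le_normalizer (l.trans h2))
    (s.ne_bot_iff.2 (even_iff_two_dvd.1 (Nat.not_odd_iff_even.1 k)))
  obtain ⟨m, m1, m2⟩ := CfH3.He.exists_inv_pow fun o => z1 (eq_one_of_odd' o s.pgrp hz)
  exact m1 (mem_bot.1 (h3 ▸ mi (h.mem_of_center hS e (pow_mem z2 m) m2) (pow_mem hz.2 m)))

theorem O_le_aux [hp : Fact p.Prime] (ht : TT A Ω t) (tc : t ∈ Cz(A)) (h0 : A ⊓ Cz(Op p (St G α)) = ⊥) (h2 : p ≠ 2) :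
    Op p (St G α) ⊓ Cx(t) ≤ Cz(A) := by
  by_contra hn
  set P := Op p (St G α)
  have pP : IsPGroup p P := isPGroup_pCoreOf _
  have nP : St G α ≤ Nm(P) := le_normalizer_pCoreOf _
  have PO : P ≤ Op' 2 (St G α) := Op_le_Op' h2 _
  have oP := (odd_O _).of_le PO
  have P0 : P ≠ ⊥ := fun e => hn (by rw [e]; simp)
  have cM := (Cz_le_Nm P).trans (h.Nm_eq P0 (pCoreOf_le _) nP).le
  have cO := le_O cM (nP.trans (Nm_le_Nm_Cz _)) (h.odd_of_normal cM (nP.trans (Nm_le_Nm_Cz _)) h0)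
  obtain ⟨tr, pl⟩ := h.tt_pull ht tc
  have AH := le_Cx_iff.2 tc
  have nO := nm_O Cx(t)
  have OM := h.odd_le le_rfl h.ncyc (odd_O _) (AH.trans nO)
  have n1 : A ≤ Nm(P ⊓ Cx(t)) := nmI (h.AM.trans nP) (AH.trans le_normalizer)
  have cm : ⁅P ⊓ Cx(t), A⁆ ≤ P ⊓ Op' 2 Cx(t) := fun x hx => by
    have x1 := (comm_le_left n1 hx).1
    refine mi x1 (BS.Bn.mem_of_odd h.scl.pA (AH.trans nO) ?_ (OddS.ord oP x1))
    exact ((commutator_mono le_rfl le_sup_left).trans (comm_le_right ((le_inf inf_le_right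
      (inf_le_left.trans (pCoreOf_le _))).trans pl))) hx
  obtain ⟨E, e1, ab, nc, b, hb, b1, c, hc, c1, e2⟩ := exists_E (K := Cx(t) ⊓ Nm(A)) (U := P ⊓ Op' 2 Cx(t)) h.scl.ab
    h.big (le_inf AH le_normalizer) inf_le_right tr (pP.to_le inf_le_left) (oP.of_le inf_le_left)
    (nmI ((inf_le_right.trans h.nA).trans nP) (inf_le_left.trans nO)) fun k => hn (comm_eq_bot_left.1
      (commutator_eq_bot_of_le_of_eq_bot n1 (cop2 h.scl.pA (oP.of_le inf_le_left))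
        (.inl (sol_of_isPGroup h.scl.pA)) cm (comm_eq_bot_left.2 k)))
  · have e3 : ∀ y ∈ E, y ≠ 1 → Cx(y) ≤ St G α := fun y hy y1 => h.special (OddS.ord oP (e1 hy).1) y1
      (dd_self hc c1) (e2 y hy).2 (dd_self hb b1) (e2 y hy).1 (h.AM hb)
    have E0 : E ≠ ⊥ := fun e => nc (e ▸ cyc_bot)
    obtain ⟨y, hy, y1⟩ := exists_ne_one_of_ne_bot E0
    have e4 := (Cz_le_Cx hy).trans (e3 y hy y1)
    have e5 : ∀ g ∈ Cx(t), cj g E ≤ St G α := fun g hg =>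
      (CfFT.cj_le_of_mem_Nm (e1.trans inf_le_right) (nO hg)).trans OM
    obtain ⟨j, hj, j1⟩ := h.exists_other ht tc
    have k := bend (M := St G α) (N := cj j (St G α)) (Y := cj j E) (e1.trans inf_le_left)
      (CfH7.cj_pCoreOf j _ ▸ cj_mono j (e1.trans inf_le_left)) (e5 j hj) (le_cj_iff.2 (e5 _ (inv_mem hj))) ab nc e3
      (cj_centralizer j E ▸ cj_mono j e4) (OddS.sol (odd_O _)) (O_le _) (nm_O _) PO cO
    have k1 : Op' p (St G α) = ⊥ := by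
      by_contra k1
      exact j1 ((h.Nm_eq k1 (pPrimeCoreOf_le _) (le_normalizer_pPrimeCoreOf _)).le
        (mem_normalizer_of_cj_le (cj_Op' j _ ▸ k)))
    have k2 := chP_iff.1 (chP_of_sol (p := p) (OddS.sol (odd_O (St G α)))
      (le_bot_iff.1 ((pPrimeCoreOf_le_of_normal (O_le _) (nm_O _)).trans k1.le)))
    have k3 := pCoreOf_le_pCoreOf_of_normal (p := p) (O_le (St G α)) (nm_O _)
    exact j1 (h.zj h2 (chP_iff.2 ((le_inf (inf_le_right.trans cO) (inf_le_right.trans (Cz_anti k3))).trans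
      (k2.trans k3))) (pP.to_le (e1.trans inf_le_left)) ((e1.trans inf_le_right).trans OM) E0 e4 (e5 j hj))

theorem O_le_Cz (ht : TT A Ω t) (tc : t ∈ Cz(A)) : Op' 2 (St G α) ≤ Cz(A) := by
  by_contra hn
  obtain ⟨p, hp, k⟩ : ∃ p : ℕ, p.Prime ∧ ¬ Op p (Op' 2 (St G α)) ≤ Cz(A) := by
    by_contra! k
    exact hn (le_Cz_comm ((le_inf le_rfl (le_Cz_comm (Fit_le_iff.2 k))).trans
      (coprime_cent_Fit (h.AM.trans (nm_O _)) (cop2 h.scl.pA (odd_O _)) (OddS.sol (odd_O _)))))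
  haveI := Fact.mk hp
  have h2 : p ≠ 2 := by
    rintro rfl
    exact k ((eq_bot_of_isPGroup_of_coprime (isPGroup_pCoreOf _) (pp2 ((odd_O _).of_le (pCoreOf_le _)))).le.trans bot_le)
  have nP := le_normalizer_pCoreOf (p := p) (St G α)
  have h0 := (h.irr _ inf_le_left (nmI le_rfl ((h.nA.trans nP).trans (Nm_le_Nm_Cz _)))).resolve_right fun e =>
    k ((pCoreOf_le_pCoreOf_of_normal (O_le _) (nm_O _)).trans (le_Cz_comm (e.ge.trans inf_le_right)))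
  obtain ⟨a, ha, a1⟩ := exists_ne_one_of_ne_bot h.ne_bot
  have ta := mem_centralizer_iff.1 tc a ha
  have V : EAb 2 (zpowers t ⊔ zpowers a) := eab_sup_zpowers (CfH9.elemAb_zpowers (by rw [pow_two, ht.sq]))
    (by rw [pow_two, h.scl.sq ha]) (Cz_zpowers t ▸ mem_Cx.2 ta)
  have va : a ∈ zpowers t ⊔ zpowers a := mem_sup_right (mem_zpowers a)
  have vt : t ∈ zpowers t ⊔ zpowers a := mem_sup_left (mem_zpowers t)
  refine a1 (mem_bot.1 (h0 ▸ mi ha (le_Cx_iff.1 (le_of_noncyclic V.1 (sup_le (zpowers_le.2 (nP (h.nA (Cz_le_Nm _ tc))))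
    (zpowers_le.2 (nP (h.AM ha)))) (cop2 (elemAb_isPGroup V) ((odd_O _).of_le (Op_le_Op' h2 _))) (fun cy => ?_) fun x hx x1 => ?_))))
  · obtain ⟨x, e⟩ := cyc_iff.1 cy
    have x2 : x * x = 1 := by rw [← pow_two]; exact V.2 x (e ▸ mem_zpowers x)
    rw [← e] at va vt
    exact ht.nd (((mem_zp2 x2 vt).resolve_left ht.ne).trans ((mem_zp2 x2 va).resolve_left a1).symm ▸ dj_self ha)
  · have l := (Cz_le_Cx ha)
    rcases hyp_or V le_sup_left va le_rfl hx with e | e <;> rcases mem_zp2 ht.sq e with e | e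
    · exact (x1 e).elim
    · exact e ▸ (h.O_le_aux ht tc h0 h2).trans l
    · rw [eq_inv_of_mul_eq_one_left e, h.scl.inv ha]; exact inf_le_right
    · rw [eq_mul_inv_of_mul_eq e, h.scl.inv ha]
      exact (h.O_le_aux (h.tt_mul ht tc ha) (mul_mem tc (h.cz ha)) h0 h2).trans l

theorem St_eq (ht : TT A Ω t) : St G α = Nm(A) := by
  obtain ⟨g, tc⟩ := h.tt_cz ht
  exact le_antisymm ((h.le_sup (ht.conj g) tc).trans (sup_le ((h.O_le_Cz (ht.conj g) tc).trans (Cz_le_Nm _)) le_rfl)) h.nA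

end EG

end CfH5.S3
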