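import Cfsg.Agent.S3.K

/-! Counting points: no involution outside the class of `A` has two fixed points. -/

set_option autoImplicit false
set_option linter.unusedSectionVars false

namespace CfH5.S3

open Cfsg CfH9 CfH7 CfH8 CfH1 CfFT Subgroup
open T3 (nmI nmS pp2 odd2)
open BS.Bn (St mem_St St_smul fix_cj)
open CfH3.He (exists_inv_pow)
open scoped commutatorElement IsMulCommutative

universe u

variable {G : Type u} [Group G] [Finite G] {A B C E H K L L' M N O P Q R S T U V W X Y Y' Z D : Subgroup G}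
  {a b d e g j l t u w x y z : G} {n p r s : ℕ} {Ω : Type u} [MulAction G Ω] {α β γ δ : Ω}

theorem ncard_orb (K : Subgroup G) (γ : Ω) : {δ | ∃ g ∈ K, g • γ = δ}.ncard = (St G γ).relIndex K := by
  have e : MulAction.stabilizer K γ = (St G γ).subgroupOf K := by ext g; rfl
  rw [relIndex, ← e, MulAction.index_stabilizer]
  congr 1; ext y
  exact ⟨fun ⟨g, a, b⟩ => ⟨⟨g, a⟩, b⟩, fun ⟨g, b⟩ => ⟨g, g.2, b⟩⟩

theorem ncard_reg (h : ∀ g ∈ K, g • γ = γ → g = 1) : {δ | ∃ g ∈ K, g • γ = δ}.ncard = Nat.card K := by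
  rw [ncard_orb, ← CfH1.card_inf_mul_relIndex (St G γ) K, show St G γ ⊓ K = ⊥ from eq_bot_iff.2 fun g hg => h g hg.2 hg.1]
  simp

theorem even_ncard [Finite Ω] {F : Set Ω} (j2 : j * j = 1) (h1 : ∀ x ∈ F, j • x ∈ F) (h2 : ∀ x ∈ F, j • x ≠ x) :
    Even F.ncard := by
  classical
  have := Finset.sum_involution (s := F.toFinite.toFinset) (f := fun _ => (1 : ZMod 2)) (fun x _ => j • x)
    (fun _ _ => rfl) (fun x hx _ => h2 x (by simpa using hx)) (fun x hx => by simpa using h1 x (by simpa using hx))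
    fun x _ => by rw [smul_smul, j2, one_smul]
  rwa [Finset.sum_const, nsmul_eq_mul, mul_one, ZMod.natCast_eq_zero_iff_even, ← Set.ncard_eq_toFinset_card] at this

structure LS (A L Q D : Subgroup G) (w : G) (n : ℕ) : Prop extends SD' A L Q D w n where
  AL : A ≤ L

namespace LS
variable (c : LS A L Q D w n)
include c

theorem AQ : A ≤ Q := (le_inf le_rfl c.AL).trans c.ZQ
theorem cardA : Nat.card A = 2 ^ n := by simpa [inf_eq_left.2 c.AL] using c.toSD'.card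
theorem card_of (h : X ≤ L) : (Cz(L)).relIndex X = Nat.card X := by
  rw [← CfH1.card_inf_mul_relIndex Cz(L) X, show Cz(L) ⊓ X = ⊥ from eq_bot_iff.2 fun g hg => c.eq_one (h hg.2) hg.1]
  simp
theorem card_L : Nat.card L = 2 ^ n * 2 ^ n * (2 ^ n - 1) * (2 ^ n * 2 ^ n + 1) := c.card_of le_rfl ▸ c.cardL
theorem card_D : Nat.card D = 2 ^ n - 1 := c.card_of c.DL ▸ c.cardH
theorem card_Q : Nat.card Q = 2 ^ n * 2 ^ n := by rw [← CfH9.card_mul_relIndex c.ZQ, c.cardQ, c.toSD'.card]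
theorem invQ (hx : x ∈ Q) (e : x * x = 1) : x ∈ A := (c.inv x (c.QL hx) (le_normalizer hx) (e ▸ one_mem _)).1
theorem invol (hx : x ∈ L) (e : x * x = 1) : Dj A L x := by
  obtain ⟨g, hg, f⟩ := c.syl.exists_conj_mem hx (k := 1) (by rw [pow_one, pow_two, e])
  exact (dj_self (c.invQ f (by rw [conj_mul, e]; simp))).of_conj hg
theorem tr (ha : a ∈ A) (a1 : a ≠ 1) (hb : b ∈ A) (b1 : b ≠ 1) : ∃ d ∈ D, d * a * d⁻¹ = b := by
  obtain ⟨d, hd, e⟩ := c.trans a (mi ha (c.AL ha)) (c.not_mem (c.AL ha) a1) b (mi hb (c.AL hb)) (c.not_mem (c.AL hb) b1)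
  have := c.DL hd
  exact ⟨d, hd, mul_inv_eq_one.1 (c.eq_one (mul_mem (mul_mem (mul_mem this (c.AL ha)) (inv_mem this))
    (inv_mem (c.AL hb))) e)⟩
theorem nmQ (hg : g ∈ L) (h : g ∈ Nm(A)) : g ∈ Nm(Q) := by
  obtain ⟨u, hu, u1⟩ := c.exists_ne
  exact c.ti g hg u (c.ZQ hu) (c.not_mem hu.2 u1) (le_normalizer (c.AQ (conj_mem_of_mem_normalizer h hu.1)))
theorem wA : w ∉ Nm(A) := fun e => c.wQ (c.nmQ c.wL e)
theorem idxA : (Nm(A)).relIndex L = 2 ^ n * 2 ^ n + 1 := by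
  rw [← c.idx, ← inf_relIndex_right, ← inf_relIndex_right Nm(Q)]
  congr 1
  exact le_antisymm (fun g hg => mi (c.nmQ hg.2 hg.1) hg.2) fun g hg => mi (c.nA (mi hg.2 hg.1)) hg.2
theorem pow_inv (hx : x ∈ Q) (x1 : x ≠ 1) : ∃ m, x ^ m ∈ A ∧ x ^ m ≠ 1 :=
  let ⟨m, m1, m2⟩ := exists_inv_pow fun o => x1 (eq_one_of_odd' o c.syl.pgrp hx)
  ⟨m, c.invQ (pow_mem hx m) m2, m1⟩
theorem dw : DD A w := ⟨fun e => c.wA (e ▸ one_mem _), let ⟨a, ha, g, _, e⟩ := c.invol c.wL c.w_w; ⟨a, ha, g, trivial, e⟩⟩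

end LS

namespace EG
variable (h : EG A α) (hM : St G α = Nm(A))
include h hM

theorem comp (h1 : H ≠ ⊤) (h2 : A ≤ H) (h3 : ¬ H ≤ St G α) :
    ∃ L Q D w n, LS A L Q D w n ∧ L ≤ H ∧ H ≤ Nm(L) ∧ L ⊔ (H ⊓ Nm(A)) = H := by
  have s := h.sc h2
  have n1 := h2.trans (nm_O H)
  have hc := le_Cz_of_Nm n1 ((h.odd_le le_rfl h.ncyc (odd_O H) n1).trans hM.le) (cop2 s.pA (odd_O H)).inf_eq_bot
  obtain ⟨L, hL, l1, l2⟩ := s.exists_cp (h.ks H h1) hc (inf_le_right.trans h.nA) h3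
  obtain ⟨a, b, c⟩ := s.uniq (h.ks H h1) hc hL l1 (eq_bot_iff.2 fun a ha => by
    by_contra a1
    exact l2 ((le_Cx_iff.2 ha.2).trans (h.cA a ha.1 a1)))
  obtain ⟨Q, Z, D, w, n, e⟩ := s.cd' (h.ks H h1) hL
  exact ⟨L, Q, D, w, n, ⟨h.sd e l1, a⟩, hL.le, b, c⟩

theorem ddA (hd : DD A d) (h1 : d • α = α) : d ∈ A := h.scl.dmem_of_nm hd.dj (hM ▸ h1)

theorem dd_comm (hd : DD A d) (he : DD A e) (h1 : d • γ = γ) (h2 : e • γ = γ) : d * e = e * d := by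
  obtain ⟨g, rfl⟩ := h.tr γ
  have := h.scl.comm (h.ddA hM (hd.conj g⁻¹) (by simpa using fix_cj h1 g⁻¹))
    (h.ddA hM (he.conj g⁻¹) (by simpa using fix_cj h2 g⁻¹))
  rw [conj_mul, conj_mul] at this
  simpa using this

theorem nfix (ho : Odd (orderOf y)) (y1 : y ≠ 1) (hd : DD A d) (h1 : d * y * d⁻¹ = y⁻¹) (h2 : d • γ = γ)
    (h3 : y • γ = γ) : False := by
  have e := h.dd_comm hM hd (hd.conj y) h2 (by rw [← h3]; exact fix_cj h2 y)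
  have f : d * (y * d * y⁻¹) = y⁻¹ * y⁻¹ := by
    rw [← mul_assoc, ← mul_assoc]; nth_rw 2 [← h.inv hd]; rw [h1]
  refine y1 (inv_eq_one.1 (eq_one_of_odd (k := 2) (by rwa [orderOf_inv]) ?_))
  rw [show y⁻¹ ^ 2 ^ 2 = y⁻¹ * y⁻¹ * (y⁻¹ * y⁻¹) by simp [pow_succ, mul_assoc], ← f]
  nth_rw 1 [e]
  rw [mul_assoc, ← mul_assoc d, h.sq hd, one_mul, h.sq (hd.conj y)]

theorem noc (ho : Odd (orderOf y)) (y1 : y ≠ 1) (hd : DD A d) (h1 : d * y * d⁻¹ = y⁻¹) (he : DD A e)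
    (h2 : e ∈ Cx(y)) : False :=
  let ⟨_, f⟩ := h.exists_fix he
  h.nfix hM ho y1 hd h1 (h.special0 ho y1 hd h1 he h2 f) (h.cent he f (cx_symm h2))

theorem tt_cent (hu : TT A Ω u) (h1 : u • γ = γ) (he : DD A e) (h2 : e • γ = γ) : e ∈ Cx(u) := by
  obtain ⟨g, tc⟩ := h.tt_cz hu
  obtain ⟨k, hk, f⟩ := h.tr_fix (hu.conj g).sq tc (fix_cj h1 g)
  have := le_Cx_iff.2 tc (h.ddA hM (he.conj (k⁻¹ * g)) (by
    simpa only [mul_smul k⁻¹ g, ← f, inv_smul_smul] using fix_cj h2 (k⁻¹ * g)))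
  have := mul_mem (mul_mem hk this) (inv_mem hk)
  rw [← cj_Cx, mem_cj] at this
  simpa [mul_assoc] using this

theorem prod (hd : DD A d) (he : DD A e) (h1 : ¬ DD A (d * e)) (h2 : d ≠ e) :
    Odd (orderOf (d * e)) ∧ d * e ≠ 1 ∧ d * (d * e) * d⁻¹ = (d * e)⁻¹ := by
  have y1 : d * e ≠ 1 := fun f => h2 ((eq_inv_of_mul_eq_one_left f).trans (h.inv he))
  obtain ⟨δ, f⟩ := h.exists_fix he
  refine ⟨h.odd_mul hd (fun k => h1 ⟨y1, h.scl.dmul' (h.dd_comm hM hd he k f) hd.dj he.dj⟩) he f, y1, ?_⟩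
  rw [← mul_assoc, h.sq hd, one_mul, mul_inv_rev, h.inv he]

theorem mid_uniq (t2 : t * t = 1) (h1 : t • γ ≠ γ) (hd : DD A d) (he : DD A e) (d1 : d ∈ Cx(t)) (e1 : e ∈ Cx(t))
    (d2 : TT A Ω (t * d)) (e2 : TT A Ω (t * e)) (d3 : (t * d) • γ = γ) (e3 : (t * e) • γ = γ) : d = e := by
  by_contra k
  have f : t * d * (t * e) = d * e := by rw [← mem_Cx.1 d1, mul_assoc, ← mul_assoc t, t2, one_mul]
  have f1 : (d * e) • γ = γ := by rw [← f, mul_smul, e3, d3]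
  obtain ⟨o, y1, i⟩ := h.prod hM hd he (fun j => h1 (h.cent j f1 (cx_symm (mul_mem d1 e1)))) k
  obtain ⟨b, hb, b1⟩ := h.exists_dd γ
  exact h.noc hM o y1 hd i hb (cx_symm (f ▸ mul_mem (cx_symm (h.tt_cent hM d2 d3 hb b1))
    (cx_symm (h.tt_cent hM e2 e3 hb b1))))

theorem semi (c : LS A L Q D w n) (h1 : γ ≠ α) (hx : x ∈ Q) (e : x • γ = γ) : x = 1 := by
  by_contra x1
  obtain ⟨m, m1, m2⟩ := c.pow_inv hx x1
  exact h1 (h.uniq (dd_self m1 m2) (pow_mem (mem_St.2 e) m) (h.AM m1))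

end EG

structure FS (A : Subgroup G) (α : Ω) (t : G) (L Q D : Subgroup G) (w : G) (n : ℕ) : Prop where
  eg : EG A α
  tt : TT A Ω t
  tc : t ∈ Cz(A)
  ls : LS A L Q D w n
  le : L ≤ Cx(t)
  nm : Cx(t) ≤ Nm(L)
  sup : L ⊔ (Cx(t) ⊓ Nm(A)) = Cx(t)

theorem EG.fs (h : EG A α) (ht : TT A Ω t) (tc : t ∈ Cz(A)) : ∃ L Q D w n, FS A α t L Q D w n :=
  let ⟨L, Q, D, w, n, a, b, c, d⟩ := h.comp (h.St_eq ht) (h.Cx_ne ht.ne) (le_Cx_iff.2 tc) (h.tt_not_le ht α)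
  ⟨L, Q, D, w, n, h, ht, tc, a, b, c, d⟩

namespace FS
variable (f : FS A α t L Q D w n)
include f

theorem hM : St G α = Nm(A) := f.eg.St_eq f.tt
theorem fin : Finite Ω := Finite.of_surjective (fun g : G => g • α) f.eg.tr
theorem tα : t • α = α := f.eg.nA (Cz_le_Nm _ f.tc)
theorem fixL (hl : l ∈ L) : t • l • γ = l • γ ↔ t • γ = γ := by
  rw [smul_smul, ← mem_Cx.1 (f.le hl), mul_smul, smul_left_cancel_iff]

theorem orb : t • γ = γ ↔ ∃ l ∈ L, l • α = γ := by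
  refine ⟨fun e => ?_, by rintro ⟨l, hl, rfl⟩; exact (f.fixL hl).2 f.tα⟩
  obtain ⟨g, hg, rfl⟩ := f.eg.tr_fix f.tt.sq f.tc e
  obtain ⟨l, hl, m, hm, rfl⟩ := (mem_sup_of_le_Nm' (inf_le_left.trans f.nm)).1 (f.sup.ge hg)
  exact ⟨l, hl, by rw [mul_smul, mem_St.1 (f.eg.nA hm.2)]⟩

theorem card_fix0 : {γ : Ω | t • γ = γ}.ncard = Nat.card A * Nat.card A + 1 := by
  rw [f.ls.cardA, ← f.ls.idxA, ← f.hM, ← ncard_orb]
  exact congrArg _ (Set.ext fun _ => f.orb)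

theorem trQ (ha : a ∈ A) (h1 : γ ≠ α) (h2 : δ ≠ α) (e1 : (t * a) • γ = γ) (e2 : (t * a) • δ = δ) :
    ∃ x ∈ Q, x • γ = δ := by
  haveI := f.fin
  obtain ⟨_, _, _, _, _, f'⟩ := f.eg.fs (f.eg.tt_mul f.tt f.tc ha) (mul_mem f.tc (f.eg.cz ha))
  refine (Set.eq_of_subset_of_ncard_le (s := {δ | ∃ x ∈ Q, x • γ = δ}) (t := {γ | (t * a) • γ = γ} \ {α}) ?_ ?_).ge
    ⟨e2, h2⟩
  · rintro _ ⟨x, hx, rfl⟩
    refine ⟨?_, fun e => h1 ?_⟩
    · have := mem_Cx.1 (cx_symm (mul_mem (cx_symm (f.le (f.ls.QL hx))) (le_Cx_iff.2 (f.ls.qc hx) ha)))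
      rw [Set.mem_ofPred, smul_smul, ← this, mul_smul, e1]
    · rw [← inv_smul_smul x γ, Set.mem_singleton_iff.1 e]
      exact inv_mem (f.eg.nA (Cz_le_Nm _ (f.ls.qc hx)))
  · rw [ncard_reg fun x hx => f.eg.semi f.hM f.ls h1 hx, Set.ncard_sdiff_singleton_of_mem (s := {γ | (t * a) • γ = γ}) f'.tα, f'.card_fix0,
      f.ls.card_Q, f.ls.cardA]
    simp

theorem dL (hd : DD A d) (h1 : d ∈ Cx(t)) : d ∈ L := by
  obtain ⟨y, hy, e⟩ := f.eg.scl.exists_conj (le_Cx_iff.2 f.tc) le_top h1 hd.dj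
  simpa [mul_assoc] using conj_mem_of_mem_normalizer (f.nm (inv_mem hy)) (f.ls.AL e)

theorem red (h1 : t • γ ≠ γ) (ha : a ∈ A) (a1 : a ≠ 1) : ∃ l ∈ L, (t * a) • l • γ = l • γ ∧ l • γ ≠ α := by
  obtain ⟨d, hd, d1, d2, -⟩ := f.eg.cov' f.tt.sq f.tt.nd h1
  obtain ⟨y, hy, e⟩ := f.eg.scl.exists_conj f.ls.AL le_top (f.dL hd d1) hd.dj
  obtain ⟨k, hk, e'⟩ := f.ls.tr e (hd.conj y).ne ha a1
  have l := mul_mem (f.ls.DL hk) hy
  refine ⟨_, l, ?_, fun e => h1 ((f.fixL l).1 (e ▸ f.tα))⟩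
  have := fix_cj d2 (k * y)
  rwa [← conj_mul (b := k * y), mem_Cx'.1 (f.le l), show k * y * d * (k * y)⁻¹ = a by rw [← e']; group] at this

theorem out_tr (h1 : t • γ ≠ γ) (h2 : t • δ ≠ δ) : ∃ l ∈ L, l • γ = δ := by
  obtain ⟨a, ha, a1⟩ := exists_ne_one_of_ne_bot f.eg.ne_bot
  obtain ⟨l, hl, l1, l2⟩ := f.red h1 ha a1
  obtain ⟨k, hk, k1, k2⟩ := f.red h2 ha a1
  obtain ⟨x, hx, e⟩ := f.trQ ha l2 k2 l1 k1
  exact ⟨_, mul_mem (mul_mem (inv_mem hk) (f.ls.QL hx)) hl, by rw [mul_smul, mul_smul, e, inv_smul_smul]⟩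

theorem out_reg (h1 : t • γ ≠ γ) (hg : g ∈ L) (e : g • γ = γ) : g = 1 := by
  obtain ⟨a, ha, a1⟩ := exists_ne_one_of_ne_bot f.eg.ne_bot
  obtain ⟨l, hl, l1, l2⟩ := f.red h1 ha a1
  have k := mul_mem (mul_mem hl hg) (inv_mem hl)
  have k1 := fix_cj e l
  have u := f.eg.tt_mul f.tt f.tc ha
  have u1 := u.conj (l * g * l⁻¹)
  have u2 := fix_cj l1 (l * g * l⁻¹)
  rw [← conj_mul (b := l * g * l⁻¹), mem_Cx'.1 (f.le k)] at u1 u2
  rw [k1] at u2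
  have c := le_Cx_iff.2 f.tc ha
  have := f.eg.mid_uniq f.hM f.tt.sq (fun e => h1 ((f.fixL hl).1 e)) ((dd_self ha a1).conj _) (dd_self ha a1)
    (mul_mem (mul_mem (f.le k) c) (inv_mem (f.le k))) c u1 u u2 l1
  simpa using f.eg.semi f.hM f.ls l2 (f.ls.cit' k (mi ha (f.ls.AL ha)) (f.ls.not_mem (f.ls.AL ha) a1)
    (mem_Cx'.2 this)) k1

theorem card_pts : (Set.univ : Set Ω).ncard = Nat.card A * Nat.card A + 1 + Nat.card L := by
  haveI := f.fin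
  obtain ⟨γ, e⟩ := f.eg.exists_moved f.tt.ne
  rw [← f.card_fix0, ← ncard_reg fun g hg => f.out_reg e hg, ← Set.union_compl_self {γ : Ω | t • γ = γ},
    Set.ncard_union_eq disjoint_compl_right]
  congr 2; ext δ
  exact ⟨f.out_tr e, by rintro ⟨l, hl, rfl⟩ k; exact e ((f.fixL hl).1 k)⟩

theorem wα : w • α ≠ α := fun e => f.ls.wA (f.hM ▸ e)

theorem nmL (h1 : g • α = α) (h2 : g • w • α = w • α) : g ∈ Nm(L) := by
  have l : A ⊔ cj w A ≤ L := sup_le f.ls.AL (CfFT.cj_le_of_mem f.ls.AL f.ls.wL)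
  obtain ⟨a, ha, a1⟩ := exists_ne_one_of_ne_bot f.eg.ne_bot
  obtain ⟨K, Q', D', w', n', c, k1, k2, -⟩ := f.eg.comp f.hM (H := Nm(A ⊔ cj w A))
    (f.eg.Nm_ne (ne_bot_of_le le_sup_left f.eg.ne_bot) fun e => f.eg.Cx_ne f.tt.ne
      (eq_top_iff.2 (e.ge.trans (l.trans f.le)))) (le_sup_left.trans le_normalizer) fun e => f.wα
        (f.eg.fix0 (dd_self ha a1) (f.eg.AM ha) (e (le_normalizer (mem_sup_right (conj_mem_cj w ha)))))
  have k3 := (c.le_nclo c.nc).trans (nclo_le k1 (inf_le_left.trans le_sup_left))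
  have k4 := eq_of_le_of_card_ge (k3.trans l) (by rw [c.card_L, f.ls.card_L, ← c.cardA, ← f.ls.cardA])
  rw [← le_antisymm l (k4.ge.trans k3)]
  refine mem_Nm_sup (f.hM ▸ h1) ?_
  rw [← cj_normalizer, ← f.hM, ← St_smul]
  exact h2

variable (ho : Odd (orderOf y)) (y1 : y ≠ 1) (hj : DD A j) (i : j * y * j⁻¹ = y⁻¹) (h1 : y • α = α)
  (h2 : y • w • α = w • α)
include ho y1 hj i h1 h2

theorem fix_in (h3 : y • γ = γ) (h4 : t • γ = γ) : γ = α ∨ γ = w • α := by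
  refine or_iff_not_imp_left.2 fun k => ?_
  obtain ⟨x, hx, rfl⟩ := f.trQ (one_mem A) f.wα k (by rw [mul_one]; exact (f.fixL f.ls.wL).2 f.tα) (by rwa [mul_one])
  have n1 := f.nmL h1 h2
  have n2 : y ∈ Nm(A) := f.hM ▸ h1
  have s := f.ls.syl.cj_of_mem_Nm n1
  have n3 := mem_normalizer_of_cj_le (f.ls.syl.le_of_le_Nm' s.pgrp s.le fun g hg => f.ls.nmQ (s.le hg)
    (CfFT.cj_le_of_mem_Nm (f.ls.qc.trans (Cz_le_Nm A)) (le_normalizer n2) hg))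
  have := f.eg.semi f.hM f.ls f.wα (mul_mem (inv_mem hx) (conj_mem_of_mem_normalizer n3 hx)) (by
    rw [mul_smul, inv_smul_eq_iff, mul_smul, mul_smul, inv_smul_eq_iff.2 h2.symm, h3])
  obtain rfl | x1 := eq_or_ne x 1
  · simp
  obtain ⟨m, m1, m2⟩ := f.ls.pow_inv hx x1
  exact (f.eg.noc f.hM ho y1 hj i (dd_self m1 m2) (pow_mem (cx_symm (mem_Cx'.2 (inv_mul_eq_one.1 this).symm)) m)).elim

theorem fix2 (h3 : y • γ = γ) : γ = α ∨ γ = w • α := by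
  haveI := f.fin
  refine (em (t • γ = γ)).elim (f.fix_in ho y1 hj i h1 h2 h3) fun h4 => ?_
  have e := even_ncard (F := {δ : Ω | y • δ = δ}) (f.eg.sq hj) (fun δ hδ => by
    rw [Set.mem_ofPred, smul_smul, show y * j = j * y⁻¹ by nth_rw 1 [← inv_inv y, ← i]; simp [mul_assoc],
      mul_smul, inv_smul_eq_iff.2 (Eq.symm hδ)]) fun δ hδ k => f.eg.nfix f.hM ho y1 hj i k hδ
  have nm : ∀ δ : Ω, t • δ = δ → δ ∉ {δ | ∃ g ∈ L ⊓ Cx(y), g • γ = δ} := by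
    rintro _ k ⟨g, hg, rfl⟩; exact h4 ((f.fixL hg.1).1 k)
  rw [show {δ : Ω | y • δ = δ} = insert α (insert (w • α) {δ | ∃ g ∈ L ⊓ Cx(y), g • γ = δ}) from
    Set.ext fun δ => ⟨fun k => ?_, ?_⟩, Set.ncard_insert_of_notMem (by
      rintro (k | k); exacts [f.wα k.symm, nm _ f.tα k]),
    Set.ncard_insert_of_notMem (nm _ ((f.fixL f.ls.wL).2 f.tα)), ncard_reg fun g hg => f.out_reg h4 (mi1 hg),
    add_assoc, Nat.even_add] at e
  · obtain ⟨z, hz, z1⟩ := exists_orderOf_eq_prime (even_iff_two_dvd.1 (e.2 (by decide)))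
    obtain ⟨a, ha, g, -, k⟩ := f.ls.invol hz.1 (by rw [← pow_two, ← z1, pow_orderOf_eq_one])
    exact (f.eg.noc f.hM ho y1 hj i ⟨fun e => by simp [e] at z1, a, ha, g, trivial, k⟩ hz.2).elim
  · by_cases k' : t • δ = δ
    · exact (f.fix_in ho y1 hj i h1 h2 k k').imp_right .inl
    obtain ⟨l, hl, rfl⟩ := f.out_tr h4 k'
    have := f.out_reg h4 (mul_mem (inv_mem hl) (conj_mem_of_mem_normalizer (f.nmL h1 h2) hl)) (by
      rw [mul_smul, inv_smul_eq_iff, mul_smul, mul_smul, inv_smul_eq_iff.2 h3.symm, k])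
    exact .inr (.inr ⟨l, mi hl (cx_symm (mem_Cx'.2 (inv_mul_eq_one.1 this).symm)), rfl⟩)
  · rintro (rfl | rfl | ⟨g, hg, rfl⟩)
    exacts [h1, h2, by rw [Set.mem_ofPred, smul_smul, ← mem_Cx.1 hg.2, mul_smul, h3]]

omit ho y1 hj i h1 h2

theorem two_trans (h0 : γ ≠ α) : ∃ m ∈ St G α, m • w • α = γ := by
  obtain ⟨a, ha, a1⟩ := exists_ne_one_of_ne_bot f.eg.ne_bot
  obtain ⟨b, hb, k⟩ := exists_out (C := ⊥) (Z := A) [1, a] (by rw [relIndex_bot_left]; have := f.eg.big; simp; omega)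
  simp only [List.mem_cons, List.not_mem_nil, or_false, forall_eq_or_imp, forall_eq, one_mul, mem_bot] at k
  obtain ⟨e, he, e1⟩ := f.eg.exists_dd γ
  obtain ⟨j, hj, j1, j2, -⟩ := f.eg.swap (dd_self ha a1) (f.eg.AM ha) he e1 h0.symm
  obtain ⟨j', hj', j1', j2', -⟩ := f.eg.swap (dd_self hb k.1) (f.eg.AM hb) he e1 h0.symm
  have y2 : (j * j') • α = α := by rw [mul_smul, j2', ← j2, smul_smul, f.eg.sq hj, one_smul]
  have y3 : (j * j') • γ = γ := by rw [mul_smul, BS.Bn.swap_back (f.eg.sq hj') j2', j2]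
  obtain ⟨o, y1, i⟩ := f.eg.prod f.hM hj hj' (fun d => h0 (f.eg.uniq d y3 y2)) fun e => k.2 (by
    rw [← e, ← j1] at j1'
    rw [show b = a by simpa using j1', f.eg.scl.sq ha])
  obtain ⟨s, hs, hd⟩ := Nat.exists_prime_and_dvd (show orderOf (j * j') ≠ 1 by simpa using y1)
  haveI := Fact.mk hs
  obtain ⟨_, ⟨r, rfl⟩, x0⟩ := exists_orderOf_eq_prime (Q := zpowers (j * j')) (p := s) (by rwa [Nat.card_zpowers])
  have so := o.of_dvd_nat hd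
  have x2 : (j * j') ^ r ∈ St G α := zpow_mem (mem_St.2 y2) r
  have x3 : (j * j') ^ r ∈ St G γ := zpow_mem (mem_St.2 y3) r
  have xi : j * (j * j') ^ r * j⁻¹ = ((j * j') ^ r)⁻¹ := by rw [← conj_zpow, i, inv_zpow]
  simp only at x0
  generalize (j * j') ^ r = x at x0 x2 x3 xi
  have ne : ∀ {x : G}, orderOf x = s → x ≠ 1 := fun e e' => hs.one_lt.ne (by rw [← e, e', orderOf_one])
  have pg : ∀ {x : G}, orderOf x = s → IsPGroup s (zpowers x) := fun e =>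
    IsPGroup.of_card (n := 1) (by rw [Nat.card_zpowers, e, pow_one])
  have m := card_modEq_card_inf_Cz (pg x0) (zpowers_le.2 (f.hM ▸ x2))
  rw [Cz_zpowers, show A ⊓ Cx(x) = ⊥ from eq_bot_iff.2 fun c hc => by_contra fun c1 =>
    f.eg.noc f.hM (x0 ▸ so) (ne x0) hj xi (dd_self hc.1 c1) hc.2, card_bot, f.ls.cardA] at m
  obtain ⟨d, hd, d0⟩ := exists_orderOf_eq_prime (Q := D) (p := s)
    (f.ls.card_D ▸ (Nat.modEq_iff_dvd' Nat.one_le_two_pow).1 m.symm)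
  have d1 : d ∈ St G α := f.hM ▸ f.ls.nA (f.ls.HL hd)
  have di := f.ls.w_nm hd
  have d2 : d • w • α = w • α := by
    have := fix_cj (inv_mem d1) w
    rwa [← conj_inv, di, inv_inv] at this
  obtain ⟨T, hT, l⟩ := exists_sylIn_ge (pg d0) (zpowers_le.2 (mi d1 (mem_St.2 d2)))
  have hT' := hT.of_Nm_le inf_le_left fun g hg => mi hg.1 ((f.fix2 (d0 ▸ so) (ne d0) f.ls.dw di d1 d2
    (BS.Bn.fix_Nm (hT.le.trans inf_le_right) hg.2 (l (mem_zpowers d)))).resolve_left fun e =>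
      f.wα (MulAction.injective g (e.trans (Eq.symm hg.1))))
  obtain ⟨m, hm, e⟩ := hT'.exists_conj_mem x2 (k := 1) (by rw [pow_one, ← x0, pow_orderOf_eq_one])
  have x0' : orderOf (m * x * m⁻¹) = s := by rw [CfH9.orderOf_conj', x0]
  refine ⟨m⁻¹, inv_mem hm, inv_smul_eq_iff.2 ((f.fix2 (x0' ▸ so) (ne x0') (hj.conj m) ?_ (hT.le e).1 (hT.le e).2
    (fix_cj x3 m)).resolve_left fun e => h0 (MulAction.injective m (e.trans (Eq.symm hm)))).symm⟩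
  rw [conj_inv, conj_inv, ← xi]; group

theorem false : False := by
  haveI := f.fin
  have e := relIndex_dvd_card' (St G (w • α)) (St G α)
  rw [← ncard_orb, show {δ | ∃ g ∈ St G α, g • w • α = δ} = Set.univ \ {α} from Set.ext fun δ =>
    ⟨by rintro ⟨g, hg, rfl⟩; exact ⟨trivial, fun e => f.wα (MulAction.injective g (e.trans (Eq.symm hg)))⟩,
      fun k => f.two_trans k.2⟩, Set.ncard_sdiff_singleton_of_mem (Set.mem_univ α), f.card_pts, f.ls.card_L,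
    f.ls.cardA] at e
  refine f.eg.three (Dvd.dvd.trans ?_ e)
  obtain ⟨k, rfl⟩ := f.ls.odd
  obtain ⟨r, hr⟩ : ∃ r, 2 ^ (2 * k + 1) = 3 * r + 2 := ⟨2 ^ (2 * k + 1) / 3, by
    have : 2 ^ (2 * k + 1) % 3 = 2 := by rw [pow_succ, pow_mul, Nat.mul_mod, Nat.pow_mod]; simp
    omega⟩
  rw [hr, show 3 * r + 2 - 1 = 3 * r + 1 by omega]
  exact ⟨(3 * r + 2) * (3 * r + 2) * ((3 * r + 2) * (3 * r * r + 3 * r + 1)), Nat.sub_eq_of_eq_add (by ring)⟩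

end FS

theorem EG.no_tt (h : EG A α) (ht : TT A Ω t) : False :=
  let ⟨g, tc⟩ := h.tt_cz ht
  let ⟨_, _, _, _, _, f⟩ := h.fs (ht.conj g) tc
  f.false

end CfH5.S3
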