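import Cfsg.Agent.S3.L
import Cfsg.Agent.BS.Final
import Cfsg.Agent.H2.Orders

/-! A non-abelian finite simple group of order prime to 3 is a Suzuki group. -/

set_option autoImplicit false
set_option linter.unusedSectionVars false

namespace CfH5.S3

open Cfsg CfH9 CfH7 CfH8 CfH1 CfFT Subgroup
open BS.Bn (St mem_St St_smul fix_cj)

universe u

theorem three_dvd (q : ℕ) : 3 ∣ q * (q ^ 2 - 1) := by
  rcases q with _ | k
  · simp
  rw [show (k + 1) ^ 2 - 1 = k * (k + 2) from Nat.sub_eq_of_eq_add (by ring)]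
  have : k % 3 = 0 ∨ (k + 1) % 3 = 0 ∨ (k + 2) % 3 = 0 := by omega
  rcases this with e | e | e
  · exact ((Nat.dvd_of_mod_eq_zero e).mul_right _).mul_left _
  · exact (Nat.dvd_of_mod_eq_zero e).mul_right _
  · exact ((Nat.dvd_of_mod_eq_zero e).mul_left _).mul_left _

theorem suz_of_bender {G : Type u} [Group G] (h : BS.IsBender G) (h3 : ¬ 3 ∣ Nat.card G) : Lie.IsoSuzuki G := by
  rcases h with ⟨F, _, _, -, -, ⟨e⟩⟩ | ⟨F, _, _, q, -, -, hq, ⟨e⟩⟩ | h
  · exact (h3 (by rw [Nat.card_congr e.toEquiv, CfH3.card_SL2 rfl]; exact three_dvd _)).elim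
  · refine (h3 ?_).elim
    have := CfH2.card_PSU hq (n := 3) le_rfl
    rw [← Nat.card_congr e.toEquiv] at this
    simp only [Finset.prod_range_succ, Finset.prod_range_zero] at this
    norm_num at this
    have k : Nat.gcd 3 (q + 1) * Nat.card G = q ^ 2 * (q * (q ^ 2 - 1)) * (q ^ 3 + 1) :=
      Nat.eq_of_mul_eq_mul_left q.succ_pos (by
        rw [Nat.succ_eq_add_one, ← mul_assoc, mul_comm (q + 1), this]; ring)
    obtain ⟨r, hr⟩ := three_dvd q
    rcases (Nat.dvd_prime Nat.prime_three).1 (Nat.gcd_dvd_left 3 (q + 1)) with g | g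
    · rw [g, one_mul, hr] at k
      exact ⟨q ^ 2 * r * (q ^ 3 + 1), by rw [k]; ring⟩
    · obtain ⟨s, hs⟩ := ((g ▸ Nat.gcd_dvd_right 3 (q + 1) :) : 3 ∣ q + 1).trans
        (by simpa using Odd.nat_add_dvd_pow_add_pow q 1 (by decide : Odd 3) : q + 1 ∣ q ^ 3 + 1)
      rw [g, hr, hs] at k
      exact ⟨q ^ 2 * r * s, Nat.eq_of_mul_eq_mul_left three_pos (by rw [k]; ring)⟩
  · exact h

theorem EG.spe {G : Type u} [Group G] [Finite G] {A : Subgroup G} {Ω : Type u} [MulAction G Ω] {α : Ω}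
    (h : EG A α) : SPE 2 (St G α) ⊤ := by
  refine spe_of_not_dvd_inf le_top h.mx.1 ((dvd_card_of_ne_bot h.scl.pA h.ne_bot).trans (card_dvd_of_le h.AM))
    fun g _ hg d => hg ?_
  obtain ⟨t, ht, o⟩ := exists_orderOf_eq_prime d
  have t1 : t ≠ 1 := fun e => by simp [e] at o
  have t2 : t * t = 1 := by rw [← pow_two, ← o, pow_orderOf_eq_one]
  refine (h.uniq ⟨t1, by_contra fun nd => ?_⟩ ht.1 (St_smul g α ▸ ht.2 :)).symm
  obtain ⟨γ, e⟩ := h.exists_moved t1
  obtain ⟨w, -, -, -, k⟩ := h.cov' t2 nd e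
  exact h.no_tt k

/-- a non-abelian simple group of order prime to 3 is a Suzuki group -/
theorem suzuki_of_three (G : Type u) [Group G] [Finite G] :
    IsSimpleGroup G → ¬ IsMulCommutative G → ¬ 3 ∣ Nat.card G → Lie.IsoSuzuki G := by
  refine CfH9.group_induction (P := fun G _ _ => IsSimpleGroup G → ¬ IsMulCommutative G → ¬ 3 ∣ Nat.card G →
    Lie.IsoSuzuki G) (fun G _ _ ih hs nc h3 => ?_) G
  obtain ⟨A, h⟩ := exists_MC nc h3 fun H hH => ⟨fun d => h3 (d.trans (card_subgroup_dvd_card H)),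
    fun X _ _ s l => ih X (l.trans_lt (card_top (G := G) ▸ CfH9.card_lt_of_lt hH.lt_top)) s⟩
  obtain ⟨M, hM, h1, h2⟩ := h.exists_M
  have e : St G ((1 : G) : G ⧸ M) = M := MulAction.stabilizer_quotient M
  have g : EG A ((1 : G) : G ⧸ M) := ⟨h, fun β => MulAction.exists_smul_eq G _ β, e.symm ▸ hM, e.symm ▸ h1, e.symm ▸ h2⟩
  exact suz_of_bender (BS.benderSuzuki.of_simple g.spe ⟨A, h.scl.ab.1, h.scl.ab.2, by have := h.big; omega⟩) h3

theorem ks_of {G : Type u} [Group G] {H : Subgroup G} (h : ¬ 3 ∣ Nat.card H) : KS H :=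
  ⟨h, fun X _ _ s _ => suzuki_of_three X s⟩

end CfH5.S3
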